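import Groth.Agent.CohTop.Basic
import Mathlib.CategoryTheory.Sites.LeftExact

/-!
# Flasque sheaves and cohomology
-/

universe u

open CategoryTheory CategoryTheory.Limits Opposite TopologicalSpace

namespace Groth.Agent.CohTop.Flasque

open Groth.Agent.CohTop.Basic

variable {X : TopCat.{u}}

lemma mono_freeSheafMap {U V : Opens X} (i : V ⟶ U) :
    Mono (CohCx.freeSheafMap (Opens.grothendieckTopology X) i) := by
  have : ∀ W, Mono ((Functor.whiskerRight (yoneda.map i) AddCommGrpCat.free.{u}).app W) := by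
    intro W
    have : Mono ((yoneda.map i).app W) := by
      rw [CategoryTheory.mono_iff_injective]
      intro a b _
      exact @Subsingleton.elim (W.unop ⟶ V) _ a b
    exact AddCommGrpCat.free.map_mono _
  have : Mono (Functor.whiskerRight (yoneda.map i) AddCommGrpCat.free.{u}) :=
    NatTrans.mono_of_mono_app _
  exact (presheafToSheaf _ _).map_mono _

/-- Injective abelian sheaves are flasque. -/
theorem isFlasque_of_injective (F : CohTop.Ab X) [Injective F] : TopCat.Sheaf.IsFlasque F where
  epi {U V} i := by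
    rw [AddCommGrpCat.epi_iff_surjective]
    intro s
    have := mono_freeSheafMap i.unop
    refine ⟨freeHomEquiv _ U.unop F (Injective.factorThru ((freeHomEquiv _ V.unop F).symm s)
      (CohCx.freeSheafMap (Opens.grothendieckTopology X) i.unop)), ?_⟩
    refine (freeHomEquiv_map_comp _ i.unop _).symm.trans ?_
    rw [Injective.comp_factorThru, AddEquiv.apply_symm_apply]

/-- Flasque sheaves are acyclic on every open. -/
theorem HU_subsingleton (F : CohTop.Ab X) [TopCat.Sheaf.IsFlasque F] (n : ℕ) (U : Opens X) :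
    Subsingleton (CohTop.HU F (n + 1) U) := by
  refine HU_subsingleton_of_class (fun F => TopCat.Sheaf.IsFlasque F) Set.univ ?_ ?_ n F
    (by infer_instance) U (Set.mem_univ _)
  · intro F hF
    have : Injective (embedding F).X₂ := Injective.injective_under F
    have : TopCat.Sheaf.IsFlasque (embedding F).X₂ := isFlasque_of_injective _
    have : TopCat.Sheaf.IsFlasque (embedding F).X₁ := hF
    exact TopCat.Sheaf.IsFlasque.of_shortExact_of_isFlasque₁₂ (embedding_shortExact F)
  · intro F hF U _
    have : TopCat.Sheaf.IsFlasque (embedding F).X₁ := hF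
    exact (AddCommGrpCat.epi_iff_surjective _).mp
      (TopCat.Sheaf.IsFlasque.epi_of_shortExact (embedding_shortExact F))

theorem H_subsingleton (F : CohTop.Ab X) [TopCat.Sheaf.IsFlasque F] (n : ℕ) :
    Subsingleton (CohTop.H F (n + 1)) :=
  haveI := HU_subsingleton F n (⊤ : Opens X)
  (HEquivHUTop F (n + 1)).injective.subsingleton

/-- An extension of flasque sheaves is flasque. -/
theorem isFlasque_of_shortExact₁₃ {S : ShortComplex (CohTop.Ab X)} (hS : S.ShortExact)
    [TopCat.Sheaf.IsFlasque S.X₁] [TopCat.Sheaf.IsFlasque S.X₃] :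
    TopCat.Sheaf.IsFlasque S.X₂ where
  epi {U V} i := by
    rw [AddCommGrpCat.epi_iff_surjective]
    intro s
    obtain ⟨t, ht⟩ := (AddCommGrpCat.epi_iff_surjective (S.X₃.obj.map i)).mp inferInstance
      (S.g.hom.app V s)
    obtain ⟨t', ht'⟩ := (AddCommGrpCat.epi_iff_surjective (S.g.hom.app U)).mp
      (TopCat.Sheaf.IsFlasque.epi_of_shortExact (U := U.unop) hS) t
    have : S.g.hom.app V (s - S.X₂.obj.map i t') = 0 := by
      rw [map_sub]
      have h : S.g.hom.app V (S.X₂.obj.map i t') = S.X₃.obj.map i (S.g.hom.app U t') :=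
        ConcreteCategory.congr_hom (S.g.hom.naturality i) t'
      rw [h, ht', ht, sub_self]
    obtain ⟨r, hr⟩ := TopCat.Sheaf.sections_exact_of_left_exact (U := V.unop) hS.exact hS.mono_f _ this
    obtain ⟨r', hr'⟩ := (AddCommGrpCat.epi_iff_surjective (S.X₁.obj.map i)).mp inferInstance r
    refine ⟨S.f.hom.app U r' + t', ?_⟩
    have h : S.X₂.obj.map i (S.f.hom.app U r') = S.f.hom.app V (S.X₁.obj.map i r') :=
      (ConcreteCategory.congr_hom (S.f.hom.naturality i) r').symm
    refine (map_add (S.X₂.obj.map i).hom _ _).trans ?_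
    refine (congrArg₂ (· + ·) (h.trans (congrArg (S.f.hom.app V) hr')) rfl).trans ?_
    refine (congrArg₂ (· + ·) hr rfl).trans ?_
    exact sub_add_cancel _ _

/-- Local surjectivity of an epimorphism of sheaves. -/
lemma exists_cover_preimage {F G : CohTop.Ab X} (φ : F ⟶ G) [hφ : Epi φ] (U : Opens X)
    (s : G.obj.obj (op U)) :
    ∃ (ι : Type u) (V : ι → Opens X) (hV : ∀ i, V i ≤ U), iSup V = U ∧
      ∀ i, ∃ t : F.obj.obj (op (V i)), φ.hom.app _ t = G.obj.map (homOfLE (hV i)).op s := by
  have hloc : TopCat.Presheaf.IsLocallySurjective φ.hom :=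
    (CategoryTheory.Sheaf.isLocallySurjective_iff_epi' AddCommGrpCat.{u} φ).mpr hφ
  have h := fun x : U => (TopCat.Presheaf.isLocallySurjective_iff φ.hom).mp hloc U s x.1 x.2
  choose V hV t hx using h
  refine ⟨U, V, hV, le_antisymm (iSup_le hV) fun x hxU => ?_, t⟩
  exact Opens.mem_iSup.mpr ⟨⟨x, hxU⟩, hx ⟨x, hxU⟩⟩

/-- Every positive degree class dies on a covering. -/
theorem kill_class (n : ℕ) : ∀ (F : CohTop.Ab X) (U : Opens X) (ξ : CohTop.HU F (n + 1) U),
    ∃ (ι : Type u) (V : ι → Opens X) (hV : ∀ i, V i ≤ U), iSup V = U ∧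
      ∀ i, CohTop.res F (n + 1) (hV i) ξ = 0 := by
  induction n with
  | zero =>
    intro F U ξ
    have : Injective (embedding F).X₂ := Injective.injective_under F
    obtain ⟨y, hy⟩ := HU_exact₁ (embedding_shortExact F) U (rfl : 0 + 1 = 1) ξ
      (Subsingleton.elim _ _)
    have : Epi (embedding F).g := (embedding_shortExact F).epi_g
    obtain ⟨ι, V, hV, hcov, ht⟩ :=
      exists_cover_preimage (embedding F).g U (HU0Equiv (embedding F).X₃ U y)
    refine ⟨ι, V, hV, hcov, fun i => ?_⟩
    obtain ⟨t, ht⟩ := ht i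
    rw [← hy]
    refine (δ_res (embedding_shortExact F) (hV i) rfl y).trans ?_
    have : CohTop.res (embedding F).X₃ 0 (hV i) y =
        CohTop.HUmap (embedding F).g 0 (V i) ((HU0Equiv (embedding F).X₂ (V i)).symm t) := by
      apply (HU0Equiv (embedding F).X₃ (V i)).injective
      rw [HU0Equiv_res, HU0Equiv_map, AddEquiv.apply_symm_apply, ht]
    rw [this, δ_g]
  | succ n ih =>
    intro F U ξ
    have : Injective (embedding F).X₂ := Injective.injective_under F
    obtain ⟨y, hy⟩ := HU_exact₁ (embedding_shortExact F) U (rfl : n + 1 + 1 = n + 2) ξ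
      (Subsingleton.elim _ _)
    obtain ⟨ι, V, hV, hcov, ht⟩ := ih _ U y
    refine ⟨ι, V, hV, hcov, fun i => ?_⟩
    rw [← hy]
    refine (δ_res (embedding_shortExact F) (hV i) rfl y).trans ?_
    rw [ht i, map_zero]

end Groth.Agent.CohTop.Flasque
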