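import Groth.Agent.CohTop.Flasque
import Groth.Agent.CohAff.Cartan
import Mathlib.Algebra.Homology.HomologySequence

/-!
# Čech cohomology of abelian sheaves on a space

* `flasque_cechExact`: flasque sheaves are Čech acyclic for every family of opens.
* `CovSys.Good.HU_subsingleton`: Cartan's criterion.
* `cech_eq_HU`: Čech cohomology of an acyclic family computes cohomology of the union.
-/

universe u

open CategoryTheory CategoryTheory.Limits Opposite TopologicalSpace

namespace Groth.Agent.CohTop.CechBasic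

open Groth.Agent.CohTop.Basic hiding res_res res_eq
open Groth.Agent.CohAff

variable {X : TopCat.{u}} {ι : Type u}

/-- A Čech `0`-cocycle glues. -/
lemma exists_glue (F : CohTop.Ab X) (V : ι → Opens X) (t : Cochain F.obj V 0)
    (h : cd F.obj V 0 t = 0) :
    ∃ g : F.obj.obj (op (iSup V)), ∀ x : Fin 1 → ι,
      res F.obj ((inter_le V x 0).trans (le_iSup V (x 0))) g = t x := by
  have h1 : ∀ i, V i ≤ inter V (fun _ : Fin 1 ↦ i) := fun i ↦ le_inter fun _ ↦ le_rfl
  let sf : ∀ i, F.obj.obj (op (V i)) := fun i ↦ res F.obj (h1 i) (t fun _ ↦ i)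
  have hcompat : TopCat.Presheaf.IsCompatible F.obj V sf := by
    intro i j
    have h' := congrFun h ![i, j]
    rw [cd_zero_apply, Pi.zero_apply, sub_eq_zero] at h'
    have hle2 : V i ⊓ V j ≤ inter V ![i, j] := le_inter fun a ↦ by
      fin_cases a
      · exact inf_le_left
      · exact inf_le_right
    have hcongr : ∀ (y : Fin 1 → ι) (l : ι) (_ : y = fun _ ↦ l) (hy : V i ⊓ V j ≤ inter V y)
        (hl : V i ⊓ V j ≤ V l),
        res F.obj hy (t y) = res F.obj hl (res F.obj (h1 l) (t fun _ ↦ l)) := by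
      rintro y l rfl hy hl
      rw [res_res]
    have h'' := congrArg (res F.obj hle2) h'
    rw [res_res, res_res,
      hcongr _ j (by funext a; fin_cases a; rfl) _ inf_le_right,
      hcongr _ i (by funext a; fin_cases a; rfl) _ inf_le_left] at h''
    exact h''.symm
  obtain ⟨g, hg, -⟩ := TopCat.Sheaf.existsUnique_gluing' F V (iSup V)
    (fun i ↦ homOfLE (le_iSup V i)) le_rfl sf hcompat
  refine ⟨g, fun x ↦ ?_⟩
  obtain ⟨l, rfl⟩ : ∃ l, x = fun _ ↦ l := ⟨x 0, funext fun a ↦ by rw [Subsingleton.elim a 0]⟩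
  have hle : inter V (fun _ : Fin 1 ↦ l) ≤ V l := inter_le V _ 0
  refine (res_res F.obj (le_iSup V l) hle g).symm.trans ?_
  refine (congrArg (res F.obj hle) (hg l)).trans ?_
  exact (res_res _ _ _ _).trans (res_self _ _ _)

/-- Sections agreeing on a family of opens agree on its union. -/
lemma eq_of_res (F : CohTop.Ab X) (V : ι → Opens X) (g g' : F.obj.obj (op (iSup V)))
    (h : ∀ x : Fin 1 → ι, res F.obj ((inter_le V x 0).trans (le_iSup V (x 0))) g =
      res F.obj ((inter_le V x 0).trans (le_iSup V (x 0))) g') : g = g' := by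
  refine TopCat.Sheaf.eq_of_locally_eq' F V (iSup V) (fun i ↦ homOfLE (le_iSup V i)) le_rfl _ _
    fun i ↦ ?_
  have h1 : V i ≤ inter V (fun _ : Fin 1 ↦ i) := le_inter fun _ ↦ le_rfl
  have := congrArg (res F.obj h1) (h fun _ ↦ i)
  rw [res_res, res_res] at this
  exact this

lemma isFlasque_gd (F : CohTop.Ab X) : TopCat.Sheaf.IsFlasque (gd F) where
  epi {U V} i := by
    rw [AddCommGrpCat.epi_iff_surjective]
    intro (s : ∀ p : V.unop, (TopCat.Presheaf.stalk (C := AddCommGrpCat.{u}) (X := X) F.obj (p : X) : Type u))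
    classical
    refine ⟨fun p : U.unop ↦ if h : (p : X) ∈ V.unop then s ⟨p, h⟩ else 0, ?_⟩
    funext (p : V.unop)
    exact dif_pos p.2

lemma flasque_cechExact_zero {S : ShortComplex (CohTop.Ab X)} (hS : S.ShortExact)
    [TopCat.Sheaf.IsFlasque S.X₁] (V : ι → Opens X) (h₂ : CechExact S.X₂.obj V 0) :
    CechExact S.X₁.obj V 0 := by
  intro s hs
  obtain ⟨t, ht⟩ := h₂ (cmap S.f.hom V 1 s) (by rw [cd_cmap, hs, map_zero])
  have hq : cd S.X₃.obj V 0 (cmap S.g.hom V 0 t) = 0 := by rw [cd_cmap, ht, cmap_g_f]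
  obtain ⟨q, hq'⟩ := exists_glue S.X₃ V _ hq
  obtain ⟨T, hT⟩ := (AddCommGrpCat.epi_iff_surjective _).mp
    (TopCat.Sheaf.IsFlasque.epi_of_shortExact (U := iSup V) hS) q
  let T' : Cochain S.X₂.obj V 0 := fun x ↦
    res S.X₂.obj ((inter_le V x 0).trans (le_iSup V (x 0))) T
  have hgt' : cmap S.g.hom V 0 (t - T') = 0 := by
    funext x
    refine (map_sub (S.g.hom.app _).hom _ _).trans ?_
    rw [Pi.zero_apply, sub_eq_zero]
    refine (hq' x).symm.trans ?_
    rw [← hT]
    exact res_app S.g.hom _ T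
  obtain ⟨b, hb⟩ := exists_cmap_f hS hgt'
  refine ⟨b, cmap_f_injective hS V 1 ?_⟩
  rw [← cd_cmap, hb, map_sub, ht]
  have : cd S.X₂.obj V 0 T' = 0 := by
    funext x
    rw [cd_zero_apply, res_res, res_res, sub_self, Pi.zero_apply]
  rw [this, sub_zero]

lemma flasque_cechExact_succ {S : ShortComplex (CohTop.Ab X)} (hS : S.ShortExact)
    [TopCat.Sheaf.IsFlasque S.X₁] (V : ι → Opens X) (n : ℕ)
    (h₂ : CechExact S.X₂.obj V (n + 1)) (h₃ : CechExact S.X₃.obj V n) :
    CechExact S.X₁.obj V (n + 1) := by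
  intro s hs
  obtain ⟨t, ht⟩ := h₂ (cmap S.f.hom V (n + 2) s) (by rw [cd_cmap, hs, map_zero])
  have hq : cd S.X₃.obj V (n + 1) (cmap S.g.hom V (n + 1) t) = 0 := by rw [cd_cmap, ht, cmap_g_f]
  obtain ⟨a, ha⟩ := h₃ _ hq
  have hsurj := fun x ↦ (AddCommGrpCat.epi_iff_surjective _).mp
    (TopCat.Sheaf.IsFlasque.epi_of_shortExact (U := inter V x) hS) (a x)
  choose a' ha' using hsurj
  have ha'' : cmap S.g.hom V n a' = a := funext ha'
  obtain ⟨b, hb⟩ := exists_cmap_f hS (s := t - cd S.X₂.obj V n a')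
    (by rw [map_sub, ← cd_cmap, ha'', ha, sub_self])
  refine ⟨b, cmap_f_injective hS V (n + 2) ?_⟩
  rw [← cd_cmap, hb, map_sub, cd_cd, sub_zero, ht]

/-- Flasque sheaves are Čech acyclic. -/
theorem flasque_cechExact (n : ℕ) : ∀ (F : CohTop.Ab X) [TopCat.Sheaf.IsFlasque F]
    (V : ι → Opens X), CechExact F.obj V n := by
  induction n with
  | zero =>
    intro F _ V
    have : TopCat.Sheaf.IsFlasque (gdSeq F).X₁ := ‹TopCat.Sheaf.IsFlasque F›
    exact flasque_cechExact_zero (gdSeq_shortExact F) V (gdPre_cechExact F.obj V 0)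
  | succ n ih =>
    intro F _ V
    have : TopCat.Sheaf.IsFlasque (gdSeq F).X₁ := ‹TopCat.Sheaf.IsFlasque F›
    have : TopCat.Sheaf.IsFlasque (gdSeq F).X₂ := isFlasque_gd F
    have : TopCat.Sheaf.IsFlasque (gdSeq F).X₃ :=
      TopCat.Sheaf.IsFlasque.of_shortExact_of_isFlasque₁₂ (gdSeq_shortExact F)
    exact flasque_cechExact_succ (gdSeq_shortExact F) V n (gdPre_cechExact F.obj V (n + 1))
      (ih (gdSeq F).X₃ V)

/-- Cartan's criterion: Čech acyclic sheaves are acyclic on the distinguished opens. -/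
theorem Good.HU_subsingleton {C : CovSys X} {F : CohTop.Ab X} (hF : C.Good F) {U : Opens X}
    (hU : C.mem U) (n : ℕ) : Subsingleton (CohTop.HU F (n + 1) U) := by
  refine HU_subsingleton_of_class (fun F ↦ C.Good F) {U | C.mem U} ?_ ?_ n F hF U hU
  · intro F hF
    have : Injective (embedding F).X₂ := Injective.injective_under F
    exact CovSys.Good.quot (embedding_shortExact F) hF ((uAcyclic_of_injective _).good C)
  · intro F hF U hU
    exact CovSys.Good.sec_surjective (S := embedding F) (embedding_shortExact F) hF hU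

/-- Surjectivity on sections from the vanishing of the first Čech group on a cofinal system of
coverings of `U`. -/
theorem sec_surjective_of_cechExact {S : ShortComplex (CohTop.Ab X)} (hS : S.ShortExact)
    (U : Opens X)
    (h : ∀ (ι : Type u) (V : ι → Opens X), iSup V = U →
      ∃ (κ : Type u) (W : κ → Opens X) (r : κ → ι), iSup W = U ∧ (∀ k, W k ≤ V (r k)) ∧
        CechExact S.X₁.obj W 0) :
    Function.Surjective (sec S.g U) := by
  intro q
  choose W₀ hWU hpW t₀ ht₀ using fun p : U ↦ sec_locally_surjective hS q p.2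
  obtain ⟨κ, V, r, hV, hle, hex⟩ := h U W₀ (le_antisymm (iSup_le hWU)
    fun p hp ↦ Opens.mem_iSup.2 ⟨⟨p, hp⟩, hpW ⟨p, hp⟩⟩)
  have hVU : ∀ i, V i ≤ U := fun i ↦ hV ▸ le_iSup V i
  let tt : Cochain S.X₂.obj V 0 := fun x ↦
    res S.X₂.obj ((inter_le V x 0).trans (hle (x 0))) (t₀ (r (x 0)))
  have htt : cmap S.g.hom V 0 tt = fun x ↦
      res S.X₃.obj ((inter_le V x 0).trans (hVU _)) q := by
    funext x
    rw [cmap_apply]
    change sec S.g _ (res _ _ _) = _
    rw [← sec_res, ht₀, res_res]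
  obtain ⟨c, hc, hfc⟩ := cd_lift_mem hS (t := tt) (by
    rw [htt]
    funext x
    rw [cd_zero_apply, res_res, res_res]
    exact sub_self _)
  obtain ⟨b, hb⟩ := hex c hc
  have hdt' : cd S.X₂.obj V 0 (tt - cmap S.f.hom V 0 b) = 0 := by
    rw [map_sub, cd_cmap, hb, hfc, sub_self]
  have hgt' : cmap S.g.hom V 0 (tt - cmap S.f.hom V 0 b) =
      fun x ↦ res S.X₃.obj ((inter_le V x 0).trans (hVU _)) q := by
    rw [map_sub, cmap_g_f, sub_zero, htt]
  obtain ⟨g, hg⟩ := exists_glue S.X₂ V _ hdt'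
  subst hV
  refine ⟨g, eq_of_res S.X₃ V _ _ fun x ↦ ?_⟩
  rw [sec_res, hg x]
  exact congrFun hgt' x

section Comparison

variable (V : ι → Opens X)

/-- The map of Čech complexes induced by a morphism of presheaves. -/
noncomputable abbrev mlMap {P Q : TopCat.Presheaf AddCommGrpCat.{u} X} (φ : P ⟶ Q) :
    mlCech P V ⟶ mlCech Q V :=
  (cechComplexFunctor (A := AddCommGrpCat.{u}) V).map φ

lemma cmp_mlMap {P Q : TopCat.Presheaf AddCommGrpCat.{u} X} (φ : P ⟶ Q) (n : ℕ)
    (s : (mlCech P V).X n) :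
    cmp Q V n (((mlMap V φ).f n).hom s) = cmap φ V n (cmp P V n s) := by
  funext x
  rw [cmap_apply, cmp_apply, cmp_apply]
  have h : (mlMap V φ).f n ≫ cmpHom Q V n x = cmpHom P V n x ≫ φ.app (op (inter V x)) := by
    refine (Category.assoc _ _ _).symm.trans ?_
    refine (congrArg (fun f : (mlCech P V).X n ⟶ Q.obj (op (∏ᶜ (V ∘ x))) ↦
      f ≫ Q.map (homOfLE (inter_le_piObj V n x)).op) (Limits.Pi.map_π
        (fun x : Fin (n + 1) → ι ↦ φ.app (op (∏ᶜ (V ∘ x)))) x)).trans ?_
    refine (Category.assoc _ _ _).trans ?_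
    refine Eq.trans ?_ (Category.assoc _ _ _).symm
    exact congrArg (Pi.π (fun x : Fin (n + 1) → ι ↦ P.obj (op (∏ᶜ (V ∘ x)))) x ≫ ·)
      (φ.naturality _).symm
  exact congr($h s)

/-- The short complex of Čech complexes of a short complex of sheaves. -/
noncomputable def cechSeq (S : ShortComplex (CohTop.Ab X)) :
    ShortComplex (CochainComplex AddCommGrpCat.{u} ℕ) :=
  ShortComplex.mk (mlMap V S.f.hom) (mlMap V S.g.hom) (by
    ext n s
    apply (cmp_bijective _ V n).1
    refine (cmp_mlMap V S.g.hom n _).trans ?_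
    refine (congrArg (cmap S.g.hom V n) (cmp_mlMap V S.f.hom n s)).trans ?_
    exact (cmap_g_f V n _).trans (map_zero _).symm)

lemma cechSeq_shortExact {S : ShortComplex (CohTop.Ab X)} (hS : S.ShortExact)
    (hsurj : ∀ (n : ℕ) (x : Fin (n + 1) → ι), Function.Surjective (sec S.g (inter V x))) :
    (cechSeq V S).ShortExact := by
  refine HomologicalComplex.shortExact_of_degreewise_shortExact _ fun n ↦ ?_
  refine { exact := ?_, mono_f := ?_, epi_g := ?_ }
  · rw [ShortComplex.ab_exact_iff]
    intro (s : (mlCech S.X₂.obj V).X n) hs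
    obtain ⟨b, hb⟩ := exists_cmap_f hS (s := cmp S.X₂.obj V n s)
      ((cmp_mlMap V S.g.hom n s).symm.trans ((congrArg (cmp S.X₃.obj V n) hs).trans (map_zero _)))
    obtain ⟨b', rfl⟩ := (cmp_bijective S.X₁.obj V n).2 b
    exact ⟨b', (cmp_bijective S.X₂.obj V n).1 ((cmp_mlMap V S.f.hom n b').trans hb)⟩
  · rw [AddCommGrpCat.mono_iff_injective]
    intro (a : (mlCech S.X₁.obj V).X n) (b : (mlCech S.X₁.obj V).X n) hab
    apply (cmp_bijective S.X₁.obj V n).1
    apply cmap_f_injective hS V n
    rw [← cmp_mlMap, ← cmp_mlMap]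
    exact congrArg (cmp S.X₂.obj V n) hab
  · rw [AddCommGrpCat.epi_iff_surjective]
    intro (q : (mlCech S.X₃.obj V).X n)
    choose t ht using fun x ↦ hsurj n x (cmp S.X₃.obj V n q x)
    obtain ⟨t', ht'⟩ := (cmp_bijective S.X₂.obj V n).2 t
    refine ⟨t', (cmp_bijective S.X₃.obj V n).1 ((cmp_mlMap V S.g.hom n t').trans ?_)⟩
    rw [ht']
    exact funext ht

/-- The augmentation `P(⋃ V i) ⟶ C^0`. -/
noncomputable def augHom (P : TopCat.Presheaf AddCommGrpCat.{u} X) :
    P.obj (op (iSup V)) ⟶ (mlCech P V).X 0 :=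
  Pi.lift (f := fun x : Fin 1 → ι ↦ P.obj (op (∏ᶜ (V ∘ x)))) fun x ↦
    P.map (homOfLE (((piObj_le_inter V 0 x).trans (inter_le V x 0)).trans (le_iSup V (x 0)))).op

lemma cmp_augHom (P : TopCat.Presheaf AddCommGrpCat.{u} X) (g : P.obj (op (iSup V))) :
    cmp P V 0 ((augHom V P).hom g) = fun x ↦
      res P ((inter_le V x 0).trans (le_iSup V (x 0))) g := by
  funext x
  rw [cmp_apply]
  have h : augHom V P ≫ cmpHom P V 0 x =
      P.map (homOfLE ((inter_le V x 0).trans (le_iSup V (x 0)))).op := by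
    refine (Category.assoc _ _ _).symm.trans ?_
    refine (congrArg (fun f : P.obj (op (iSup V)) ⟶ P.obj (op (∏ᶜ (V ∘ x))) ↦
      f ≫ P.map (homOfLE (inter_le_piObj V 0 x)).op)
        (Pi.lift_π (f := fun x : Fin 1 → ι ↦ P.obj (op (∏ᶜ (V ∘ x)))) _ x)).trans ?_
    exact (P.map_comp _ _).symm
  exact congr($h g)

lemma augHom_d (P : TopCat.Presheaf AddCommGrpCat.{u} X) :
    augHom V P ≫ (mlCech P V).d 0 1 = 0 := by
  ext g
  apply (cmp_bijective P V 1).1
  refine (cmp_d P V 0 _).trans ?_
  refine (congrArg (cd P V 0) (cmp_augHom V P g)).trans ?_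
  funext x
  rw [cd_zero_apply, res_res, res_res, sub_self]
  exact (congrFun (map_zero (cmp P V 1)) x).symm

/-- The augmentation to Čech cohomology in degree zero. -/
noncomputable def aug (P : TopCat.Presheaf AddCommGrpCat.{u} X) :
    P.obj (op (iSup V)) ⟶ (mlCech P V).homology 0 :=
  (mlCech P V).liftCycles (augHom V P) 1 (by simp) (augHom_d V P) ≫ (mlCech P V).homologyπ 0

lemma aug_naturality {P Q : TopCat.Presheaf AddCommGrpCat.{u} X} (φ : P ⟶ Q) :
    aug V P ≫ HomologicalComplex.homologyMap (mlMap V φ) 0 = φ.app _ ≫ aug V Q := by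
  rw [aug, aug, Category.assoc, HomologicalComplex.homologyπ_naturality, ← Category.assoc,
    ← Category.assoc]
  congr 1
  rw [← cancel_mono ((mlCech Q V).iCycles 0)]
  simp only [Category.assoc, HomologicalComplex.cyclesMap_i, HomologicalComplex.liftCycles_i,
    HomologicalComplex.liftCycles_i_assoc]
  ext g
  apply (cmp_bijective Q V 0).1
  refine (cmp_mlMap V φ 0 _).trans ?_
  refine (congrArg (cmap φ V 0) (cmp_augHom V P g)).trans ?_
  refine Eq.trans ?_ (cmp_augHom V Q _).symm
  funext x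
  exact (res_app φ _ g).symm

lemma aug_bijective (F : CohTop.Ab X) : Function.Bijective (aug V F.obj).hom := by
  have hiso : IsIso ((mlCech F.obj V).homologyπ 0) := CochainComplex.isIso_homologyπ₀ _
  refine Function.Bijective.comp (g := ((mlCech F.obj V).homologyπ 0).hom)
    (f := ((mlCech F.obj V).liftCycles (augHom V F.obj) 1 (by simp) (augHom_d V F.obj)).hom)
    ((ConcreteCategory.isIso_iff_bijective _).mp hiso) ?_
  have hinj : Function.Injective ((mlCech F.obj V).iCycles 0).hom :=
    (AddCommGrpCat.mono_iff_injective _).mp inferInstance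
  have hl : ∀ g, ((mlCech F.obj V).iCycles 0).hom
      (((mlCech F.obj V).liftCycles (augHom V F.obj) 1 (by simp) (augHom_d V F.obj)).hom g) =
        (augHom V F.obj).hom g :=
    fun g ↦ congr($((mlCech F.obj V).liftCycles_i (augHom V F.obj) 1 (by simp) (augHom_d V F.obj)) g)
  constructor
  · intro g g' h
    apply eq_of_res F V
    intro x
    have := congrArg (cmp F.obj V 0) (congrArg ((mlCech F.obj V).iCycles 0).hom h)
    rw [hl, hl, cmp_augHom, cmp_augHom] at this
    exact congrFun this x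
  · intro z
    obtain ⟨g, hg⟩ := exists_glue F V (cmp F.obj V 0 (((mlCech F.obj V).iCycles 0).hom z)) (by
      rw [← cmp_d]
      exact (congrArg (cmp F.obj V 1) congr($((mlCech F.obj V).iCycles_d 0 1) z)).trans (map_zero _))
    refine ⟨g, hinj (((hl g)).trans ((cmp_bijective F.obj V 0).1 ?_))⟩
    rw [cmp_augHom]
    exact funext hg

/-- Two surjections with the same kernel have isomorphic targets. -/
lemma equiv_of_same_ker {A B C : Type*} [AddCommGroup A] [AddCommGroup B] [AddCommGroup C]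
    (f : A →+ B) (g : A →+ C) (hf : Function.Surjective f) (hg : Function.Surjective g)
    (h : ∀ a, f a = 0 ↔ g a = 0) : Nonempty (B ≃+ C) :=
  ⟨((QuotientAddGroup.quotientKerEquivOfSurjective f hf).symm.trans
    (QuotientAddGroup.quotientAddEquivOfEq (M := f.ker) (N := g.ker) (AddSubgroup.ext h))).trans
    (QuotientAddGroup.quotientKerEquivOfSurjective g hg)⟩

/-- Leray: Čech cohomology of an acyclic family is the cohomology of its union. -/
theorem cech_eq_HU (p : ℕ) : ∀ (F : CohTop.Ab X),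
    (∀ (n : ℕ) (x : Fin (n + 1) → ι) (q : ℕ), Subsingleton (CohTop.HU F (q + 1) (inter V x))) →
    Nonempty (CohTop.cechH F.obj V p ≃+ CohTop.HU F p (iSup V)) := by
  induction p with
  | zero =>
    intro F _
    exact ⟨(AddEquiv.ofBijective (aug V F.obj).hom (aug_bijective V F)).symm.trans
      (HU0Equiv F (iSup V)).symm⟩
  | succ p ih =>
    intro F h
    have : Injective (embedding F).X₂ := Injective.injective_under F
    have hS := embedding_shortExact F
    have hsurj : ∀ (n : ℕ) (x : Fin (n + 1) → ι),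
        Function.Surjective (sec (embedding F).g (inter V x)) := by
      intro n x q
      have := h n x 0
      obtain ⟨y, hy⟩ := HU_exact₃ hS (inter V x) (rfl : 0 + 1 = 1)
        ((HU0Equiv _ _).symm q) (Subsingleton.elim _ _)
      refine ⟨HU0Equiv _ _ y, ?_⟩
      have := congrArg (HU0Equiv (embedding F).X₃ (inter V x)) hy
      rw [HU0Equiv_map, AddEquiv.apply_symm_apply] at this
      exact this
    have hC := cechSeq_shortExact V hS hsurj
    have hI : ∀ n, IsZero ((cechSeq V (embedding F)).X₂.homology (n + 1)) := fun n ↦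
      (isZero_homology_iff_cechExact _ V n).mpr (uAcyclic_of_injective _ ι V n)
    have hQ : ∀ (n : ℕ) (x : Fin (n + 1) → ι) (q : ℕ),
        Subsingleton (CohTop.HU (embedding F).X₃ (q + 1) (inter V x)) := by
      intro n x q
      have := h n x (q + 1)
      refine subsingleton_of_forall_eq 0 fun y ↦ ?_
      obtain ⟨z, hz⟩ := HU_exact₃ hS (inter V x) (rfl : q + 1 + 1 = q + 2) y (Subsingleton.elim _ _)
      rw [← hz, Subsingleton.elim z 0, map_zero]
    cases p with
    | zero =>
      let ψ : (embedding F).X₃.obj.obj (op (iSup V)) →+ CohTop.cechH F.obj V 1 :=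
        (aug V (embedding F).X₃.obj ≫ hC.δ 0 1 rfl).hom
      let φ : (embedding F).X₃.obj.obj (op (iSup V)) →+ CohTop.HU F 1 (iSup V) :=
        (δ hS (iSup V) 0 1 rfl).comp (HU0Equiv _ _).symm.toAddMonoidHom
      have hψ : Function.Surjective ψ := by
        refine Function.Surjective.comp (g := (hC.δ 0 1 rfl).hom)
          (f := (aug V (embedding F).X₃.obj).hom) ?_ (aug_bijective V (embedding F).X₃).2
        intro z
        obtain ⟨w, hw⟩ := (ShortComplex.ab_exact_iff _).mp (hC.homology_exact₁ 0 1 rfl) z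
          (@Subsingleton.elim _ (AddCommGrpCat.subsingleton_of_isZero (hI 0)) _ _)
        exact ⟨w, hw⟩
      have hφ : Function.Surjective φ := by
        intro z
        obtain ⟨y, hy⟩ := HU_exact₁ hS (iSup V) (rfl : 0 + 1 = 1) z (Subsingleton.elim _ _)
        exact ⟨HU0Equiv _ _ y, by simpa [φ] using hy⟩
      refine equiv_of_same_ker ψ φ hψ hφ fun a ↦ ?_
      have hφ0 : φ a = 0 ↔ ∃ b, sec (embedding F).g (iSup V) b = a := by
        constructor
        · intro ha
          obtain ⟨y, hy⟩ := HU_exact₃ hS (iSup V) (rfl : 0 + 1 = 1) _ ha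
          refine ⟨HU0Equiv _ _ y, ?_⟩
          have := congrArg (HU0Equiv (embedding F).X₃ (iSup V)) hy
          rw [HU0Equiv_map] at this
          exact this.trans (AddEquiv.apply_symm_apply _ _)
        · rintro ⟨b, rfl⟩
          have : (HU0Equiv (embedding F).X₃ (iSup V)).symm (sec (embedding F).g (iSup V) b) =
              CohTop.HUmap (embedding F).g 0 (iSup V) ((HU0Equiv _ _).symm b) := by
            apply (HU0Equiv (embedding F).X₃ (iSup V)).injective
            rw [HU0Equiv_map, AddEquiv.apply_symm_apply, AddEquiv.apply_symm_apply]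
          exact (congrArg (δ hS (iSup V) 0 1 rfl) this).trans (δ_g hS (iSup V) rfl _)
      rw [hφ0]
      constructor
      · intro ha
        obtain ⟨w, hw⟩ := (ShortComplex.ab_exact_iff _).mp (hC.homology_exact₃ 0 1 rfl) _ ha
        obtain ⟨b, rfl⟩ := (aug_bijective V (embedding F).X₂).2 w
        refine ⟨b, (aug_bijective V (embedding F).X₃).1 ?_⟩
        exact (congr($(aug_naturality V (embedding F).g.hom) b)).symm.trans hw
      · rintro ⟨b, rfl⟩
        change (hC.δ 0 1 rfl).hom ((aug V _).hom _) = 0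
        have h1 : (aug V (embedding F).X₃.obj).hom (sec (embedding F).g (iSup V) b) =
            (HomologicalComplex.homologyMap (mlMap V (embedding F).g.hom) 0).hom
              ((aug V (embedding F).X₂.obj).hom b) :=
          (congr($(aug_naturality V (embedding F).g.hom) b)).symm
        rw [h1]
        exact congr($(hC.comp_δ 0 1 rfl) _)
    | succ p =>
      obtain ⟨e⟩ := ih (embedding F).X₃ hQ
      let e₁ : CohTop.cechH (embedding F).X₃.obj V (p + 1) ≃+ CohTop.cechH F.obj V (p + 2) :=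
        (hC.δIso (p + 1) (p + 2) rfl (hI p) (hI (p + 1))).addCommGroupIsoToAddEquiv
      have e₂ : Function.Bijective (δ hS (iSup V) (p + 1) (p + 2) rfl) := by
        refine ⟨(injective_iff_map_eq_zero _).mpr fun y hy ↦ ?_, fun z ↦
          HU_exact₁ hS (iSup V) rfl z (Subsingleton.elim _ _)⟩
        obtain ⟨w, hw⟩ := HU_exact₃ hS (iSup V) rfl y hy
        rw [← hw, Subsingleton.elim w 0, map_zero]
      exact ⟨(e₁.symm.trans e).trans (AddEquiv.ofBijective _ e₂)⟩

end Comparison

end Groth.Agent.CohTop.CechBasic
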