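import Groth.Agent.CohTop.Restrict
import Groth.Agent.CohTop.Flasque
import Groth.Agent.CohTop.CechBasic

/-!
# Higher direct images and cohomology

* `RpushIso`: `R^i f_* F` is the sheaf associated to `V ↦ H^i(f⁻¹V, F)`.
* `isZero_sheafify_iff`: a sheafification vanishes iff every section is locally zero.
* `HU_transfer`: cohomology through a functor exact on an effaceable class.
* `H_push_of_vanishing`: `H^p(X, F) = H^p(Y, f_* F)` when the higher direct images vanish.
-/

universe u

open CategoryTheory CategoryTheory.Limits Opposite TopologicalSpace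

namespace Groth.Agent.CohTop.Push

open Groth.Agent.CohTop.Basic

variable {X Y : TopCat.{u}}

/-- Every section is locally zero. -/
def LocallyZero (P : (Opens Y)ᵒᵖ ⥤ AddCommGrpCat.{u}) : Prop :=
  ∀ (U : Opens Y) (s : P.obj (op U)) (y : Y), y ∈ U →
    ∃ (V : Opens Y) (h : V ≤ U), y ∈ V ∧ (P.map (homOfLE h).op).hom s = 0

theorem isZero_sheafify_iff (P : (Opens Y)ᵒᵖ ⥤ AddCommGrpCat.{u}) :
    IsZero ((presheafToSheaf (Opens.grothendieckTopology Y) AddCommGrpCat.{u}).obj P) ↔
      LocallyZero P := by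
  constructor
  · intro h U s y hy
    have h0 : (toSheafify (Opens.grothendieckTopology Y) P).app (op U) = 0 :=
      (((sheafToPresheaf _ _).map_isZero h).obj (op U)).eq_of_tgt _ _
    have := Presheaf.equalizerSieve_mem (Opens.grothendieckTopology Y)
      (toSheafify (Opens.grothendieckTopology Y) P) s 0 (by rw [h0]; rfl)
    obtain ⟨V, i, hV, hyV⟩ := this y hy
    exact ⟨V, leOfHom i, hyV, (hV : _ = _).trans (map_zero _)⟩
  · intro h
    let Z : (Opens Y)ᵒᵖ ⥤ AddCommGrpCat.{u} := (Functor.const _).obj (AddCommGrpCat.of PUnit.{u + 1})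
    have hsub : ∀ U, Subsingleton (Z.obj U) := fun _ => inferInstanceAs (Subsingleton PUnit.{u + 1})
    have hZ : IsZero Z := (Functor.isZero_iff _).mpr fun U => @AddCommGrpCat.isZero_of_subsingleton _ (hsub U)
    have : Presheaf.IsLocallyInjective (Opens.grothendieckTopology Y) (0 : P ⟶ Z) := by
      refine ⟨fun {U} s t _ y hy => ?_⟩
      obtain ⟨V, hV, hyV, hs⟩ := h U.unop (s - t) y hy
      refine ⟨V, homOfLE hV, ?_, hyV⟩
      rw [map_sub, sub_eq_zero] at hs
      exact hs
    have : Presheaf.IsLocallySurjective (Opens.grothendieckTopology Y) (0 : P ⟶ Z) :=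
      Presheaf.isLocallySurjective_of_surjective _ _ fun _ x => ⟨0, @Subsingleton.elim PUnit.{u + 1} _ _ _⟩
    have hW : (Opens.grothendieckTopology Y).W (0 : P ⟶ Z) :=
      (Opens.grothendieckTopology Y).W_of_isLocallyBijective (0 : P ⟶ Z)
    have : IsIso ((presheafToSheaf (Opens.grothendieckTopology Y) AddCommGrpCat.{u}).map (0 : P ⟶ Z)) :=
      ((Opens.grothendieckTopology Y).W_iff _).mp hW
    exact (Functor.map_isZero _ hZ).of_iso
      (asIso ((presheafToSheaf (Opens.grothendieckTopology Y) AddCommGrpCat.{u}).map (0 : P ⟶ Z)))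

/-- The presheaf `V ↦ H^i(f⁻¹V, F)`. -/
noncomputable abbrev pushPre (f : X ⟶ Y) (F : CohTop.Ab X) (i : ℕ) :
    (Opens Y)ᵒᵖ ⥤ AddCommGrpCat.{u} :=
  (Opens.map f).op ⋙ Sheaf.cohomologyPresheaf.{u} F i

/-- Presheaf direct image followed by sheafification. -/
noncomputable abbrev sheafPushPre (f : X ⟶ Y) :
    ((Opens X)ᵒᵖ ⥤ AddCommGrpCat.{u}) ⥤ CohTop.Ab Y :=
  Restrict.whisk (Opens.map f) ⋙ presheafToSheaf (Opens.grothendieckTopology Y) AddCommGrpCat.{u}

/-- `f_*` is the sheafified presheaf direct image. -/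
noncomputable def pushIso (f : X ⟶ Y) :
    sheafToPresheaf (Opens.grothendieckTopology X) AddCommGrpCat.{u} ⋙ sheafPushPre f ≅
      CohTop.push f :=
  NatIso.ofComponents
    (fun F => (asIso (sheafificationAdjunction (Opens.grothendieckTopology Y)
      AddCommGrpCat.{u}).counit).app ((CohTop.push f).obj F))
    (fun φ => (sheafificationAdjunction (Opens.grothendieckTopology Y)
      AddCommGrpCat.{u}).counit.naturality ((CohTop.push f).map φ))

/-- Homology commutes with an exact functor. -/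
noncomputable def homologyMapIso {A B : Type*} [Category A] [Abelian A] [Category B] [Abelian B]
    (G : A ⥤ B) [G.Additive] [PreservesFiniteLimits G] [PreservesFiniteColimits G]
    (K : CochainComplex A ℕ) (i : ℕ) :
    ((G.mapHomologicalComplex _).obj K).homology i ≅ G.obj (K.homology i) :=
  (K.sc i).mapHomologyIso G

/-- `R^i f_* F` is the sheaf associated to `V ↦ H^i(f⁻¹V, F)`. -/
noncomputable def RpushIso (f : X ⟶ Y) (F : CohTop.Ab X) (i : ℕ) :
    (CohTop.Rpush f i).obj F ≅
      (presheafToSheaf (Opens.grothendieckTopology Y) AddCommGrpCat.{u}).obj (pushPre f F i) :=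
  (injectiveResolution F).isoRightDerivedObj (CohTop.push f) i ≪≫
    (HomologicalComplex.homologyFunctor _ _ i).mapIso
      ((NatIso.mapHomologicalComplex (pushIso f).symm _).app (injectiveResolution F).cocomplex) ≪≫
    homologyMapIso (sheafPushPre f) (Derived.preCx (injectiveResolution F)) i ≪≫
    (sheafPushPre f).mapIso (Derived.homologyIso (injectiveResolution F) i)

lemma isZero_Rpush_iff (f : X ⟶ Y) (F : CohTop.Ab X) (i : ℕ) :
    IsZero ((CohTop.Rpush f i).obj F) ↔ LocallyZero (pushPre f F i) :=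
  (RpushIso f F i).isZero_iff.trans (isZero_sheafify_iff _)

section sections

variable {S : ShortComplex (CohTop.Ab X)} (hS : S.ShortExact) (U : Opens X)

/-- The connecting map out of sections. -/
noncomputable def sectδ : S.X₃.obj.obj (op U) →+ CohTop.HU S.X₁ 1 U :=
  (δ hS U 0 1 rfl).comp (HU0Equiv S.X₃ U).symm.toAddMonoidHom

lemma sectδ_eq_zero_iff (a : S.X₃.obj.obj (op U)) :
    sectδ hS U a = 0 ↔ ∃ b, (S.g.hom.app (op U)).hom b = a := by
  constructor
  · intro ha
    obtain ⟨y, hy⟩ := HU_exact₃ hS U (rfl : 0 + 1 = 1) _ ha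
    refine ⟨HU0Equiv S.X₂ U y, ?_⟩
    rw [← HU0Equiv_map, hy]
    exact AddEquiv.apply_symm_apply _ _
  · rintro ⟨b, rfl⟩
    have : (HU0Equiv S.X₃ U).symm ((S.g.hom.app (op U)).hom b) =
        CohTop.HUmap S.g 0 U ((HU0Equiv S.X₂ U).symm b) := by
      apply (HU0Equiv S.X₃ U).injective
      rw [HU0Equiv_map, AddEquiv.apply_symm_apply, AddEquiv.apply_symm_apply]
    exact (congrArg (δ hS U 0 1 rfl) this).trans (δ_g hS U rfl _)

lemma sectδ_surjective (h : Subsingleton (CohTop.HU S.X₂ 1 U)) : Function.Surjective (sectδ hS U) := by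
  intro z
  obtain ⟨y, hy⟩ := HU_exact₁ hS U (rfl : 0 + 1 = 1) z (Subsingleton.elim _ _)
  refine ⟨HU0Equiv S.X₃ U y, ?_⟩
  change δ hS U 0 1 rfl ((HU0Equiv S.X₃ U).symm (HU0Equiv S.X₃ U y)) = z
  rw [AddEquiv.symm_apply_apply, hy]

lemma δ_bijective {n : ℕ} (h : Subsingleton (CohTop.HU S.X₂ (n + 1) U))
    (h' : Subsingleton (CohTop.HU S.X₂ (n + 2) U)) :
    Function.Bijective (δ hS U (n + 1) (n + 2) rfl) := by
  refine ⟨(injective_iff_map_eq_zero _).mpr fun y hy => ?_, fun z =>
    HU_exact₁ hS U rfl z (Subsingleton.elim _ _)⟩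
  obtain ⟨w, hw⟩ := HU_exact₃ hS U rfl y hy
  rw [← hw, Subsingleton.elim w 0, map_zero]

end sections

/-- Transfer of cohomology through a functor which is exact on an effaceable class. -/
theorem HU_transfer (Φ : CohTop.Ab X ⥤ CohTop.Ab Y) [Φ.PreservesZeroMorphisms]
    (U : Opens X) (V : Opens Y)
    (e : Φ ⋙ sheafToPresheaf _ _ ⋙ (evaluation _ _).obj (op V) ≅
      sheafToPresheaf _ _ ⋙ (evaluation _ _).obj (op U))
    (hI : ∀ (I : CohTop.Ab X), Injective I → ∀ n, Subsingleton (CohTop.HU (Φ.obj I) (n + 1) V))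
    (P : CohTop.Ab X → Prop) (hcok : ∀ F, P F → P (embedding F).X₃)
    (hex : ∀ F, P F → ((embedding F).map Φ).ShortExact) (n : ℕ) :
    ∀ F, P F → Nonempty (CohTop.HU (Φ.obj F) n V ≃+ CohTop.HU F n U) := by
  induction n with
  | zero =>
    intro F _
    exact ⟨((HU0Equiv (Φ.obj F) V).trans (e.app F).addCommGroupIsoToAddEquiv).trans
      (HU0Equiv F U).symm⟩
  | succ n ih =>
    intro F hF
    have hinj : Injective (embedding F).X₂ := Injective.injective_under F
    have hS := embedding_shortExact F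
    have hS' := hex F hF
    cases n with
    | zero =>
      refine CechBasic.equiv_of_same_ker
        ((sectδ hS' V).comp (e.app (embedding F).X₃).addCommGroupIsoToAddEquiv.symm.toAddMonoidHom)
        (sectδ hS U) ((sectδ_surjective hS' V (hI _ hinj 0)).comp
          (e.app (embedding F).X₃).addCommGroupIsoToAddEquiv.symm.surjective)
        (sectδ_surjective hS U inferInstance) fun a => ?_
      refine (sectδ_eq_zero_iff hS' V _).trans (Iff.trans ?_ (sectδ_eq_zero_iff hS U a).symm)
      have hnat : ∀ b, (e.app (embedding F).X₃).addCommGroupIsoToAddEquiv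
          (((Φ.map (embedding F).g).hom.app (op V)).hom b) =
          ((embedding F).g.hom.app (op U)).hom
            ((e.app (embedding F).X₂).addCommGroupIsoToAddEquiv b) :=
        fun b => congr($(e.hom.naturality (embedding F).g) b)
      constructor
      · rintro ⟨b, hb⟩
        refine ⟨(e.app (embedding F).X₂).addCommGroupIsoToAddEquiv b, (hnat b).symm.trans ?_⟩
        exact (congrArg _ hb).trans (AddEquiv.apply_symm_apply _ _)
      · rintro ⟨b, hb⟩
        obtain ⟨b', rfl⟩ := (e.app (embedding F).X₂).addCommGroupIsoToAddEquiv.surjective b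
        refine ⟨b', (e.app (embedding F).X₃).addCommGroupIsoToAddEquiv.injective ?_⟩
        exact ((hnat b').trans hb).trans (AddEquiv.apply_symm_apply _ _).symm
    | succ n =>
      obtain ⟨e'⟩ := ih (embedding F).X₃ (hcok F hF)
      have h₁ := δ_bijective hS' V (hI _ hinj n) (hI _ hinj (n + 1))
      have h₂ := δ_bijective hS U (n := n) inferInstance inferInstance
      exact ⟨((AddEquiv.ofBijective _ h₁).symm.trans e').trans (AddEquiv.ofBijective _ h₂)⟩

/-- All higher direct images vanish. -/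
def HigherVanish (f : X ⟶ Y) (F : CohTop.Ab X) : Prop :=
  ∀ q, LocallyZero (pushPre f F (q + 1))

lemma HigherVanish.of_isZero (f : X ⟶ Y) (F : CohTop.Ab X)
    (h : ∀ q, IsZero ((CohTop.Rpush f (q + 1)).obj F)) : HigherVanish f F :=
  fun q => (isZero_Rpush_iff f F (q + 1)).mp (h q)

lemma HigherVanish.quot {f : X ⟶ Y} {F : CohTop.Ab X} (hF : HigherVanish f F) :
    HigherVanish f (embedding F).X₃ := by
  have : Injective (embedding F).X₂ := Injective.injective_under F
  intro q V s y hy
  obtain ⟨V', hV', hyV, h0⟩ := hF (q + 1) V (δ (embedding_shortExact F) ((Opens.map f).obj V) (q + 1) (q + 2) rfl s) y hy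
  refine ⟨V', hV', hyV, ?_⟩
  have hle : (Opens.map f).obj V' ≤ (Opens.map f).obj V := leOfHom ((Opens.map f).map (homOfLE hV'))
  have hb := δ_bijective (embedding_shortExact F) ((Opens.map f).obj V') (n := q) inferInstance inferInstance
  apply hb.1
  rw [map_zero]
  refine Eq.trans ?_ h0
  exact (δ_res (embedding_shortExact F) hle rfl s).symm

lemma HigherVanish.map_shortExact {f : X ⟶ Y} {F : CohTop.Ab X} (hF : HigherVanish f F) :
    ((embedding F).map (CohTop.push f)).ShortExact := by
  have : (CohTop.push f).IsRightAdjoint :=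
    (TopCat.Sheaf.pullbackPushforwardAdjunction AddCommGrpCat.{u} f).isRightAdjoint
  have hS := embedding_shortExact F
  have := hS.mono_f
  have hg : Epi ((CohTop.push f).map (embedding F).g) := by
    rw [← CategoryTheory.Sheaf.isLocallySurjective_iff_epi' AddCommGrpCat.{u}]
    refine (TopCat.Presheaf.isLocallySurjective_iff _).mpr fun V s y hy => ?_
    obtain ⟨V', hV', hyV, h0⟩ := hF 0 V (sectδ hS ((Opens.map f).obj V) s) y hy
    have hle : (Opens.map f).obj V' ≤ (Opens.map f).obj V := leOfHom ((Opens.map f).map (homOfLE hV'))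
    obtain ⟨t, ht⟩ := (sectδ_eq_zero_iff hS ((Opens.map f).obj V')
      (((embedding F).X₃.obj.map (homOfLE hle).op).hom s)).mp (by
        refine Eq.trans ?_ h0
        refine Eq.trans ?_ (δ_res hS hle rfl ((HU0Equiv _ _).symm s)).symm
        refine congrArg (δ hS ((Opens.map f).obj V') 0 1 rfl) ?_
        apply (HU0Equiv (embedding F).X₃ ((Opens.map f).obj V')).injective
        refine Eq.trans (AddEquiv.apply_symm_apply _ _) ?_
        refine Eq.trans ?_ (HU0Equiv_res (embedding F).X₃ hle _).symm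
        exact congrArg _ (AddEquiv.apply_symm_apply _ _).symm)
    exact ⟨V', hV', ⟨t, ht⟩, hyV⟩
  exact ShortComplex.ShortExact.mk' (hS.exact.map_of_mono_of_preservesKernel (CohTop.push f) inferInstance
    inferInstance) (inferInstanceAs (Mono ((CohTop.push f).map (embedding F).f))) hg

/-- Degenerate Leray: `H^p(X, F) = H^p(Y, f_* F)`. -/
theorem H_push_of_vanishing (f : X ⟶ Y) (F : CohTop.Ab X) (h : HigherVanish f F) (p : ℕ) :
    Nonempty (CohTop.H F p ≃+ CohTop.H ((CohTop.push f).obj F) p) := by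
  obtain ⟨e⟩ := HU_transfer (CohTop.push f) ⊤ ⊤ (Iso.refl _)
    (fun I _ n => by
      have := Flasque.isFlasque_of_injective I
      exact @Flasque.HU_subsingleton _ ((CohTop.push f).obj I)
        (TopCat.Sheaf.IsFlasque.pushforward_isFlasque I f) n ⊤)
    (HigherVanish f) (fun _ hF => hF.quot) (fun _ hF => hF.map_shortExact) p F h
  exact ⟨((HEquivHUTop F p).trans e.symm).trans (HEquivHUTop _ p).symm⟩

lemma subsingleton_HU_bot (F : CohTop.Ab X) (p : ℕ) (U : Opens X) (hU : U = ⊥) :
    Subsingleton (CohTop.HU F p U) := by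
  subst hU
  have hz : IsZero (CohCx.freeSheaf (Opens.grothendieckTopology X) (⊥ : Opens X)) := by
    rw [IsZero.iff_id_eq_zero]
    apply (freeHomEquiv _ _ _).injective
    exact @Subsingleton.elim _ (AddCommGrpCat.subsingleton_of_isZero
      ((TopCat.Sheaf.isTerminalOfEmpty _).isZero)) _ _
  refine subsingleton_of_forall_eq 0 fun x => ?_
  obtain ⟨y, rfl⟩ : ∃ y : Abelian.Ext (CohCx.freeSheaf (Opens.grothendieckTopology X) (⊥ : Opens X)) F p,
      y = x := ⟨x, rfl⟩
  exact ((congrArg (fun g => (Abelian.Ext.mk₀ g).comp y (zero_add p))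
    (hz.eq_of_src (𝟙 _) 0)).trans (by rw [Abelian.Ext.mk₀_zero, Abelian.Ext.zero_comp])) ▸
      (Abelian.Ext.mk₀_id_comp y).symm

/-- A closed embedding has no higher direct images. -/
theorem higherVanish_of_isClosedEmbedding (f : X ⟶ Y) (hf : Topology.IsClosedEmbedding f)
    (F : CohTop.Ab X) : HigherVanish f F := by
  intro q V s y hy
  by_cases hyr : y ∈ Set.range f
  · obtain ⟨x, rfl⟩ := hyr
    obtain ⟨ι, W, hW, hcov, h0⟩ := Flasque.kill_class q F ((Opens.map f).obj V) s
    obtain ⟨i, hi⟩ := Opens.mem_iSup.mp (hcov.symm ▸ (hy : x ∈ (Opens.map f).obj V) : x ∈ iSup W)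
    obtain ⟨T, hT, hTW⟩ := hf.isInducing.isOpen_iff.mp (W i).isOpen
    refine ⟨⟨T, hT⟩ ⊓ V, inf_le_right, ⟨(Set.ext_iff.mp hTW x).mpr hi, hy⟩, ?_⟩
    have h1 : (Opens.map f).obj (⟨T, hT⟩ ⊓ V) ≤ W i := fun z hz => (Set.ext_iff.mp hTW z).mp hz.1
    refine Eq.trans ?_ ((congrArg (CohTop.res F (q + 1) h1) (h0 i)).trans (map_zero _))
    exact (Basic.res_res F (q + 1) (hW i) h1 s).symm
  · refine ⟨⟨(Set.range f)ᶜ, hf.isClosed_range.isOpen_compl⟩ ⊓ V, inf_le_right, ⟨hyr, hy⟩, ?_⟩
    refine @Subsingleton.elim _ (subsingleton_HU_bot F (q + 1) _ ?_) _ _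
    exact le_bot_iff.mp fun z hz => (hz.1 ⟨z, rfl⟩).elim

end Groth.Agent.CohTop.Push
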