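import Groth.Agent.CohTop.NoethColim
import Groth.Agent.CohTop.Push

/-!
# Grothendieck vanishing on Noetherian spaces

Induction on the closed set supporting the sheaf; for an irreducible support the sheaf is compared
with the constant sheaf of its generic sections, which is flasque.
-/

universe u

open CategoryTheory CategoryTheory.Limits Opposite TopologicalSpace

namespace Groth.Agent.CohTop.Vanishing

open Groth.Agent.CohTop.Basic

variable {X : TopCat.{u}}

/-- Restriction of sections. -/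
noncomputable abbrev rs (F : CohTop.Ab X) {U V : Opens X} (h : V ≤ U) :
    F.obj.obj (op U) →+ F.obj.obj (op V) := (F.obj.map (homOfLE h).op).hom

lemma rs_rs (F : CohTop.Ab X) {U V W : Opens X} (h : V ≤ U) (h' : W ≤ V) (s : F.obj.obj (op U)) :
    rs F h' (rs F h s) = rs F (h'.trans h) s :=
  (ConcreteCategory.congr_hom (F.obj.map_comp (homOfLE h).op (homOfLE h').op) s).symm

lemma rs_refl (F : CohTop.Ab X) {U : Opens X} (s : F.obj.obj (op U)) : rs F le_rfl s = s :=
  (congrArg (fun φ => (ConcreteCategory.hom φ) s) (F.obj.map_id (op U))).trans rfl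

lemma rs_app {F G : CohTop.Ab X} (φ : F ⟶ G) {U V : Opens X} (h : V ≤ U) (s : F.obj.obj (op U)) :
    (φ.hom.app (op V)).hom (rs F h s) = rs G h ((φ.hom.app (op U)).hom s) :=
  ConcreteCategory.congr_hom (φ.hom.naturality (homOfLE h).op) s

lemma eq_zero_of_locally (F : CohTop.Ab X) {U : Opens X} (s : F.obj.obj (op U))
    (h : ∀ x ∈ U, ∃ (V : Opens X) (hV : V ≤ U), x ∈ V ∧ rs F hV s = 0) : s = 0 := by
  choose V hV hxV hs using fun x : U => h x x.2
  refine TopCat.Sheaf.eq_of_locally_eq' F (V := U) V (fun x => homOfLE (hV x))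
    (fun x hx => Opens.mem_iSup.2 ⟨⟨x, hx⟩, hxV _⟩) s 0 fun x => ?_
  exact (hs x).trans (map_zero _).symm

lemma app_injective {F G : CohTop.Ab X} (φ : F ⟶ G) [Mono φ] (U : Opens X) :
    Function.Injective (φ.hom.app (op U)).hom := by
  have : Mono φ.hom := (inferInstance : Mono ((sheafToPresheaf _ _).map φ))
  exact (AddCommGrpCat.mono_iff_injective _).1 inferInstance

lemma sections_exact {T : ShortComplex (CohTop.Ab X)} (hT : T.ShortExact) (U : Opens X)
    (s : T.X₂.obj.obj (op U)) (hs : (T.g.hom.app (op U)).hom s = 0) :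
    ∃ t, (T.f.hom.app (op U)).hom t = s := by
  obtain ⟨y, hy⟩ := HU_exact₂ hT U ((HU0Equiv T.X₂ U).symm s) (by
    apply (HU0Equiv T.X₃ U).injective
    rw [HU0Equiv_map, AddEquiv.apply_symm_apply, map_zero]
    exact hs)
  refine ⟨HU0Equiv T.X₁ U y, ?_⟩
  rw [← HU0Equiv_map, hy, AddEquiv.apply_symm_apply]

lemma locally_lift {F G : CohTop.Ab X} (φ : F ⟶ G) [Epi φ] {U : Opens X} (t : G.obj.obj (op U))
    {x : X} (hx : x ∈ U) : ∃ (V : Opens X) (hV : V ≤ U), x ∈ V ∧
      ∃ s, (φ.hom.app (op V)).hom s = rs G hV t := by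
  obtain ⟨κ, V, hV, hsup, h⟩ := Flasque.exists_cover_preimage φ U t
  obtain ⟨i, hi⟩ := Opens.mem_iSup.1 (hsup.ge hx)
  exact ⟨V i, hV i, hi, h i⟩

/-- `F` vanishes off `Z`. -/
def Supp (Z : Set X) (F : CohTop.Ab X) : Prop :=
  ∀ V : Opens X, Disjoint (V : Set X) Z → ∀ s : F.obj.obj (op V), s = 0

lemma Supp.of_mono {F G : CohTop.Ab X} (φ : F ⟶ G) [Mono φ] {Z : Set X} (h : Supp Z G) :
    Supp Z F := fun V hV s =>
  app_injective φ V ((h V hV _).trans (map_zero _).symm)

lemma Supp.of_epi {F G : CohTop.Ab X} (φ : F ⟶ G) [Epi φ] {Z : Set X} (h : Supp Z F) :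
    Supp Z G := fun V hV t => by
  refine eq_zero_of_locally G t fun x hx => ?_
  obtain ⟨W, hW, hxW, s, hs⟩ := locally_lift φ t hx
  refine ⟨W, hW, hxW, ?_⟩
  rw [← hs, h W (hV.mono_left hW) s, map_zero]

/-- The open complement of a closed set. -/
abbrev co (Y : Closeds X) : Opens X := ⟨(Y : Set X)ᶜ, Y.isClosed.isOpen_compl⟩

/-- Sections supported in `Y`, as a presheaf. -/
noncomputable def gamPre (Y : Closeds X) (F : CohTop.Ab X) :
    TopCat.Presheaf AddCommGrpCat.{u} X where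
  obj V := AddCommGrpCat.of (rs F (inf_le_left : V.unop ⊓ co Y ≤ V.unop)).ker
  map {U V} i := AddCommGrpCat.ofHom
    { toFun := fun s => ⟨rs F (leOfHom i.unop) s.1, by
        have hs : rs F (inf_le_left : U.unop ⊓ co Y ≤ U.unop) s.1 = 0 := s.2
        change rs F _ (rs F _ s.1) = 0
        rw [rs_rs, ← rs_rs F (inf_le_left : U.unop ⊓ co Y ≤ U.unop)
          (inf_le_inf_right (co Y) (leOfHom i.unop)), hs, map_zero]⟩
      map_zero' := Subtype.ext (map_zero _)
      map_add' := fun _ _ => Subtype.ext (map_add _ _ _) }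
  map_id U := by
    ext s
    exact rs_refl F _
  map_comp f g := by
    ext s
    exact (rs_rs F (leOfHom f.unop) (leOfHom g.unop) _).symm

theorem isSheaf_gamPre (Y : Closeds X) (F : CohTop.Ab X) : (gamPre Y F).IsSheaf := by
  rw [TopCat.Presheaf.isSheaf_iff_isSheafUniqueGluing]
  intro κ U sf h
  obtain ⟨t, ht, huniq⟩ := TopCat.Sheaf.existsUnique_gluing F U (fun k => (sf k).1)
    (fun k l => congrArg Subtype.val (h k l))
  refine ⟨⟨t, ?_⟩, fun k => Subtype.ext (ht k), fun s hs => Subtype.ext (huniq _ fun k =>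
    congrArg Subtype.val (hs k))⟩
  change rs F (inf_le_left : iSup U ⊓ co Y ≤ iSup U) t = 0
  refine eq_zero_of_locally F _ fun x hx => ?_
  obtain ⟨k, hk⟩ := Opens.mem_iSup.1 hx.1
  refine ⟨U k ⊓ co Y, inf_le_inf_right _ (le_iSup U k), ⟨hk, hx.2⟩, ?_⟩
  have hsk : rs F (inf_le_left : U k ⊓ co Y ≤ U k) (sf k).1 = 0 := (sf k).2
  rw [rs_rs, ← rs_rs F (le_iSup U k) inf_le_left, show rs F (le_iSup U k) t = (sf k).1 from ht k,
    hsk]

/-- The subsheaf of sections supported in `Y`. -/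
noncomputable def gam (Y : Closeds X) (F : CohTop.Ab X) : CohTop.Ab X :=
  ⟨gamPre Y F, isSheaf_gamPre Y F⟩

/-- The inclusion. -/
noncomputable def gamι (Y : Closeds X) (F : CohTop.Ab X) : gam Y F ⟶ F :=
  ⟨{ app := fun V => AddCommGrpCat.ofHom (AddSubgroup.subtype _)
     naturality := fun {U V} i => by ext s; rfl }⟩

instance (Y : Closeds X) (F : CohTop.Ab X) : Mono (gamι Y F) :=
  (sheafToPresheaf _ _).mono_of_mono_map (by
    have : ∀ V, Mono (((sheafToPresheaf _ _).map (gamι Y F)).app V) := fun V =>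
      (AddCommGrpCat.mono_iff_injective _).2 Subtype.val_injective
    exact NatTrans.mono_of_mono_app _)

/-- The inclusion of the sheaves of sections with supports. -/
noncomputable def gamMap {Y Y' : Closeds X} (h : Y ≤ Y') (F : CohTop.Ab X) : gam Y F ⟶ gam Y' F :=
  ⟨{ app := fun V => AddCommGrpCat.ofHom
      { toFun := fun s => ⟨s.1, by
          have hs : rs F (inf_le_left : V.unop ⊓ co Y ≤ V.unop) s.1 = 0 := s.2
          change rs F _ s.1 = 0
          rw [← rs_rs F (inf_le_left : V.unop ⊓ co Y ≤ V.unop)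
            (inf_le_inf_left _ (Set.compl_subset_compl.2 h : co Y' ≤ co Y)), hs, map_zero]⟩
        map_zero' := rfl
        map_add' := fun _ _ => rfl }
     naturality := fun {U V} i => by ext s; rfl }⟩

lemma supp_gam (Y : Closeds X) (F : CohTop.Ab X) : Supp (Y : Set X) (gam Y F) := fun V hV s => by
  have hle : V ≤ V ⊓ co Y := le_inf le_rfl fun x hx hxY => Set.disjoint_left.1 hV hx hxY
  have hs : rs F (inf_le_left : V ⊓ co Y ≤ V) s.1 = 0 := s.2
  refine Subtype.ext ?_
  have h1 := rs_rs F (inf_le_left : V ⊓ co Y ≤ V) hle s.1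
  rw [hs, map_zero, rs_refl] at h1
  exact h1.symm

/-- `gamι` as a short exact sequence. -/
noncomputable abbrev gamSES (Y : Closeds X) (F : CohTop.Ab X) : ShortComplex (CohTop.Ab X) :=
  ShortComplex.mk (gamι Y F) (cokernel.π (gamι Y F)) (cokernel.condition _)

lemma gamSES_shortExact (Y : Closeds X) (F : CohTop.Ab X) : (gamSES Y F).ShortExact :=
  ShortComplex.ShortExact.mk' (ShortComplex.exact_of_g_is_cokernel _ (cokernelIsCokernel _))
    inferInstance inferInstance

lemma supp_coker_gam {Z Y Y' : Closeds X} (hZ : (Z : Set X) ⊆ Y ∪ Y') {F : CohTop.Ab X}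
    (hF : Supp (Z : Set X) F) : Supp (Y' : Set X) (cokernel (gamι Y F)) := fun V hV t => by
  refine eq_zero_of_locally _ t fun x hx => ?_
  obtain ⟨W, hW, hxW, s, hs⟩ := locally_lift (cokernel.π (gamι Y F)) t hx
  refine ⟨W, hW, hxW, hs.symm.trans ?_⟩
  have hd : Disjoint ((W ⊓ co Y : Opens X) : Set X) Z :=
    Set.disjoint_left.2 fun y hy hyZ => (hZ hyZ).elim hy.2 (Set.disjoint_left.1 hV (hW hy.1))
  exact ConcreteCategory.congr_hom (congr($(cokernel.condition (gamι Y F)).hom.app (op W)))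
    (⟨s, hF _ hd _⟩ : (gam Y F).obj.obj (op W))

/-- All cohomology in degrees `≥ n` vanishes. -/
def Van (n : ℕ) (F : CohTop.Ab X) : Prop := ∀ p, n ≤ p → Subsingleton (CohTop.HU F p ⊤)

lemma Van.middle {T : ShortComplex (CohTop.Ab X)} (hT : T.ShortExact) {n : ℕ} (h₁ : Van n T.X₁)
    (h₃ : Van n T.X₃) : Van n T.X₂ := fun p hp => by
  refine subsingleton_of_forall_eq 0 fun x => ?_
  have := h₁ p hp; have := h₃ p hp
  obtain ⟨y, hy⟩ := HU_exact₂ hT ⊤ x (Subsingleton.elim _ _)
  rw [← hy, Subsingleton.elim y 0, map_zero]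

lemma Van.left {T : ShortComplex (CohTop.Ab X)} (hT : T.ShortExact) {n : ℕ}
    (h₂ : Van (n + 1) T.X₂) (h₃ : Van n T.X₃) : Van (n + 1) T.X₁ := fun p hp => by
  obtain ⟨q, rfl⟩ : ∃ q, p = q + 1 := ⟨p - 1, by omega⟩
  refine subsingleton_of_forall_eq 0 fun x => ?_
  have := h₂ (q + 1) hp; have := h₃ q (by omega)
  obtain ⟨y, hy⟩ := HU_exact₁ hT ⊤ (rfl : q + 1 = q + 1) x (Subsingleton.elim _ _)
  rw [← hy, Subsingleton.elim y 0, map_zero]

lemma Van.of_supp_empty {F : CohTop.Ab X} (h : Supp (∅ : Set X) F) (n : ℕ) : Van n F := fun p _ => by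
  have hs : ∀ V : Opens X, Subsingleton (F.obj.obj (op V)) := fun V =>
    ⟨fun a b => (h V (Set.disjoint_empty _) a).trans (h V (Set.disjoint_empty _) b).symm⟩
  cases p with
  | zero => have := hs ⊤; exact (HU0Equiv F ⊤).injective.subsingleton
  | succ q =>
    have : TopCat.Sheaf.IsFlasque F := ⟨fun {U V} i => (AddCommGrpCat.epi_iff_surjective _).2
      fun t => ⟨0, (hs V.unop).elim _ _⟩⟩
    exact Flasque.HU_subsingleton F q ⊤

/-- Every chain of irreducible closed subsets of `Z` has fewer than `n + 1` members. -/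
def Bound (Z : Set X) (n : ℕ) : Prop :=
  ∀ T : IrreducibleCloseds X, (T : Set X) ⊆ Z → Order.height T < n

lemma Bound.mono {Z Y : Set X} {n : ℕ} (h : Bound Z n) (hY : Y ⊆ Z) : Bound Y n :=
  fun T hT => h T (hT.trans hY)

lemma Bound.proper {Z Y : Closeds X} (hi : IsIrreducible (Z : Set X)) {n : ℕ}
    (h : Bound (Z : Set X) (n + 1)) (hY : Y < Z) : Bound (Y : Set X) n := by
  intro T hT
  let T' : IrreducibleCloseds X := ⟨(Z : Set X), hi, Z.isClosed⟩
  have hlt : T < T' := lt_of_le_of_ne (fun x hx => hY.le (hT hx)) fun e => by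
    subst e
    exact absurd hY (not_lt_of_ge (fun x hx => hT hx))
  refine lt_of_add_lt_add_right (a := (1 : ℕ∞)) ?_
  exact lt_of_le_of_lt (Order.height_add_one_le hlt) (by simpa using h T' subset_rfl)

section irreducible

variable {Z : Closeds X} (hi : IsIrreducible (Z : Set X)) {F : CohTop.Ab X}

/-- `V` meets `Z`. -/
abbrev Meets (Z : Closeds X) (V : Opens X) : Prop := ((V : Set X) ∩ (Z : Set X)).Nonempty

lemma Meets.mono {V W : Opens X} (h : Meets Z V) (hVW : V ≤ W) : Meets Z W :=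
  Set.Nonempty.mono (Set.inter_subset_inter_left _ hVW) h

include hi in
lemma Meets.inf {V W : Opens X} (hV : Meets Z V) (hW : Meets Z W) : Meets Z (V ⊓ W) := by
  obtain ⟨x, hxV, hxZ⟩ := hV
  obtain ⟨y, hyW, hyZ⟩ := hW
  obtain ⟨z, hz, hz'⟩ := hi.2 V W V.2 W.2 ⟨x, hxZ, hxV⟩ ⟨y, hyZ, hyW⟩
  exact ⟨z, hz', hz⟩

/-- Opens meeting `Z`, ordered downwards. -/
abbrev MI (Z : Closeds X) : Type u := {W : Opens X // Meets Z W}ᵒᵈ

lemma MI.le {V W : MI Z} (h : V ≤ W) : (OrderDual.ofDual W).1 ≤ (OrderDual.ofDual V).1 := h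

include hi in
lemma isDirected_MI : IsDirected (MI Z) (· ≤ ·) := ⟨fun a b => ⟨OrderDual.toDual
    ⟨(OrderDual.ofDual a).1 ⊓ (OrderDual.ofDual b).1,
      Meets.inf hi (OrderDual.ofDual a).2 (OrderDual.ofDual b).2⟩,
    show (OrderDual.ofDual a).1 ⊓ (OrderDual.ofDual b).1 ≤ (OrderDual.ofDual a).1 from inf_le_left,
    show (OrderDual.ofDual a).1 ⊓ (OrderDual.ofDual b).1 ≤ (OrderDual.ofDual b).1 from inf_le_right⟩⟩

/-- The sections near the generic point. -/
noncomputable abbrev genDiag (Z : Closeds X) (F : CohTop.Ab X) : MI Z ⥤ AddCommGrpCat.{u} where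
  obj W := F.obj.obj (op (OrderDual.ofDual W).1)
  map {V W} h := F.obj.map (homOfLE (MI.le (leOfHom h))).op
  map_id W := F.obj.map_id _
  map_comp f g := F.obj.map_comp (homOfLE (MI.le (leOfHom f))).op (homOfLE (MI.le (leOfHom g))).op

/-- The presheaf of constant generic sections. -/
noncomputable def genPre (Z : Closeds X) (A : AddCommGrpCat.{u}) :
    TopCat.Presheaf AddCommGrpCat.{u} X where
  obj V := AddCommGrpCat.of (PLift (Meets Z V.unop) → A)
  map {U V} i := AddCommGrpCat.ofHom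
    { toFun := fun g h => g ⟨h.down.mono (leOfHom i.unop)⟩
      map_zero' := rfl
      map_add' := fun _ _ => rfl }

include hi in
theorem isSheaf_genPre (A : AddCommGrpCat.{u}) : (genPre Z A).IsSheaf := by
  rw [TopCat.Presheaf.isSheaf_iff_isSheafUniqueGluing]
  intro κ U sf h
  have hex : ∀ m : PLift (Meets Z (iSup U)), ∃ k, Meets Z (U k) := fun m => by
    obtain ⟨x, hxU, hxZ⟩ := m.down
    obtain ⟨k, hk⟩ := Opens.mem_iSup.1 hxU
    exact ⟨k, x, hk, hxZ⟩
  choose k hk using hex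
  refine ⟨fun m => sf (k m) ⟨hk m⟩, fun l => ?_, fun t ht => ?_⟩
  · funext m
    exact congrFun (h (k ⟨m.down.mono (le_iSup U l)⟩) l) ⟨Meets.inf hi (hk _) m.down⟩
  · funext m
    exact congrFun (ht (k m)) ⟨hk m⟩

/-- The constant sheaf on `Z`. -/
noncomputable def genSheaf (A : AddCommGrpCat.{u}) : CohTop.Ab X :=
  ⟨genPre Z A, isSheaf_genPre hi A⟩

theorem isFlasque_genSheaf (A : AddCommGrpCat.{u}) : TopCat.Sheaf.IsFlasque (genSheaf hi A) := by
  classical
  refine ⟨fun {U V} i => (AddCommGrpCat.epi_iff_surjective _).2 fun g => ?_⟩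
  by_cases h : Meets Z V.unop
  · exact ⟨fun _ => g ⟨h⟩, funext fun _ => rfl⟩
  · exact ⟨0, funext fun m => absurd m.down h⟩

lemma supp_genSheaf (A : AddCommGrpCat.{u}) : Supp (Z : Set X) (genSheaf hi A) := fun V hV g =>
  funext fun m => absurd m.down fun ⟨_, hxV, hxZ⟩ => Set.disjoint_left.1 hV hxV hxZ

variable (F) in
/-- The map to the generic sections. -/
noncomputable def toGen : F ⟶ genSheaf hi (colimit (genDiag Z F)) :=
  ⟨{ app := fun V => AddCommGrpCat.ofHom
      { toFun := fun s m => (colimit.ι (genDiag Z F)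
          (OrderDual.toDual (⟨V.unop, m.down⟩ : {W : Opens X // Meets Z W}))).hom s
        map_zero' := funext fun _ => map_zero _
        map_add' := fun _ _ => funext fun _ => map_add _ _ _ }
     naturality := fun {U V} i => by
      ext s
      funext m
      exact colimit.w_apply (genDiag Z F)
        (homOfLE (leOfHom i.unop : (OrderDual.toDual
          (⟨U.unop, m.down.mono (leOfHom i.unop)⟩ : {W : Opens X // Meets Z W})) ≤
          OrderDual.toDual (⟨V.unop, m.down⟩ : {W : Opens X // Meets Z W}))) s }⟩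

/-- The proper closed subsets of `Z`. -/
abbrev YI (Z : Closeds X) : Type u := {Y : Closeds X // Y < Z}

include hi in
lemma exists_proper {W : Opens X} (hW : Meets Z W) :
    ∃ Y : Closeds X, Y < Z ∧ ∀ x, x ∉ Y → x ∈ W ∨ x ∉ Z := by
  refine ⟨⟨(Z : Set X) \ W, Z.isClosed.sdiff W.2⟩, lt_of_le_of_ne Set.diff_subset fun e => ?_, ?_⟩
  · obtain ⟨x, hxW, hxZ⟩ := hW
    rw [← e] at hxZ
    exact hxZ.2 hxW
  · exact fun x hx => (em (x ∈ W)).imp_right fun h h' => hx ⟨h', h⟩

/-- Every section is locally supported on a proper closed subset of `Z`. -/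
def Small (Z : Closeds X) (K : CohTop.Ab X) : Prop :=
  ∀ (V : Opens X) (s : K.obj.obj (op V)), ∀ x ∈ V, ∃ (V' : Opens X) (h : V' ≤ V), x ∈ V' ∧
    ∃ Y : Closeds X, Y < Z ∧ rs K (inf_le_left : V' ⊓ co Y ≤ V') (rs K h s) = 0

lemma le_of_supp {K : CohTop.Ab X} (hK : Supp (Z : Set X) K) {V V₀ : Opens X} (h₀ : V₀ ≤ V)
    (s : K.obj.obj (op V)) (hs : rs K h₀ s = 0) (hV : ∀ x ∈ V, x ∈ V₀ ∨ x ∉ Z) : s = 0 := by
  refine eq_zero_of_locally K s fun x hx => ?_
  rcases hV x hx with h | h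
  · exact ⟨V₀, h₀, h, hs⟩
  · exact ⟨V ⊓ co Z, inf_le_left, ⟨hx, h⟩,
      hK (V ⊓ co Z) (Set.disjoint_left.2 fun y hy hy' => hy.2 hy') _⟩

variable (hF : Supp (Z : Set X) F)

include hF

lemma small_kernel : Small Z (kernel (toGen hi F)) := by
  intro V s x hx
  by_cases hV : Meets Z V
  swap
  · refine ⟨V, le_rfl, hx, ?_⟩
    have h0 := Supp.of_mono (Z := (Z : Set X)) (kernel.ι (toGen hi F)) hF V
      (Set.disjoint_left.2 fun y hy hy' => hV ⟨y, hy, hy'⟩) s
    obtain ⟨y, hy⟩ := hi.1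
    refine ⟨⊥, bot_lt_iff_ne_bot.2 fun e => ?_, ?_⟩
    · rw [e] at hy; exact hy
    · rw [h0, map_zero, map_zero]
  let t := ((kernel.ι (toGen hi F)).hom.app (op V)).hom s
  have ht : ((toGen hi F).hom.app (op V)).hom t = 0 :=
    ConcreteCategory.congr_hom (congr($(kernel.condition (toGen hi F)).hom.app (op V))) s
  let V₁ : MI Z := OrderDual.toDual (⟨V, hV⟩ : {W : Opens X // Meets Z W})
  have := isDirected_MI hi
  have : Nonempty (MI Z) := ⟨V₁⟩
  obtain ⟨W, f, g, hfg⟩ := Concrete.colimit_exists_of_rep_eq (genDiag Z F) (i := V₁) (j := V₁) t 0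
    ((congrFun ht ⟨hV⟩).trans (map_zero _).symm)
  have hWV : (OrderDual.ofDual W).1 ≤ V := leOfHom f
  have htW : rs F hWV t = 0 := hfg.trans (map_zero _)
  obtain ⟨Y, hY, hY'⟩ := exists_proper hi (OrderDual.ofDual W).2
  refine ⟨V, le_rfl, hx, Y, hY, ?_⟩
  rw [rs_refl]
  refine app_injective (kernel.ι (toGen hi F)) _ ?_
  rw [rs_app, map_zero]
  refine le_of_supp hF (V₀ := V ⊓ co Y ⊓ (OrderDual.ofDual W).1) inf_le_left _ ?_
    fun y hy => (hY' y hy.2).imp_left fun h => ⟨hy, h⟩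
  rw [rs_rs, ← rs_rs F hWV inf_le_right, htW, map_zero]

lemma small_cokernel : Small Z (cokernel (toGen hi F)) := by
  intro V c x hx
  have hC : Supp (Z : Set X) (cokernel (toGen hi F)) :=
    Supp.of_epi (cokernel.π (toGen hi F)) (supp_genSheaf hi _)
  obtain ⟨V', hV', hxV', g, hg⟩ := locally_lift (cokernel.π (toGen hi F)) c hx
  refine ⟨V', hV', hxV', ?_⟩
  by_cases hm : Meets Z V'
  swap
  · obtain ⟨y, hy⟩ := hi.1
    refine ⟨⊥, bot_lt_iff_ne_bot.2 fun e => ?_, ?_⟩
    · rw [e] at hy; exact hy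
    · rw [hC V' (Set.disjoint_left.2 fun y hy hy' => hm ⟨y, hy, hy'⟩) (rs _ hV' c), map_zero]
  let V₁ : MI Z := OrderDual.toDual (⟨V', hm⟩ : {W : Opens X // Meets Z W})
  have := isDirected_MI hi
  have : Nonempty (MI Z) := ⟨V₁⟩
  obtain ⟨W, s, hs⟩ := Concrete.colimit_exists_rep (genDiag Z F) (g ⟨hm⟩)
  have hmW := Meets.inf hi hm (OrderDual.ofDual W).2
  obtain ⟨Y, hY, hY'⟩ := exists_proper hi hmW
  refine ⟨Y, hY, le_of_supp hC (V₀ := V' ⊓ co Y ⊓ (V' ⊓ (OrderDual.ofDual W).1)) inf_le_left _ ?_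
    fun y hy => (hY' y hy.2).imp_left fun h => ⟨hy, h⟩⟩
  let W₀ := V' ⊓ co Y ⊓ (V' ⊓ (OrderDual.ofDual W).1)
  have hW₀ : W₀ ≤ V' := inf_le_left.trans inf_le_left
  have hW₁ : W₀ ≤ (OrderDual.ofDual W).1 := inf_le_right.trans inf_le_right
  have hg' : rs (genSheaf hi (colimit (genDiag Z F))) hW₀ g =
      ((toGen hi F).hom.app (op W₀)).hom (rs F hW₁ s) := by
    funext m
    change g ⟨m.down.mono hW₀⟩ = _
    exact (congrArg g (Subsingleton.elim _ _)).trans (hs.symm.trans (colimit.w_apply (genDiag Z F)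
      (homOfLE (hW₁ : W ≤ OrderDual.toDual (⟨W₀, m.down⟩ : {W : Opens X // Meets Z W}))) s).symm)
  rw [rs_rs, ← hg, ← rs_app (cokernel.π (toGen hi F)), hg']
  exact ConcreteCategory.congr_hom (congr($(cokernel.condition (toGen hi F)).hom.app (op W₀))) _

end irreducible

variable [NoetherianSpace X]

lemma van_small {Z : Closeds X} (hi : IsIrreducible (Z : Set X)) {n : ℕ} {K : CohTop.Ab X}
    (hK : Small Z K) (hvan : ∀ Y, Y < Z → ∀ G, Supp (Y : Set X) G → Van n G) : Van n K := by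
  have : Nonempty (YI Z) := by
    obtain ⟨y, hy⟩ := hi.1
    exact ⟨⟨⊥, bot_lt_iff_ne_bot.2 fun e => by rw [e] at hy; exact hy⟩⟩
  have : IsDirected (YI Z) (· ≤ ·) := ⟨fun a b => by
    refine ⟨⟨a.1 ⊔ b.1, lt_of_le_of_ne (sup_le a.2.le b.2.le) fun e => ?_⟩,
      (le_sup_left : a.1 ≤ a.1 ⊔ b.1), (le_sup_right : b.1 ≤ a.1 ⊔ b.1)⟩
    have hsub : (Z : Set X) ⊆ a.1 ∪ b.1 := by
      intro x hx
      rw [← e] at hx
      exact hx
    rcases isPreirreducible_iff_isClosed_union_isClosed.1 hi.2 a.1 b.1 a.1.isClosed b.1.isClosed hsub with h | h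
    · exact absurd a.2 (not_lt_of_ge h)
    · exact absurd b.2 (not_lt_of_ge h)⟩
  let D : YI Z ⥤ CohTop.Ab X :=
    { obj := fun Y => gam Y.1 K
      map := fun {a b} h => gamMap (Subtype.coe_le_coe.2 (leOfHom h)) K
      map_id := fun a => by ext V s; rfl
      map_comp := fun f g => by ext V s; rfl }
  let co' : Cocone D :=
    { pt := K
      ι := { app := fun Y => gamι Y.1 K
             naturality := fun a b h => by ext V s; rfl } }
  let φ : colimit D ⟶ K := colimit.desc D co'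
  have hφ : ∀ i (V : Opens X) (t : (D.obj i).obj.obj (op V)),
      (φ.hom.app (op V)).hom (((colimit.ι D i).hom.app (op V)).hom t) = t.1 := fun i V t =>
    ConcreteCategory.congr_hom (congr($(colimit.ι_desc co' i).hom.app (op V))) t
  have : Mono φ := (sheafToPresheaf _ _).mono_of_mono_map (by
    have : ∀ V, Mono (((sheafToPresheaf _ _).map φ).app V) := fun V => by
      refine (AddCommGrpCat.mono_iff_injective _).2 ((injective_iff_map_eq_zero _).2 fun a ha => ?_)
      obtain ⟨i, t, ht⟩ := NoethColim.exists_rep_section (colimit.isColimit D) V.unop a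
      have h0 : t = 0 := Subtype.ext ((hφ i V.unop t).symm.trans
        ((congrArg (φ.hom.app V).hom ht).trans ha))
      exact ht.symm.trans ((congrArg _ h0).trans (map_zero _))
    exact NatTrans.mono_of_mono_app _)
  have : Epi φ := (CategoryTheory.Sheaf.isLocallySurjective_iff_epi' AddCommGrpCat.{u} φ).1
    ((TopCat.Presheaf.isLocallySurjective_iff φ.hom).2 fun V s x hx => by
      obtain ⟨V', hV', hxV', Y, hY, hs⟩ := hK V s x hx
      exact ⟨V', hV',
        ⟨((colimit.ι D ⟨Y, hY⟩).hom.app (op V')).hom ⟨rs K hV' s, hs⟩, hφ _ _ _⟩, hxV'⟩)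
  have := isIso_of_mono_of_epi φ
  intro p hp
  refine subsingleton_of_forall_eq 0 fun x => ?_
  obtain ⟨i, y, hy⟩ := NoethColim.exists_rep (colimit.isColimit D) p ⊤ (CohTop.HUmap (inv φ) p ⊤ x)
  have := hvan i.1 i.2 _ (supp_gam i.1 K) p hp
  rw [Subsingleton.elim y 0, map_zero] at hy
  calc x = CohTop.HUmap φ p ⊤ (CohTop.HUmap (inv φ) p ⊤ x) := by
        rw [← HUmap_comp, IsIso.inv_hom_id, HUmap_id]
    _ = 0 := by rw [← hy, map_zero]

theorem van_of_supp (Z : Closeds X) : ∀ (n : ℕ), Bound (Z : Set X) n →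
    ∀ F : CohTop.Ab X, Supp (Z : Set X) F → Van n F := by
  induction Z using WellFoundedLT.induction with
  | _ Z ih =>
  intro n hn F hF
  rcases (Z : Set X).eq_empty_or_nonempty with he | hne
  · exact Van.of_supp_empty (he ▸ hF) n
  by_cases hp : IsPreirreducible (Z : Set X)
  · have hi : IsIrreducible (Z : Set X) := ⟨hne, hp⟩
    obtain ⟨m, rfl⟩ : ∃ m, n = m + 1 := by
      refine ⟨n - 1, ?_⟩
      rcases Nat.eq_zero_or_pos n with rfl | h
      · exact absurd (hn ⟨(Z : Set X), hi, Z.isClosed⟩ subset_rfl) (not_lt_of_ge bot_le)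
      · omega
    have hvan : ∀ Y, Y < Z → ∀ G, Supp (Y : Set X) G → Van m G :=
      fun Y hY G hG => ih Y hY m (Bound.proper hi hn hY) G hG
    let ψ := toGen hi F
    have hK : Van m (kernel ψ) := van_small hi (small_kernel hi hF) hvan
    have hC : Van m (cokernel ψ) := van_small hi (small_cokernel hi hF) hvan
    let T₂ : ShortComplex (CohTop.Ab X) :=
      ShortComplex.mk (kernel.ι (cokernel.π ψ)) (cokernel.π ψ) (kernel.condition _)
    have hT₂ : T₂.ShortExact := ShortComplex.ShortExact.mk'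
      (ShortComplex.exact_of_f_is_kernel _ (kernelIsKernel _)) inferInstance inferInstance
    let T₁ : ShortComplex (CohTop.Ab X) := ShortComplex.mk (kernel.ι ψ)
      (kernel.lift (cokernel.π ψ) ψ (cokernel.condition _)) (by
        rw [← cancel_mono (kernel.ι (cokernel.π ψ)), Category.assoc, kernel.lift_ι,
          kernel.condition, zero_comp])
    have hT₁ : T₁.ShortExact := by
      refine ShortComplex.ShortExact.mk' (ShortComplex.exact_of_f_is_kernel _ ?_) inferInstance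
        ((ShortComplex.exact_of_g_is_cokernel (ShortComplex.mk ψ (cokernel.π ψ) (cokernel.condition _))
          (cokernelIsCokernel ψ)).epi_kernelLift)
      refine KernelFork.IsLimit.ofι _ _ (fun k hk => kernel.lift ψ k ?_)
        (fun k hk => kernel.lift_ι _ _ _) (fun k hk m hm => ?_)
      · rw [← kernel.lift_ι (cokernel.π ψ) ψ (cokernel.condition _), ← Category.assoc]
        exact (congrArg (· ≫ kernel.ι (cokernel.π ψ)) hk).trans zero_comp
      · rw [← cancel_mono (kernel.ι ψ), kernel.lift_ι]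
        exact hm
    have hG : Van (m + 1) T₂.X₂ := fun p hp => by
      obtain ⟨q, rfl⟩ : ∃ q, p = q + 1 := ⟨p - 1, by omega⟩
      have := isFlasque_genSheaf hi (colimit (genDiag Z F))
      exact Flasque.HU_subsingleton _ q ⊤
    exact Van.middle hT₁ (fun p hp => hK p (by omega)) (Van.left hT₂ hG hC)
  · rw [isPreirreducible_iff_isClosed_union_isClosed] at hp
    push Not at hp
    obtain ⟨z₁, z₂, h₁, h₂, hsub, hn₁, hn₂⟩ := hp
    let Z₁ : Closeds X := ⟨(Z : Set X) ∩ z₁, Z.isClosed.inter h₁⟩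
    let Z₂ : Closeds X := ⟨(Z : Set X) ∩ z₂, Z.isClosed.inter h₂⟩
    have hZ₁ : Z₁ < Z := lt_of_le_of_ne Set.inter_subset_left
      fun e => hn₁ (Set.inter_eq_left.1 (congrArg SetLike.coe e))
    have hZ₂ : Z₂ < Z := lt_of_le_of_ne Set.inter_subset_left
      fun e => hn₂ (Set.inter_eq_left.1 (congrArg SetLike.coe e))
    exact Van.middle (gamSES_shortExact Z₁ F)
      (ih Z₁ hZ₁ n (hn.mono hZ₁.le) _ (supp_gam Z₁ F))
      (ih Z₂ hZ₂ n (hn.mono hZ₂.le) _ (supp_coker_gam (Y := Z₁) (Y' := Z₂)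
        (fun x hx => (hsub hx).imp (fun h => ⟨hx, h⟩) (fun h => ⟨hx, h⟩)) hF))

/-- Grothendieck vanishing. -/
theorem grothendieck_vanishing (d : ℕ) (hd : topologicalKrullDim X ≤ d) (F : CohTop.Ab X) (p : ℕ)
    (hp : d < p) : Subsingleton (CohTop.H F p) := by
  have hb : Bound ((⊤ : Closeds X) : Set X) (d + 1) := fun T _ => by
    have h1 : Order.height T ≤ (d : ℕ∞) := by
      exact_mod_cast (Order.height_le_krullDim T).trans hd
    refine lt_of_le_of_lt h1 ?_
    exact_mod_cast Nat.lt_succ_self d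
  have hs : Supp ((⊤ : Closeds X) : Set X) F := fun V hV s =>
    eq_zero_of_locally F s fun x hx => absurd (Set.mem_univ x) (Set.disjoint_left.1 hV hx)
  have := van_of_supp ⊤ (d + 1) hb F hs p hp
  exact (HEquivHUTop F p).injective.subsingleton

end Groth.Agent.CohTop.Vanishing
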