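import Groth.Agent.CohTop.Basic
import Mathlib.CategoryTheory.Abelian.Injective.Ext
import Mathlib.CategoryTheory.Abelian.RightDerived

/-!
# Cohomology presheaves are the derived functors of the inclusion into presheaves

`rightDerivedIso`: for an abelian sheaf `F` on a small site, the `n`-th right derived functor of
`sheafToPresheaf` at `F` is the presheaf `U ↦ H^n(U, F)`.
-/

universe u

open CategoryTheory CategoryTheory.Limits Opposite

namespace Groth.Agent.CohTop.Derived

open Groth.Agent.CohTop.Basic

/-- Homology is any cokernel of the map to cycles. -/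
noncomputable def isoOfCokernel {A : Type*} [Category A] [Abelian A] (K : CochainComplex A ℕ) (n : ℕ)
    {H : A} (θ : K.cycles n ⟶ H) (w : K.toCycles ((ComplexShape.up ℕ).prev n) n ≫ θ = 0)
    (he : (ShortComplex.mk _ _ w).Exact) (hθ : Epi θ) : K.homology n ≅ H :=
  haveI : Epi (ShortComplex.mk _ _ w).g := hθ
  (K.homologyIsCokernel _ n rfl).coconePointUniqueUpToIso he.gIsCokernel

variable {C : Type u} [SmallCategory C] {J : GrothendieckTopology C}
  {F : Sheaf J AddCommGrpCat.{u}} (R : InjectiveResolution F)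

/-- The complex of presheaves underlying an injective resolution. -/
noncomputable abbrev preCx : CochainComplex (Cᵒᵖ ⥤ AddCommGrpCat.{u}) ℕ :=
  ((sheafToPresheaf J AddCommGrpCat.{u}).mapHomologicalComplex _).obj R.cocomplex

/-- The section underlying an element of the cycles. -/
noncomputable def sect (n : ℕ) (U : Cᵒᵖ) :
    ((preCx R).cycles n).obj U →+ (R.cocomplex.X n).obj.obj (op U.unop) :=
  (((preCx R).iCycles n).app U).hom

lemma sect_injective (n : ℕ) (U : Cᵒᵖ) : Function.Injective (sect R n U) :=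
  (AddCommGrpCat.mono_iff_injective (((preCx R).iCycles n).app U)).mp inferInstance

lemma d_sect (n : ℕ) (U : Cᵒᵖ) (z : ((preCx R).cycles n).obj U) :
    ((R.cocomplex.d n (n + 1)).hom.app (op U.unop)).hom (sect R n U z) = 0 :=
  congr($(NatTrans.congr_app ((preCx R).iCycles_d n (n + 1)) U) z)

lemma sect_naturality (n : ℕ) {U V : Cᵒᵖ} (i : U ⟶ V) (z : ((preCx R).cycles n).obj U) :
    sect R n V ((((preCx R).cycles n).map i).hom z) =
      ((R.cocomplex.X n).obj.map i.unop.op).hom (sect R n U z) :=
  congr($(((preCx R).iCycles n).naturality i) z)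

lemma exists_sect (n : ℕ) (U : Cᵒᵖ) (s : (R.cocomplex.X n).obj.obj (op U.unop))
    (h : ((R.cocomplex.d n (n + 1)).hom.app (op U.unop)).hom s = 0) :
    ∃ z, sect R n U z = s := by
  let S := ShortComplex.mk ((preCx R).iCycles n) ((preCx R).d n (n + 1)) ((preCx R).iCycles_d n (n + 1))
  have hS : S.Exact := S.exact_of_f_is_kernel ((preCx R).cyclesIsKernel n (n + 1) (by simp))
  exact (ShortComplex.ab_exact_iff _).mp (hS.map ((evaluation Cᵒᵖ AddCommGrpCat.{u}).obj U)) s h

lemma sect_toCycles (i n : ℕ) (U : Cᵒᵖ) (y : ((preCx R).X i).obj U) :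
    sect R n U ((((preCx R).toCycles i n).app U).hom y) =
      ((R.cocomplex.d i n).hom.app (op U.unop)).hom
        (show (R.cocomplex.X i).obj.obj (op U.unop) from y) :=
  congr($(NatTrans.congr_app ((preCx R).toCycles_i i n) U) y)

lemma d_cycle (n : ℕ) (U : Cᵒᵖ) (z : ((preCx R).cycles n).obj U) :
    (freeHomEquiv J U.unop (R.cocomplex.X n)).symm (sect R n U z) ≫
      R.cocomplex.d n (n + 1) = 0 := by
  rw [freeHomEquiv_symm_comp, d_sect, map_zero]

/-- The class of a cocycle. -/
noncomputable def classExt (n : ℕ) (U : Cᵒᵖ) (z : ((preCx R).cycles n).obj U) :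
    Abelian.Ext (CohCx.freeSheaf J U.unop) F n :=
  R.extMk ((freeHomEquiv J U.unop (R.cocomplex.X n)).symm (sect R n U z)) (n + 1) rfl (d_cycle R n U z)

lemma classExt_add (n : ℕ) (U : Cᵒᵖ) (z z' : ((preCx R).cycles n).obj U) :
    classExt R n U (z + z') = classExt R n U z + classExt R n U z' := by
  rw [classExt, classExt, classExt, R.add_extMk]
  congr 1
  rw [map_add, map_add]

lemma classExt_naturality (n : ℕ) {U V : Cᵒᵖ} (i : U ⟶ V) (z : ((preCx R).cycles n).obj U) :
    classExt R n V ((((preCx R).cycles n).map i).hom z) =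
      (Abelian.Ext.mk₀ (CohCx.freeSheafMap J i.unop)).comp (classExt R n U z) (zero_add n) := by
  rw [classExt, classExt, R.mk₀_comp_extMk]
  congr 1
  rw [freeSheafMap_comp_symm, sect_naturality]

lemma classExt_surjective (n : ℕ) (U : Cᵒᵖ) : Function.Surjective (classExt R n U) := by
  intro x
  obtain ⟨f, hf, rfl⟩ := R.extMk_surjective x (n + 1) rfl
  obtain ⟨z, hz⟩ := exists_sect R n U (freeHomEquiv J U.unop _ f) (by
    rw [← freeHomEquiv_comp, hf, map_zero])
  refine ⟨z, ?_⟩
  rw [classExt]
  congr 1
  rw [hz, AddEquiv.symm_apply_apply]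

/-- The class map from cycles to the cohomology presheaf. -/
noncomputable def classMap (n : ℕ) :
    (preCx R).cycles n ⟶ Sheaf.cohomologyPresheaf.{u} F n where
  app U := AddCommGrpCat.ofHom (AddMonoidHom.mk' (classExt R n U) (classExt_add R n U))
  naturality U V i := by
    ext z
    exact classExt_naturality R n i z

lemma extMk_zero_eq_zero {A : Sheaf J AddCommGrpCat.{u}} (f : A ⟶ R.cocomplex.X 0)
    (hf : f ≫ R.cocomplex.d 0 1 = 0) (h : R.extMk f 1 rfl hf = 0) : f = 0 := by
  simp only [← R.extEquivCohomologyClass.apply_eq_iff_eq,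
    InjectiveResolution.extEquivCohomologyClass_extMk,
    InjectiveResolution.extEquivCohomologyClass_zero,
    CochainComplex.HomComplex.CohomologyClass.mk_eq_zero_iff] at h
  rw [CochainComplex.HomComplex.Cocycle.fromSingleMk_mem_coboundaries_iff _ _ _ _ _ (-1) (by lia)] at h
  obtain ⟨g, hg⟩ := h
  rw [← cancel_mono (R.cochainComplexXIso 0 0 rfl).inv, zero_comp]
  refine hg.symm.trans ?_
  rw [(R.cochainComplex.isZero_of_isStrictlyGE 0 (-1)).eq_of_tgt g 0, zero_comp]

lemma exact_toCycles (n : ℕ) (U : Cᵒᵖ) (z : ((preCx R).cycles n).obj U) :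
    classExt R n U z = 0 ↔
      ∃ y, (((preCx R).toCycles ((ComplexShape.up ℕ).prev n) n).app U).hom y = z := by
  rcases n with _ | p
  · constructor
    · intro h
      refine ⟨0, sect_injective R 0 U ?_⟩
      rw [map_zero, map_zero]
      exact ((freeHomEquiv J U.unop _).symm.map_eq_zero_iff.mp
        (extMk_zero_eq_zero R _ _ h)).symm
    · rintro ⟨y, rfl⟩
      rw [classExt]
      refine Eq.trans ?_ (R.extMk_zero 1 rfl)
      congr 1
      rw [sect_toCycles, R.cocomplex.shape _ _ (by simp)]
      exact map_zero _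
  · have hp : (ComplexShape.up ℕ).prev (p + 1) = p := CochainComplex.prev_nat_succ p
    rw [hp, classExt, R.extMk_eq_zero_iff _ _ rfl _ p rfl]
    constructor
    · rintro ⟨g, hg⟩
      refine ⟨freeHomEquiv J U.unop _ g, sect_injective R (p + 1) U ?_⟩
      refine (sect_toCycles R p (p + 1) U _).trans ?_
      refine (freeHomEquiv_comp J g (R.cocomplex.d p (p + 1))).symm.trans ?_
      rw [hg, AddEquiv.apply_symm_apply]
    · rintro ⟨y, rfl⟩
      refine ⟨(freeHomEquiv J U.unop (R.cocomplex.X p)).symm y, ?_⟩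
      refine (freeHomEquiv_symm_comp J _ _).trans (congrArg _ ?_)
      exact (sect_toCycles R p (p + 1) U y).symm

lemma toCycles_classMap (n : ℕ) :
    (preCx R).toCycles ((ComplexShape.up ℕ).prev n) n ≫ classMap R n = 0 := by
  ext U y
  exact (exact_toCycles R n U _).mpr ⟨y, rfl⟩

lemma classMap_shortComplex_exact (n : ℕ) :
    (ShortComplex.mk _ _ (toCycles_classMap R n)).Exact ∧ Epi (classMap R n) := by
  constructor
  · refine exact_of_eval _ fun U => ?_
    rw [ShortComplex.ab_exact_iff]
    exact fun z hz => (exact_toCycles R n U z).mp hz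
  · have : ∀ U, Epi ((classMap R n).app U) := fun U =>
      (AddCommGrpCat.epi_iff_surjective _).mpr (classExt_surjective R n U)
    exact NatTrans.epi_of_epi_app _
where
  exact_of_eval (S : ShortComplex (Cᵒᵖ ⥤ AddCommGrpCat.{u}))
      (h : ∀ U, (S.map ((evaluation Cᵒᵖ AddCommGrpCat.{u}).obj U)).Exact) : S.Exact := by
    rw [S.exact_iff_isZero_homology, Functor.isZero_iff]
    exact fun U => ((ShortComplex.exact_iff_isZero_homology _).mp (h U)).of_iso
      ((S.mapHomologyIso ((evaluation Cᵒᵖ AddCommGrpCat.{u}).obj U)).symm)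

/-- The homology of the presheaf complex of an injective resolution. -/
noncomputable def homologyIso (n : ℕ) :
    (preCx R).homology n ≅ Sheaf.cohomologyPresheaf.{u} F n :=
  isoOfCokernel (preCx R) n (classMap R n) (toCycles_classMap R n)
    (classMap_shortComplex_exact R n).1 (classMap_shortComplex_exact R n).2

/-- `R^n` of the inclusion into presheaves is the cohomology presheaf. -/
noncomputable def rightDerivedIso (F : Sheaf J AddCommGrpCat.{u}) (n : ℕ) :
    ((sheafToPresheaf J AddCommGrpCat.{u}).rightDerived n).obj F ≅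
      Sheaf.cohomologyPresheaf.{u} F n :=
  (injectiveResolution F).isoRightDerivedObj (sheafToPresheaf J AddCommGrpCat.{u}) n ≪≫
    homologyIso (injectiveResolution F) n

end Groth.Agent.CohTop.Derived
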