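import Groth.Agent.CohTop.Push
import Groth.Agent.CohTop.Descent.Compute

/-!
# Complexes with acyclic terms and acyclic homology sheaves

`nonempty_sections_homology_iso` : sections commute with homology for a non-negatively graded complex
of sheaves with acyclic terms and acyclic homology sheaves.
-/

universe u

open CategoryTheory CategoryTheory.Limits Opposite TopologicalSpace

namespace Groth.Agent.CohTop.AcyclicHomology

open Groth.Agent.CohTop.Basic Groth.Agent.CohTop.Descent.Compute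

variable {Y : TopCat.{u}}

/-- Higher cohomology vanishes. -/
def Ac (F : CohTop.Ab Y) : Prop := ∀ p : ℕ, Subsingleton (CohTop.HU F (p + 1) ⊤)

lemma Ac.of_flasque (F : CohTop.Ab Y) [TopCat.Sheaf.IsFlasque F] : Ac F :=
  fun p => Flasque.HU_subsingleton F p ⊤

lemma Ac.of_iso {F G : CohTop.Ab Y} (e : F ≅ G) (h : Ac F) : Ac G := fun p => by
  refine ⟨fun x y => ?_⟩
  have h0 : ∀ x : CohTop.HU G (p + 1) ⊤,
      CohTop.HUmap e.hom (p + 1) ⊤ (CohTop.HUmap e.inv (p + 1) ⊤ x) = x := fun x => by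
    rw [← HUmap_comp, e.inv_hom_id, HUmap_id]
  have := h p
  rw [← h0 x, ← h0 y, Subsingleton.elim (CohTop.HUmap e.inv (p + 1) ⊤ x)
    (CohTop.HUmap e.inv (p + 1) ⊤ y)]

variable {T : ShortComplex (CohTop.Ab Y)} (hT : T.ShortExact)

include hT

lemma Ac.middle (h₁ : Ac T.X₁) (h₃ : Ac T.X₃) : Ac T.X₂ := fun p => by
  refine subsingleton_of_forall_eq 0 fun x => ?_
  have := h₁ p; have := h₃ p
  obtain ⟨y, hy⟩ := HU_exact₂ hT ⊤ x (Subsingleton.elim _ _)
  rw [← hy, Subsingleton.elim y 0, map_zero]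

lemma Ac.right (h₁ : Ac T.X₁) (h₂ : Ac T.X₂) : Ac T.X₃ := fun p => by
  refine subsingleton_of_forall_eq 0 fun x => ?_
  have := h₁ (p + 1); have := h₂ p
  obtain ⟨y, hy⟩ := HU_exact₃ hT ⊤ (rfl : p + 1 + 1 = p + 2) x (Subsingleton.elim _ _)
  rw [← hy, Subsingleton.elim y 0, map_zero]

lemma sections_surjective (h₁ : Ac T.X₁) :
    Function.Surjective ((Γt Y).map T.g).hom := fun a => by
  have := h₁ 0
  exact (Push.sectδ_eq_zero_iff hT ⊤ a).1 (Subsingleton.elim _ _)

lemma sections_left_exact (a : (Γt Y).obj T.X₂) (ha : ((Γt Y).map T.g).hom a = 0) :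
    ∃ b, ((Γt Y).map T.f).hom b = a := by
  obtain ⟨y, hy⟩ := HU_exact₂ hT ⊤ ((HU0Equiv T.X₂ ⊤).symm a) (by
    apply (HU0Equiv T.X₃ ⊤).injective
    rw [HU0Equiv_map, AddEquiv.apply_symm_apply, map_zero]
    exact ha)
  refine ⟨HU0Equiv T.X₁ ⊤ y, ?_⟩
  have := congrArg (HU0Equiv T.X₂ ⊤) hy
  rw [HU0Equiv_map, AddEquiv.apply_symm_apply] at this
  exact this

omit hT

/-- One step: acyclicity of the cycles, and sections commute with homology. -/
theorem step (S : ShortComplex (CohTop.Ab Y)) (h₁ : Ac S.X₁) (hk : Ac (kernel S.f))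
    (hH : Ac S.homology) :
    Ac (kernel S.g) ∧ Nonempty ((S.map (Γt Y)).homology ≅ (Γt Y).obj S.homology) := by
  let d := S.leftHomologyData
  let Q : ShortComplex (CohTop.Ab Y) := ShortComplex.mk d.f' d.π d.f'_π
  have hQ : Q.Exact := ShortComplex.exact_of_g_is_cokernel _ d.hπ'
  have : Epi Q.g := (inferInstance : Epi d.π)
  let l : S.X₁ ⟶ kernel d.π := kernel.lift d.π d.f' d.f'_π
  have hl : Epi l := hQ.epi_kernelLift
  have hlf : l ≫ kernel.ι d.π ≫ d.i = S.f := by
    rw [← Category.assoc, kernel.lift_ι, d.f'_i]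
  -- 0 → ker f → X₁ → B → 0
  let T₁ : ShortComplex (CohTop.Ab Y) := ShortComplex.mk (kernel.ι S.f) l (by
    rw [← cancel_mono (kernel.ι d.π), ← cancel_mono d.i, Category.assoc, Category.assoc, hlf,
      zero_comp, zero_comp, kernel.condition])
  have hT₁ : T₁.ShortExact := by
    refine ShortComplex.ShortExact.mk' (ShortComplex.exact_of_f_is_kernel _ ?_) inferInstance hl
    refine KernelFork.IsLimit.ofι _ _ (fun k hk => kernel.lift _ k ?_)
      (fun k hk => kernel.lift_ι _ _ _) (fun k hk m hm => ?_)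
    · rw [← hlf, ← Category.assoc]
      exact (congrArg (· ≫ kernel.ι d.π ≫ d.i) hk).trans zero_comp
    · rw [← cancel_mono (kernel.ι S.f), kernel.lift_ι]
      exact hm
  -- 0 → B → Z → H → 0
  let T₂ : ShortComplex (CohTop.Ab Y) := ShortComplex.mk (kernel.ι d.π) d.π (kernel.condition _)
  have hT₂ : T₂.ShortExact := ShortComplex.ShortExact.mk'
    (ShortComplex.exact_of_f_is_kernel _ (kernelIsKernel _)) inferInstance inferInstance
  have hB : Ac T₂.X₁ := Ac.right hT₁ hk h₁
  have hH' : Ac T₂.X₃ := hH.of_iso d.homologyIso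
  refine ⟨(Ac.middle hT₂ hB hH').of_iso (d.hi.conePointUniqueUpToIso (limit.isLimit _)), ?_⟩
  have hex : (Q.map (Γt Y)).Exact := by
    rw [ShortComplex.ab_exact_iff]
    intro a ha
    obtain ⟨b, hb⟩ := sections_left_exact hT₂ a ha
    obtain ⟨c, hc⟩ := sections_surjective hT₁ hk b
    refine ⟨c, ?_⟩
    refine Eq.trans ?_ ((congrArg ((Γt Y).map (kernel.ι d.π)).hom hc).trans hb)
    change ((Γt Y).map d.f').hom c = _
    rw [show d.f' = l ≫ kernel.ι d.π from (kernel.lift_ι _ _ _).symm, Functor.map_comp]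
    rfl
  have hsurj : Function.Surjective ((Γt Y).map d.π).hom := sections_surjective (T := T₂) hT₂ hB
  have : Epi (Q.map (Γt Y)).g := (AddCommGrpCat.epi_iff_surjective _).2 hsurj
  have : d.IsPreservedBy (Γt Y) :=
    { g := inferInstance
      f' := preservesColimit_of_preserves_colimit_cocone d.hπ'
        ((CokernelCofork.isColimitMapCoconeEquiv _ _).symm hex.gIsCokernel) }
  exact ⟨(d.map (Γt Y)).homologyIso ≪≫ (Γt Y).mapIso d.homologyIso.symm⟩

/-- Kernels of equal maps of a complex. -/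
noncomputable def kerIso {A : Type*} [Category A] [Abelian A] (K : CochainComplex A ℕ)
    {a b a' b' : ℕ} (ha : a = a') (hb : b = b') : kernel (K.d a b) ≅ kernel (K.d a' b') :=
  eqToIso (by subst ha hb; rfl)

theorem ac_kernel (K : CochainComplex (CohTop.Ab Y) ℕ) (hK : ∀ n, Ac (K.X n))
    (hH : ∀ n, Ac (K.homology n)) : ∀ q, Ac (kernel (K.sc q).f)
  | 0 => by
    have h0 : (K.sc 0).f = 0 := K.shape _ _ (by simp)
    exact (hK _).of_iso ((kernelIsoOfEq h0).trans kernelZeroIsoSource).symm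
  | q + 1 => (step (K.sc q) (hK _) (ac_kernel K hK hH q) (hH q)).1.of_iso
      (kerIso K (CochainComplex.prev_nat_succ q).symm (CochainComplex.next ℕ q))

/-- Global sections commute with homology. -/
theorem nonempty_sections_homology_iso (K : CochainComplex (CohTop.Ab Y) ℕ)
    (hK : ∀ n, Ac (K.X n)) (hH : ∀ n, Ac (K.homology n)) (q : ℕ) :
    Nonempty ((((Γt Y).mapHomologicalComplex _).obj K).homology q ≅ (Γt Y).obj (K.homology q)) :=
  (step (K.sc q) (hK _) (ac_kernel K hK hH q) (hH q)).2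

end Groth.Agent.CohTop.AcyclicHomology
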