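import Groth.Agent.CohTop.Derived
import Mathlib.CategoryTheory.Sites.Pullback
import Mathlib.CategoryTheory.Preadditive.Injective.Preserves
import Mathlib.Topology.Sheaves.Over

/-!
# Restriction of abelian sheaves to open subspaces

* `pull_preservesFiniteLimits`, `push` preserves injectives.
* `restr` is exact and preserves injectives (extension by zero `extZero ⊣ restr` preserves monos).
* `restrHUIso`: cohomology presheaves commute with restriction.
-/

universe u

open CategoryTheory CategoryTheory.Limits Opposite TopologicalSpace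

namespace Groth.Agent.CohTop.Restrict

set_option synthInstance.maxHeartbeats 200000

variable {X Y : TopCat.{u}}

attribute [local instance] reflectsLimits_of_reflectsIsomorphisms in
instance pull_preservesFiniteLimits (f : X ⟶ Y) : PreservesFiniteLimits (CohTop.pull f) := by
  have : PreservesFiniteLimits ((Opens.map f).op.lan : (_ ⥤ AddCommGrpCat.{u}) ⥤ _ ⥤ AddCommGrpCat.{u}) :=
    lan_preservesFiniteLimits_of_flat AddCommGrpCat.{u} (Opens.map f)
  exact Functor.sheafPullbackConstruction.preservesFiniteLimits (Opens.map f) AddCommGrpCat.{u}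
    (Opens.grothendieckTopology Y) (Opens.grothendieckTopology X)

instance push_preservesInjectives (f : X ⟶ Y) : (CohTop.push f).PreservesInjectiveObjects := by
  have : (CohTop.pull f).PreservesMonomorphisms := inferInstance
  exact @Functor.preservesInjectiveObjects_of_adjunction_of_preservesMonomorphisms
    (CohTop.Ab Y) _ (CohTop.Ab X) _ (CohTop.pull f) (CohTop.push f)
    (TopCat.Sheaf.pullbackPushforwardAdjunction AddCommGrpCat.{u} f) this

lemma isOpenEmbedding_incl (U : Opens X) :
    Topology.IsOpenEmbedding (TopCat.Hom.hom (CohCx.incl U)) := U.isOpenEmbedding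

/-- The image functor `Opens U ⥤ Opens X`. -/
abbrev img (U : Opens X) : Opens (TopCat.of U) ⥤ Opens X :=
  (isOpenEmbedding_incl U).isOpenMap.functor

instance img_isContinuous (U : Opens X) : (img U).IsContinuous
    (Opens.grothendieckTopology (TopCat.of U)) (Opens.grothendieckTopology X) :=
  (isOpenEmbedding_incl U).functor_isContinuous

lemma mem_img {U : Opens X} {W : Opens (TopCat.of U)} {x : X} :
    x ∈ (img U).obj W ↔ ∃ y : U, y ∈ W ∧ (y : X) = x := Iff.rfl

/-- Extension by zero. -/
noncomputable abbrev extZero (U : Opens X) : CohTop.Ab (TopCat.of U) ⥤ CohTop.Ab X :=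
  Functor.sheafPullbackConstruction.sheafPullback (img U) AddCommGrpCat.{u}
    (Opens.grothendieckTopology (TopCat.of U)) (Opens.grothendieckTopology X)

noncomputable def extZeroAdj (U : Opens X) : extZero U ⊣ CohTop.restrFunctor U :=
  Functor.sheafPullbackConstruction.sheafAdjunctionContinuous (img U) AddCommGrpCat.{u}
    (Opens.grothendieckTopology (TopCat.of U)) (Opens.grothendieckTopology X)

lemma mono_colimMap_of_empty_or_terminal {K : Type u} [SmallCategory K]
    (h : IsEmpty K ∨ ∃ t : K, Nonempty (IsTerminal t)) {P Q : K ⥤ AddCommGrpCat.{u}} (α : P ⟶ Q)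
    [∀ k, Mono (α.app k)] : Mono (colimMap α) := by
  rcases h with h | ⟨t, ⟨ht⟩⟩
  · have hz : IsZero (colimit P) := by
      rw [IsZero.iff_id_eq_zero]
      exact colimit.hom_ext fun k => h.elim k
    exact ⟨fun {W} a b _ => hz.eq_of_tgt a b⟩
  · have := isIso_ι_of_isTerminal ht P
    have := isIso_ι_of_isTerminal ht Q
    have h1 : colimMap α = inv (colimit.ι P t) ≫ α.app t ≫ colimit.ι Q t := by
      rw [IsIso.eq_inv_comp]
      exact ι_colimMap α t
    rw [h1]
    infer_instance

lemma costructuredArrow_empty_or_terminal (U : Opens X) (V : (Opens X)ᵒᵖ) :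
    IsEmpty (CostructuredArrow (img U).op V) ∨
      ∃ t : CostructuredArrow (img U).op V, Nonempty (IsTerminal t) := by
  by_cases hV : V.unop ≤ U
  · right
    let W₀ : Opens (TopCat.of U) := (Opens.map (CohCx.incl U)).obj V.unop
    have h0 : V.unop ≤ (img U).obj W₀ := fun x hx => ⟨⟨x, hV hx⟩, hx, rfl⟩
    refine ⟨CostructuredArrow.mk (Y := op W₀) (homOfLE h0).op, ⟨IsTerminal.ofUniqueHom
      (fun A => CostructuredArrow.homMk (homOfLE (?_ : W₀ ≤ A.left.unop)).op
        (Subsingleton.elim _ _)) fun A m => ?_⟩⟩
    · intro y hy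
      obtain ⟨y', hy', he⟩ := (leOfHom A.hom.unop : V.unop ≤ (img U).obj A.left.unop) (show (y : X) ∈ V.unop from hy)
      exact (Subtype.ext he : y' = y) ▸ hy'
    · apply CostructuredArrow.hom_ext
      exact Quiver.Hom.unop_inj (Subsingleton.elim _ _)
  · left
    refine ⟨fun A => hV fun x hx => ?_⟩
    obtain ⟨y, -, he⟩ := (leOfHom A.hom.unop : V.unop ≤ (img U).obj A.left.unop) hx
    exact he ▸ y.2

instance extZero_preservesMono (U : Opens X) : (extZero U).PreservesMonomorphisms where
  preserves {F G} φ _ := by
    have : Mono ((img U).op.lan.map φ.hom) := by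
      have : ∀ V, Mono (((img U).op.lan.map φ.hom).app V) := by
        intro V
        have h := (lanEvaluationIsoColim AddCommGrpCat.{u} (img U).op V).hom.naturality φ.hom
        have h' : ((img U).op.lan.map φ.hom).app V =
            (lanEvaluationIsoColim AddCommGrpCat.{u} (img U).op V).hom.app F.obj ≫
              colimMap (Functor.whiskerLeft (CostructuredArrow.proj (img U).op V) φ.hom) ≫
                (lanEvaluationIsoColim AddCommGrpCat.{u} (img U).op V).inv.app G.obj := by
          rw [← Category.assoc]
          refine (((lanEvaluationIsoColim AddCommGrpCat.{u} (img U).op V).app G.obj).comp_inv_eq.mpr ?_).symm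
          exact h.symm
        have hm : Mono φ.hom := (sheafToPresheaf _ _).map_mono φ
        have hm' : ∀ k, Mono ((Functor.whiskerLeft (CostructuredArrow.proj (img U).op V) φ.hom).app k) :=
          fun k => inferInstanceAs (Mono (φ.hom.app _))
        have := mono_colimMap_of_empty_or_terminal (costructuredArrow_empty_or_terminal U V)
          (Functor.whiskerLeft (CostructuredArrow.proj (img U).op V) φ.hom)
        rw [h']
        infer_instance
      exact NatTrans.mono_of_mono_app _
    exact (presheafToSheaf (Opens.grothendieckTopology X) AddCommGrpCat.{u}).map_mono ((img U).op.lan.map φ.hom)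

instance restr_preservesInjectives (U : Opens X) :
    (CohTop.restrFunctor U).PreservesInjectiveObjects :=
  Functor.preservesInjectiveObjects_of_adjunction_of_preservesMonomorphisms (extZeroAdj U)

/-- Restriction is inverse image along the inclusion. -/
noncomputable def restrIsoPull (U : Opens X) :
    CohTop.pull (CohCx.incl U) ≅ CohTop.restrFunctor U :=
  (isOpenEmbedding_incl U).sheafPullbackIso AddCommGrpCat.{u}

instance restr_preservesFiniteLimits (U : Opens X) :
    PreservesFiniteLimits (CohTop.restrFunctor U) :=
  haveI := pull_preservesFiniteLimits (CohCx.incl U)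
  @preservesFiniteLimits_of_natIso (CohTop.Ab X) _ (CohTop.Ab (TopCat.of U)) _ (CohTop.pull (CohCx.incl U)) _ (restrIsoPull U) this

instance restr_preservesFiniteColimits (U : Opens X) :
    PreservesFiniteColimits (CohTop.restrFunctor U) :=
  haveI : (CohTop.pull (CohCx.incl U)).IsLeftAdjoint :=
    (TopCat.Sheaf.pullbackPushforwardAdjunction AddCommGrpCat.{u} (CohCx.incl U)).isLeftAdjoint
  preservesFiniteColimits_of_natIso (restrIsoPull U)

/-- The restriction of an injective resolution. -/
noncomputable def restrRes (U : Opens X) {F : CohTop.Ab X} (R : InjectiveResolution F) :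
    InjectiveResolution (CohTop.restr F U) where
  cocomplex := ((CohTop.restrFunctor U).mapHomologicalComplex _).obj R.cocomplex
  injective n := (CohTop.restrFunctor U).injective_obj (R.cocomplex.X n)
  ι := (HomologicalComplex.singleMapHomologicalComplex (CohTop.restrFunctor U)
      (ComplexShape.up ℕ) 0).inv.app F ≫
    ((CohTop.restrFunctor U).mapHomologicalComplex _).map R.ι
  quasiIso := by
    have : QuasiIso R.ι := R.quasiIso
    infer_instance

/-- Precomposition with a functor between index categories. -/
noncomputable abbrev whisk {A B : Type u} [SmallCategory A] [SmallCategory B] (G : A ⥤ B) :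
    (Bᵒᵖ ⥤ AddCommGrpCat.{u}) ⥤ (Aᵒᵖ ⥤ AddCommGrpCat.{u}) :=
  (Functor.whiskeringLeft Aᵒᵖ Bᵒᵖ AddCommGrpCat.{u}).obj G.op

/-- `H^n(W, F|_U) = H^n(W, F)` naturally in the open `W` of `U`. -/
noncomputable def restrHUIso (U : Opens X) (F : CohTop.Ab X) (n : ℕ) :
    Sheaf.cohomologyPresheaf.{u} (CohTop.restr F U) n ≅
      (img U).op ⋙ Sheaf.cohomologyPresheaf.{u} F n :=
  (Derived.homologyIso (restrRes U (injectiveResolution F)) n).symm ≪≫
    ((Derived.preCx (injectiveResolution F)).sc n).mapHomologyIso (whisk (img U)) ≪≫
      (whisk (img U)).mapIso (Derived.homologyIso (injectiveResolution F) n)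

lemma img_top (U : Opens X) : (img U).obj ⊤ = U := by
  ext x
  exact ⟨fun ⟨y, _, he⟩ => he ▸ y.2, fun hx => ⟨⟨x, hx⟩, trivial, rfl⟩⟩

/-- `H^n(U, F) = H^n(U, F|_U)`. -/
noncomputable def HUEquivRestr (F : CohTop.Ab X) (U : Opens X) (n : ℕ) :
    CohTop.HU F n U ≃+ CohTop.H (CohTop.restr F U) n :=
  ((Sheaf.cohomologyPresheaf.{u} F n).mapIso (eqToIso (congrArg op (img_top U).symm)) ≪≫
      ((restrHUIso U F n).app (op ⊤)).symm).addCommGroupIsoToAddEquiv.trans
    (Basic.HEquivHUTop (CohTop.restr F U) n).symm

end Groth.Agent.CohTop.Restrict
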