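import Groth.Prelude.Def_CohTop
import Groth.Prelude.Def_CohCx

/-!
# Cohomology of abelian sheaves: basic API

* `freeHomEquiv`: morphisms out of the free sheaf on `U` are the sections over `U`.
* `HU0Equiv`: `H^0(U, F) = F(U)`, natural in both variables.
* `HEquivHUTop`: `H^n(X, F) = H^n(⊤, F)`, natural in `F`.
* `HU_exact₁`, `HU_exact₂`, `HU_exact₃`: the long exact sequence.
* `HU_subsingleton_of_effaceable`, dimension shifting.
-/

universe u

open CategoryTheory CategoryTheory.Limits Opposite TopologicalSpace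

namespace Groth.Agent.CohTop.Basic

section site

variable {C : Type u} [SmallCategory C] (J : GrothendieckTopology C)

/-- The free presheaf on `U`. -/
noncomputable abbrev freePresheaf (U : C) : Cᵒᵖ ⥤ AddCommGrpCat.{u} :=
  yoneda.obj U ⋙ AddCommGrpCat.free.{u}

noncomputable def freePresheafHomEquiv (U : C) (P : Cᵒᵖ ⥤ AddCommGrpCat.{u}) :
    (freePresheaf U ⟶ P) ≃+ P.obj (op U) where
  toFun η := (η.app (op U)).hom (FreeAbelianGroup.of (𝟙 U))
  invFun s :=
    { app := fun V => AddCommGrpCat.ofHom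
        (FreeAbelianGroup.lift fun g : (yoneda.obj U).obj V => (P.map (Quiver.Hom.op (g : V.unop ⟶ U))).hom s)
      naturality := fun V W i => by
        apply AddCommGrpCat.hom_ext
        apply FreeAbelianGroup.lift_ext
        intro g
        change FreeAbelianGroup.lift _ (FreeAbelianGroup.map _ (FreeAbelianGroup.of g)) =
          (P.map i).hom (FreeAbelianGroup.lift _ (FreeAbelianGroup.of g))
        rw [FreeAbelianGroup.map_of_apply, FreeAbelianGroup.lift_apply_of,
          FreeAbelianGroup.lift_apply_of]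
        change (P.map (g.op ≫ i)).hom s = _
        rw [P.map_comp]; rfl }
  left_inv η := by
    apply NatTrans.ext; funext V
    apply AddCommGrpCat.hom_ext
    apply FreeAbelianGroup.lift_ext
    intro g
    change FreeAbelianGroup.lift _ (FreeAbelianGroup.of g) = _
    rw [FreeAbelianGroup.lift_apply_of]
    have := ConcreteCategory.congr_hom (η.naturality (Quiver.Hom.op (g : V.unop ⟶ U)))
      (FreeAbelianGroup.of (𝟙 U))
    refine this.symm.trans ?_
    change (η.app V).hom (FreeAbelianGroup.map _ (FreeAbelianGroup.of (𝟙 U))) = _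
    rw [FreeAbelianGroup.map_of_apply]
    congr 2
    exact Category.comp_id g
  right_inv s := by
    change FreeAbelianGroup.lift _ (FreeAbelianGroup.of (𝟙 U)) = _
    rw [FreeAbelianGroup.lift_apply_of]
    simp
  map_add' η η' := rfl

/-- Morphisms out of the free abelian sheaf on `U` are the sections over `U`. -/
noncomputable def freeHomEquiv (U : C) (F : Sheaf J AddCommGrpCat.{u}) :
    (CohCx.freeSheaf J U ⟶ F) ≃+ F.obj.obj (op U) :=
  AddEquiv.mk' (((sheafificationAdjunction J AddCommGrpCat.{u}).homEquiv _ F).trans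
      (freePresheafHomEquiv U F.obj).toEquiv) (fun f g => by
    simp only [Equiv.trans_apply]
    erw [Adjunction.homEquiv_unit, Adjunction.homEquiv_unit, Adjunction.homEquiv_unit]
    rw [Functor.map_add, Preadditive.comp_add]
    exact (freePresheafHomEquiv U F.obj).map_add _ _)

lemma freeHomEquiv_apply (U : C) (F : Sheaf J AddCommGrpCat.{u}) (f : CohCx.freeSheaf J U ⟶ F) :
    freeHomEquiv J U F f = (f.hom.app (op U)).hom
      (((sheafificationAdjunction J AddCommGrpCat.{u}).unit.app (freePresheaf U)).app (op U)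
        (FreeAbelianGroup.of (𝟙 U))) := rfl

lemma freeHomEquiv_comp {U : C} {F G : Sheaf J AddCommGrpCat.{u}}
    (f : CohCx.freeSheaf J U ⟶ F) (φ : F ⟶ G) :
    freeHomEquiv J U G (f ≫ φ) = (φ.hom.app (op U)).hom (freeHomEquiv J U F f) := rfl

lemma freeHomEquiv_map_comp {U V : C} (i : V ⟶ U) {F : Sheaf J AddCommGrpCat.{u}}
    (f : CohCx.freeSheaf J U ⟶ F) :
    freeHomEquiv J V F (CohCx.freeSheafMap J i ≫ f) =
      (F.obj.map i.op).hom (freeHomEquiv J U F f) := by
  have h1 := congrArg (fun z => (z.app (op V)))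
    ((sheafificationAdjunction J AddCommGrpCat.{u}).unit.naturality
      (Functor.whiskerRight (yoneda.map i) AddCommGrpCat.free.{u}))
  have h1' := (ConcreteCategory.congr_hom h1 (FreeAbelianGroup.of (𝟙 V))).symm
  have h2 := ConcreteCategory.congr_hom
    (((sheafificationAdjunction J AddCommGrpCat.{u}).unit.app (freePresheaf U)).naturality i.op)
    (FreeAbelianGroup.of (𝟙 U))
  have h3 : FreeAbelianGroup.map ((yoneda.map i).app (op V)) (FreeAbelianGroup.of (𝟙 V)) =
      FreeAbelianGroup.map ((yoneda.obj U).map i.op) (FreeAbelianGroup.of (𝟙 U)) := by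
    erw [FreeAbelianGroup.map_of_apply, FreeAbelianGroup.map_of_apply]
    change FreeAbelianGroup.of (𝟙 V ≫ i) = FreeAbelianGroup.of (i ≫ 𝟙 U)
    simp
  rw [freeHomEquiv_apply, freeHomEquiv_apply]
  refine Eq.trans ?_ (ConcreteCategory.congr_hom (f.hom.naturality i.op) _)
  refine congrArg (f.hom.app (op V)).hom ?_
  refine Eq.trans ?_ h2
  refine h1'.trans ?_
  exact congrArg (((sheafificationAdjunction J AddCommGrpCat.{u}).unit.app
    (freePresheaf U)).app (op V)).hom h3

lemma freeHomEquiv_symm_comp {U : C} {F G : Sheaf J AddCommGrpCat.{u}} (s : F.obj.obj (op U))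
    (φ : F ⟶ G) :
    (freeHomEquiv J U F).symm s ≫ φ = (freeHomEquiv J U G).symm ((φ.hom.app (op U)).hom s) := by
  apply (freeHomEquiv J U G).injective
  rw [freeHomEquiv_comp, AddEquiv.apply_symm_apply, AddEquiv.apply_symm_apply]

lemma freeSheafMap_comp_symm {U V : C} (i : V ⟶ U) {F : Sheaf J AddCommGrpCat.{u}}
    (s : F.obj.obj (op U)) :
    CohCx.freeSheafMap J i ≫ (freeHomEquiv J U F).symm s =
      (freeHomEquiv J V F).symm ((F.obj.map i.op).hom s) := by
  apply (freeHomEquiv J V F).injective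
  rw [freeHomEquiv_map_comp, AddEquiv.apply_symm_apply, AddEquiv.apply_symm_apply]

end site

variable {X : TopCat.{u}}

/-- `H^0(U, F) = F(U)`. -/
noncomputable def HU0Equiv (F : CohTop.Ab X) (U : Opens X) :
    CohTop.HU F 0 U ≃+ F.obj.obj (op U) :=
  (Abelian.Ext.addEquiv₀ (X := CohCx.freeSheaf (Opens.grothendieckTopology X) U) (Y := F)).trans
    (freeHomEquiv _ U F)

lemma HUmap_eq {F G : CohTop.Ab X} (φ : F ⟶ G) (n : ℕ) (U : Opens X) (x : CohTop.HU F n U) :
    CohTop.HUmap φ n U x = Abelian.Ext.comp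
      (X := CohCx.freeSheaf (Opens.grothendieckTopology X) U) x (Abelian.Ext.mk₀ φ) (add_zero n) :=
  rfl

lemma res_eq (F : CohTop.Ab X) (n : ℕ) {U V : Opens X} (h : V ≤ U) (x : CohTop.HU F n U) :
    CohTop.res F n h x = (Abelian.Ext.mk₀
      (CohCx.freeSheafMap (Opens.grothendieckTopology X) (homOfLE h))).comp x (zero_add n) :=
  rfl

lemma HU0Equiv_map {F G : CohTop.Ab X} (φ : F ⟶ G) (U : Opens X) (x : CohTop.HU F 0 U) :
    HU0Equiv G U (CohTop.HUmap φ 0 U x) = (φ.hom.app (op U)).hom (HU0Equiv F U x) := by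
  obtain ⟨f, rfl⟩ := (Abelian.Ext.mk₀_bijective
    (CohCx.freeSheaf (Opens.grothendieckTopology X) U) F).2 x
  erw [HUmap_eq, Abelian.Ext.mk₀_comp_mk₀]
  change freeHomEquiv _ U G (Abelian.Ext.homEquiv₀ (Abelian.Ext.mk₀ _)) =
    (φ.hom.app (op U)).hom (freeHomEquiv _ U F (Abelian.Ext.homEquiv₀ (Abelian.Ext.mk₀ _)))
  simp only [Abelian.Ext.homEquiv₀, Equiv.ofBijective_symm_apply_apply]
  exact freeHomEquiv_comp _ f φ

lemma HU0Equiv_res (F : CohTop.Ab X) {U V : Opens X} (h : V ≤ U) (x : CohTop.HU F 0 U) :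
    HU0Equiv F V (CohTop.res F 0 h x) = (F.obj.map (homOfLE h).op).hom (HU0Equiv F U x) := by
  obtain ⟨f, rfl⟩ := (Abelian.Ext.mk₀_bijective
    (CohCx.freeSheaf (Opens.grothendieckTopology X) U) F).2 x
  erw [res_eq, Abelian.Ext.mk₀_comp_mk₀]
  change freeHomEquiv _ V F (Abelian.Ext.homEquiv₀ (Abelian.Ext.mk₀ _)) =
    (F.obj.map (homOfLE h).op).hom (freeHomEquiv _ U F (Abelian.Ext.homEquiv₀ (Abelian.Ext.mk₀ _)))
  simp only [Abelian.Ext.homEquiv₀, Equiv.ofBijective_symm_apply_apply]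
  exact freeHomEquiv_map_comp _ _ f

lemma res_HUmap {F G : CohTop.Ab X} (φ : F ⟶ G) (n : ℕ) {U V : Opens X} (h : V ≤ U)
    (x : CohTop.HU F n U) :
    CohTop.res G n h (CohTop.HUmap φ n U x) = CohTop.HUmap φ n V (CohTop.res F n h x) := by
  exact (Abelian.Ext.comp_assoc_of_third_deg_zero
    (Abelian.Ext.mk₀ (CohCx.freeSheafMap (Opens.grothendieckTopology X) (homOfLE h)))
    (x : Abelian.Ext (CohCx.freeSheaf (Opens.grothendieckTopology X) U) F n)
    (Abelian.Ext.mk₀ φ) (zero_add n)).symm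

lemma res_res (F : CohTop.Ab X) (n : ℕ) {U V W : Opens X} (h : V ≤ U) (h' : W ≤ V)
    (x : CohTop.HU F n U) :
    CohTop.res F n h' (CohTop.res F n h x) = CohTop.res F n (h'.trans h) x :=
  (ConcreteCategory.congr_hom
    ((Sheaf.cohomologyPresheaf.{u} F n).map_comp (homOfLE h).op (homOfLE h').op) x).symm

lemma res_refl (F : CohTop.Ab X) (n : ℕ) {U : Opens X} (x : CohTop.HU F n U) :
    CohTop.res F n (le_refl U) x = x :=
  ConcreteCategory.congr_hom ((Sheaf.cohomologyPresheaf.{u} F n).map_id (op U)) x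

lemma HUmap_id (F : CohTop.Ab X) (n : ℕ) (U : Opens X) (x : CohTop.HU F n U) :
    CohTop.HUmap (𝟙 F) n U x = x := by
  rw [HUmap_eq]; exact Abelian.Ext.comp_mk₀_id _

lemma HUmap_comp {F G K : CohTop.Ab X} (φ : F ⟶ G) (ψ : G ⟶ K) (n : ℕ) (U : Opens X)
    (x : CohTop.HU F n U) :
    CohTop.HUmap (φ ≫ ψ) n U x = CohTop.HUmap ψ n U (CohTop.HUmap φ n U x) := by
  rw [HUmap_eq, HUmap_eq, HUmap_eq, ← Abelian.Ext.mk₀_comp_mk₀]
  exact (Abelian.Ext.comp_assoc_of_third_deg_zero _ _ _ _).symm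

section LES

variable {S : ShortComplex (CohTop.Ab X)} (hS : S.ShortExact) (U : Opens X)

/-- Connecting homomorphism. -/
noncomputable def δ (n₀ n₁ : ℕ) (h : n₀ + 1 = n₁) :
    CohTop.HU S.X₃ n₀ U →+ CohTop.HU S.X₁ n₁ U :=
  hS.extClass.postcomp (CohCx.freeSheaf (Opens.grothendieckTopology X) U) h

include hS in
lemma HU_exact₁ {n₀ n₁ : ℕ} (h : n₀ + 1 = n₁) (x : CohTop.HU S.X₁ n₁ U)
    (hx : CohTop.HUmap S.f n₁ U x = 0) : ∃ y, δ hS U n₀ n₁ h y = x :=
  Abelian.Ext.covariant_sequence_exact₁ _ hS x hx h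

include hS in
lemma HU_exact₂ {n : ℕ} (x : CohTop.HU S.X₂ n U)
    (hx : CohTop.HUmap S.g n U x = 0) : ∃ y, CohTop.HUmap S.f n U y = x :=
  Abelian.Ext.covariant_sequence_exact₂ _ hS x hx

lemma HU_exact₃ {n₀ n₁ : ℕ} (h : n₀ + 1 = n₁) (x : CohTop.HU S.X₃ n₀ U)
    (hx : δ hS U n₀ n₁ h x = 0) : ∃ y, CohTop.HUmap S.g n₀ U y = x :=
  Abelian.Ext.covariant_sequence_exact₃ _ hS x h hx

lemma δ_g {n₀ n₁ : ℕ} (h : n₀ + 1 = n₁) (x : CohTop.HU S.X₂ n₀ U) :
    δ hS U n₀ n₁ h (CohTop.HUmap S.g n₀ U x) = 0 := by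
  refine (Abelian.Ext.comp_assoc_of_second_deg_zero
    (x : Abelian.Ext (CohCx.freeSheaf (Opens.grothendieckTopology X) U) S.X₂ n₀)
    (Abelian.Ext.mk₀ S.g) hS.extClass h).trans ?_
  rw [ShortComplex.ShortExact.comp_extClass]
  exact Abelian.Ext.comp_zero (x : Abelian.Ext (CohCx.freeSheaf (Opens.grothendieckTopology X) U) S.X₂ n₀) _ _ _ h

lemma f_δ {n₀ n₁ : ℕ} (h : n₀ + 1 = n₁) (x : CohTop.HU S.X₃ n₀ U) :
    CohTop.HUmap S.f n₁ U (δ hS U n₀ n₁ h x) = 0 := by
  refine (Abelian.Ext.comp_assoc_of_third_deg_zero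
    (x : Abelian.Ext (CohCx.freeSheaf (Opens.grothendieckTopology X) U) S.X₃ n₀)
    hS.extClass (Abelian.Ext.mk₀ S.f) h).trans ?_
  rw [ShortComplex.ShortExact.extClass_comp]
  exact Abelian.Ext.comp_zero (x : Abelian.Ext (CohCx.freeSheaf (Opens.grothendieckTopology X) U) S.X₃ n₀) _ _ _ h

lemma δ_res {U V : Opens X} (h : V ≤ U) {n₀ n₁ : ℕ} (hn : n₀ + 1 = n₁)
    (x : CohTop.HU S.X₃ n₀ U) :
    CohTop.res S.X₁ n₁ h (δ hS U n₀ n₁ hn x) = δ hS V n₀ n₁ hn (CohTop.res S.X₃ n₀ h x) := by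
  exact (Abelian.Ext.comp_assoc
    (Abelian.Ext.mk₀ (CohCx.freeSheafMap (Opens.grothendieckTopology X) (homOfLE h)))
    (x : Abelian.Ext (CohCx.freeSheaf (Opens.grothendieckTopology X) U) S.X₃ n₀) hS.extClass
    (zero_add n₀) hn (by omega)).symm

include hS in
/-- The connecting map in degree zero, from sections. -/
lemma HU_one_subsingleton_of_surjective [Injective S.X₂]
    (hsurj : Function.Surjective (S.g.hom.app (op U)).hom) :
    Subsingleton (CohTop.HU S.X₁ 1 U) := by
  refine subsingleton_of_forall_eq 0 fun x => ?_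
  obtain ⟨y, rfl⟩ := HU_exact₁ hS U rfl x (Abelian.Ext.eq_zero_of_injective (I := S.X₂) _)
  obtain ⟨z, hz⟩ := hsurj (HU0Equiv S.X₃ U y)
  have : CohTop.HUmap S.g 0 U ((HU0Equiv S.X₂ U).symm z) = y := by
    apply (HU0Equiv S.X₃ U).injective
    rw [HU0Equiv_map, AddEquiv.apply_symm_apply]; exact hz
  rw [← this, δ_g]

include hS in
lemma HU_succ_succ_subsingleton [Injective S.X₂] (n : ℕ)
    (h : Subsingleton (CohTop.HU S.X₃ (n + 1) U)) : Subsingleton (CohTop.HU S.X₁ (n + 2) U) := by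
  refine subsingleton_of_forall_eq 0 fun x => ?_
  obtain ⟨y, rfl⟩ := HU_exact₁ hS U rfl x (Abelian.Ext.eq_zero_of_injective (I := S.X₂) _)
  rw [Subsingleton.elim y 0, map_zero]

end LES

instance HU_subsingleton_of_injective (F : CohTop.Ab X) [Injective F] (n : ℕ) (U : Opens X) :
    Subsingleton (CohTop.HU F (n + 1) U) :=
  Abelian.Ext.subsingleton_of_injective _ _ _

/-- An embedding into an injective. -/
noncomputable abbrev embedding (F : CohTop.Ab X) : ShortComplex (CohTop.Ab X) :=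
  ShortComplex.mk (Injective.ι F) (cokernel.π _) (cokernel.condition _)

lemma embedding_shortExact (F : CohTop.Ab X) : (embedding F).ShortExact :=
  { exact := ShortComplex.exact_of_g_is_cokernel _ (cokernelIsCokernel (Injective.ι F)) }

/-- Dimension shifting: a class of sheaves closed under the cokernel of an embedding into an
injective, for which that cokernel map is surjective on sections over the opens in `B`, is acyclic
on the opens in `B`. -/
lemma HU_subsingleton_of_class (P : CohTop.Ab X → Prop) (B : Set (Opens X))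
    (hcok : ∀ F, P F → P (embedding F).X₃)
    (hsurj : ∀ F, P F → ∀ U ∈ B, Function.Surjective ((embedding F).g.hom.app (op U)).hom)
    (n : ℕ) : ∀ (F : CohTop.Ab X), P F → ∀ U ∈ B, Subsingleton (CohTop.HU F (n + 1) U) := by
  induction n with
  | zero =>
    intro F hF U hU
    have : Injective (embedding F).X₂ := Injective.injective_under F
    exact HU_one_subsingleton_of_surjective (embedding_shortExact F) U (hsurj F hF U hU)
  | succ n ih =>
    intro F hF U hU
    have : Injective (embedding F).X₂ := Injective.injective_under F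
    exact HU_succ_succ_subsingleton (embedding_shortExact F) U n (ih _ (hcok F hF) U hU)

section global

/-- The free sheaf on the whole space is the constant sheaf `ℤ`. -/
noncomputable def freePresheafTopIso :
    freePresheaf (⊤ : Opens X) ≅ (Functor.const _).obj (AddCommGrpCat.of (ULift.{u} ℤ)) :=
  NatIso.ofComponents
    (fun V =>
      haveI : Unique ((yoneda.obj (⊤ : Opens X)).obj V) :=
        { default := homOfLE (le_top (a := V.unop)), uniq := fun _ => @Subsingleton.elim (V.unop ⟶ ⊤) _ _ _ }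
      AddEquiv.toAddCommGrpIso ((FreeAbelianGroup.uniqueEquiv ((yoneda.obj (⊤ : Opens X)).obj V)).trans
        AddEquiv.ulift.symm))
    (fun {V W} i => by
      apply AddCommGrpCat.hom_ext
      apply FreeAbelianGroup.lift_ext
      intro g
      haveI : Unique ((yoneda.obj (⊤ : Opens X)).obj V) :=
        { default := homOfLE (le_top (a := V.unop)), uniq := fun _ => @Subsingleton.elim (V.unop ⟶ ⊤) _ _ _ }
      haveI : Unique ((yoneda.obj (⊤ : Opens X)).obj W) :=
        { default := homOfLE (le_top (a := W.unop)), uniq := fun _ => @Subsingleton.elim (W.unop ⟶ ⊤) _ _ _ }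
      change ULift.up (FreeAbelianGroup.uniqueEquiv _ (FreeAbelianGroup.map _ (FreeAbelianGroup.of g))) =
        ULift.up (FreeAbelianGroup.uniqueEquiv _ (FreeAbelianGroup.of g))
      rw [FreeAbelianGroup.map_of_apply]
      simp [FreeAbelianGroup.uniqueEquiv])

noncomputable def freeSheafTopIso :
    CohCx.freeSheaf (Opens.grothendieckTopology X) (⊤ : Opens X) ≅
      (constantSheaf (Opens.grothendieckTopology X) AddCommGrpCat.{u}).obj
        (AddCommGrpCat.of (ULift.{u} ℤ)) :=
  (presheafToSheaf (Opens.grothendieckTopology X) AddCommGrpCat.{u}).mapIso freePresheafTopIso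

/-- `H^n(X, F) = H^n(⊤, F)`. -/
noncomputable def HEquivHUTop (F : CohTop.Ab X) (n : ℕ) :
    CohTop.H F n ≃+ CohTop.HU F n (⊤ : Opens X) :=
  AddEquiv.mk'
    { toFun := fun (x : CohTop.H F n) =>
        (Abelian.Ext.mk₀ (freeSheafTopIso (X := X)).hom).comp x (zero_add n)
      invFun := fun (y : CohTop.HU F n (⊤ : Opens X)) =>
        (Abelian.Ext.mk₀ (freeSheafTopIso (X := X)).inv).comp
          (y : Abelian.Ext (CohCx.freeSheaf (Opens.grothendieckTopology X) ⊤) F n) (zero_add n)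
      left_inv := fun x => by
        refine (Abelian.Ext.mk₀_comp_mk₀_assoc _ _ x).trans ?_
        rw [Iso.inv_hom_id]
        exact Abelian.Ext.mk₀_id_comp _
      right_inv := fun y => by
        refine (Abelian.Ext.mk₀_comp_mk₀_assoc _ _
          (y : Abelian.Ext (CohCx.freeSheaf (Opens.grothendieckTopology X) ⊤) F n)).trans ?_
        rw [Iso.hom_inv_id]
        exact Abelian.Ext.mk₀_id_comp _ }
    (fun x y => Abelian.Ext.comp_add _ x y (zero_add n))

lemma HEquivHUTop_map {F G : CohTop.Ab X} (φ : F ⟶ G) (n : ℕ) (x : CohTop.H F n) :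
    HEquivHUTop G n (Sheaf.H.map φ n x) = CohTop.HUmap φ n ⊤ (HEquivHUTop F n x) :=
  (Abelian.Ext.comp_assoc_of_third_deg_zero
    (Abelian.Ext.mk₀ (freeSheafTopIso (X := X)).hom) x (Abelian.Ext.mk₀ φ) (zero_add n)).symm

/-- `H^0(X, F) = F(⊤)`. -/
noncomputable def H0Equiv (F : CohTop.Ab X) : CohTop.H F 0 ≃+ F.obj.obj (op ⊤) :=
  (HEquivHUTop F 0).trans (HU0Equiv F ⊤)

lemma H0Equiv_map {F G : CohTop.Ab X} (φ : F ⟶ G) (x : CohTop.H F 0) :
    H0Equiv G (Sheaf.H.map φ 0 x) = (φ.hom.app (op ⊤)).hom (H0Equiv F x) := by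
  simp only [H0Equiv, AddEquiv.trans_apply, HEquivHUTop_map, HU0Equiv_map]

end global

end Groth.Agent.CohTop.Basic
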