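import Groth.Agent.CohTop.SubStalk
import Groth.Agent.SiteCoh.Free
import Mathlib.Topology.Sheaves.SheafOfFunctions
import Mathlib.RingTheory.Int.Basic

/-!
# Vanishing from the vanishing for the free sheaves on compact opens
-/

set_option autoImplicit false

universe u

open CategoryTheory CategoryTheory.Limits Opposite TopologicalSpace

namespace Groth.Agent.CohTop.FreeVanish

open Groth.Agent.CohTop.Basic Groth.Agent.CohTop.Vanishing Groth.Agent.CohTop.SubStalk
open Groth.Agent.CohTop.Spectral (St gm gm_rs exists_rs_eq_zero exists_compact_nbhd isCompact_inf)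
open Groth.Agent.SiteCoh

variable {X : TopCat.{u}}

/-- The free sheaf. -/
noncomputable abbrev Z (U : Opens X) : CohTop.Ab X := CohCx.freeSheaf (Opens.grothendieckTopology X) U

/-- The universal section. -/
noncomputable def one (U : Opens X) : (Z U).obj.obj (op U) :=
  Free.sectionEquiv (Opens.grothendieckTopology X) U (Z U) (𝟙 (Z U))

/-- The map given by a section. -/
noncomputable def Φ {F : CohTop.Ab X} {U : Opens X} (s : F.obj.obj (op U)) : Z U ⟶ F :=
  (Free.sectionEquiv (Opens.grothendieckTopology X) U F).symm s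

lemma Φ_one {F : CohTop.Ab X} {U : Opens X} (s : F.obj.obj (op U)) :
    ((Φ s).hom.app (op U)).hom (one U) = s := by
  refine (Free.sectionEquiv_comp (Opens.grothendieckTopology X) (𝟙 (Z U)) (Φ s)).symm.trans ?_
  rw [Category.id_comp]
  exact AddEquiv.apply_symm_apply _ _

lemma one_eq (U : Opens X) :
    one U = ((CategoryTheory.toSheafify (Opens.grothendieckTopology X)
      (yoneda.obj U ⋙ AddCommGrpCat.free.{u})).app (op U)).hom (FreeAbelianGroup.of (𝟙 U)) := by
  rfl

/-- Local form of the sections of a free sheaf. -/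
lemma exists_local (U : Opens X) {V : Opens X} (s : (Z U).obj.obj (op V)) {y : X} (hy : y ∈ V) :
    ∃ (W : Opens X) (hW : W ≤ V), y ∈ W ∧
      ((∃ (hU : W ≤ U) (n : ℤ), rs (Z U) hW s = n • rs (Z U) hU (one U)) ∨ rs (Z U) hW s = 0) := by
  let P : TopCat.Presheaf AddCommGrpCat.{u} X := yoneda.obj U ⋙ AddCommGrpCat.free.{u}
  have : Presheaf.IsLocallySurjective (Opens.grothendieckTopology X)
      (CategoryTheory.toSheafify (Opens.grothendieckTopology X) P) := inferInstance
  obtain ⟨W, f, ⟨a, ha⟩, hyW⟩ := Presheaf.imageSieve_mem (Opens.grothendieckTopology X)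
    (CategoryTheory.toSheafify (Opens.grothendieckTopology X) P) s y hy
  have ha' : ((CategoryTheory.toSheafify (Opens.grothendieckTopology X) P).app (op W)).hom a =
      rs (Z U) (leOfHom f) s := ha
  refine ⟨W, leOfHom f, hyW, ?_⟩
  rw [← ha']
  by_cases hU : W ≤ U
  · refine Or.inl ⟨hU, ?_⟩
    have hgen : ∀ b : FreeAbelianGroup (W ⟶ U), ∃ n : ℤ,
        ((CategoryTheory.toSheafify (Opens.grothendieckTopology X) P).app (op W)).hom b =
          n • rs (Z U) hU (one U) := by
      intro b
      induction b using FreeAbelianGroup.induction_on with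
      | zero => exact ⟨0, (map_zero _).trans (zero_zsmul _).symm⟩
      | of g =>
        refine ⟨1, ?_⟩
        rw [one_zsmul, one_eq]
        refine Eq.trans ?_ (ConcreteCategory.congr_hom
          ((CategoryTheory.toSheafify (Opens.grothendieckTopology X) P).naturality (homOfLE hU).op)
          (FreeAbelianGroup.of (𝟙 U)))
        exact congrArg _ (congrArg FreeAbelianGroup.of (Subsingleton.elim g (homOfLE hU ≫ 𝟙 U))).symm |>.symm
      | neg g ih =>
        obtain ⟨n, hn⟩ := ih
        exact ⟨-n, (map_neg _ _).trans ((congrArg (- ·) hn).trans (neg_zsmul _ n).symm)⟩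
      | add g g' ih ih' =>
        obtain ⟨n, hn⟩ := ih
        obtain ⟨n', hn'⟩ := ih'
        exact ⟨n + n', (map_add _ _ _).trans ((congrArg₂ (· + ·) hn hn').trans (add_zsmul _ n n').symm)⟩
    exact hgen a
  · refine Or.inr ?_
    have : IsEmpty (W ⟶ U) := ⟨fun g => hU (leOfHom g)⟩
    have h0 : a = 0 := by
      have : Subsingleton (FreeAbelianGroup (W ⟶ U)) := by
        refine subsingleton_of_forall_eq 0 fun b => ?_
        induction b using FreeAbelianGroup.induction_on with
        | zero => rfl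
        | of g => exact isEmptyElim g
        | neg g ih => rw [ih, neg_zero]
        | add g g' ih ih' => rw [ih, ih', add_zero]
      exact @Subsingleton.elim (FreeAbelianGroup (W ⟶ U)) this a 0
    rw [h0, map_zero]

lemma stalk_free (U : Opens X) (y : X) (t : St (Z U) y) :
    (∃ (hy : y ∈ U) (n : ℤ), t = n • gm (Z U) y hy (one U)) ∨ t = 0 := by
  obtain ⟨V, hy, s, rfl⟩ := exists_germ (F := Z U) y t
  obtain ⟨W, hW, hyW, h | h⟩ := exists_local U s hy
  · obtain ⟨hU, n, e⟩ := h
    refine Or.inl ⟨hU hyW, n, ?_⟩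
    rw [← gm_rs (Z U) hW y hyW s, e, map_zsmul, gm_rs]
  · refine Or.inr ?_
    rw [← gm_rs (Z U) hW y hyW s, h, map_zero]

/-- The integer valued functions. -/
noncomputable def funPre : TopCat.Presheaf AddCommGrpCat.{u} X where
  obj V := AddCommGrpCat.of ((p : V.unop) → ULift.{u} ℤ)
  map {U V} i := AddCommGrpCat.ofHom
    (AddMonoidHom.mk' (fun s (p : V.unop) => s ⟨p.1, leOfHom i.unop p.2⟩) fun _ _ => rfl)
  map_id _ := rfl
  map_comp _ _ := rfl

/-- The sheaf of integer valued functions. -/
noncomputable def funSheaf : CohTop.Ab X :=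
  ⟨funPre, (TopCat.Presheaf.isSheaf_iff_isSheaf_comp (forget AddCommGrpCat.{u}) _).2
    (TopCat.Presheaf.toTypes_isSheaf X fun _ => ULift.{u} ℤ)⟩

lemma zsmul_one_injective (U : Opens X) (y : X) (hy : y ∈ U) (n m : ℤ)
    (h : n • gm (Z U) y hy (one U) = m • gm (Z U) y hy (one U)) : n = m := by
  obtain ⟨W, hW, hyW, e⟩ := exists_rs_eq_zero (Z U) y hy ((n - m) • one U)
    (by rw [map_zsmul, sub_zsmul, h, add_neg_cancel])
  let c : (funSheaf (X := X)).obj.obj (op U) := fun (_ : (op U).unop) => ULift.up (1 : ℤ)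
  have e' := congrArg ((Φ c).hom.app (op W)).hom e
  rw [rs_app (Φ c), map_zsmul, Φ_one, map_zero] at e'
  have e'' : ((n - m) • (fun (_ : (op U).unop) => ULift.up.{u} (1 : ℤ))) ⟨y, hW hyW⟩ = 0 :=
    congrFun e' ⟨y, hyW⟩
  have e3 : (n - m) • (1 : ℤ) = 0 := congrArg ULift.down e''
  rw [zsmul_eq_mul, mul_one] at e3
  exact sub_eq_zero.1 (by simpa using e3)

section Gen

variable {F : CohTop.Ab X} {ι : Type u} (W : ι → Opens X) (s : ∀ i, F.obj.obj (op (W i)))

/-- The germs of the generators. -/
def genSet (S : Finset ι) (y : X) : Set (St F y) :=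
  {t | ∃ i ∈ S, ∃ hy : y ∈ W i, t = gm F y hy (s i)}

/-- The generated family. -/
noncomputable def gen (S : Finset ι) : ∀ y : X, AddSubgroup (St F y) := fun y =>
  AddSubgroup.closure (genSet W s S y)

lemma gen_mono {S S' : Finset ι} (h : S ⊆ S') (y : X) : gen W s S y ≤ gen W s S' y :=
  AddSubgroup.closure_mono fun _ ⟨i, hi, hy, e⟩ => ⟨i, h hi, hy, e⟩

lemma gen_le {A : ∀ y : X, AddSubgroup (St F y)} (S : Finset ι)
    (h : ∀ i ∈ S, s i ∈ sec A (W i)) (y : X) : gen W s S y ≤ A y := by
  refine (AddSubgroup.closure_le _).2 ?_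
  rintro _ ⟨i, hi, hy, rfl⟩
  exact h i hi y hy

lemma mem_gen {S : Finset ι} {i : ι} (hi : i ∈ S) : s i ∈ sec (gen W s S) (W i) := fun _ hy =>
  AddSubgroup.subset_closure ⟨i, hi, hy, rfl⟩

lemma isLocal_gen (S : Finset ι) : IsLocal (gen W s S) := fun y t ht => by
  induction ht using AddSubgroup.closure_induction with
  | mem t ht =>
    obtain ⟨i, hi, hy, rfl⟩ := ht
    exact ⟨W i, hy, s i, rfl, mem_gen W s hi⟩
  | zero => exact ⟨⊤, trivial, 0, map_zero _, zero_mem _⟩
  | add a b _ _ iha ihb =>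
    obtain ⟨V, hy, a', rfl, ha⟩ := iha
    obtain ⟨V', hy', b', rfl, hb⟩ := ihb
    exact ⟨V ⊓ V', ⟨hy, hy'⟩, rs F inf_le_left a' + rs F inf_le_right b',
      by rw [map_add, gm_rs, gm_rs], add_mem (rs_mem _ _ ha) (rs_mem _ _ hb)⟩
  | neg a _ iha =>
    obtain ⟨V, hy, a', rfl, ha⟩ := iha
    exact ⟨V, hy, -a', map_neg _ _, neg_mem ha⟩

lemma stm_Φ_one (i : ι) (y : X) (hy : y ∈ W i) :
    stm (Φ (s i)) y (gm (Z (W i)) y hy (one (W i))) = gm F y hy (s i) := by
  rw [stm_gm, Φ_one]

lemma stm_Φ_mem (i : ι) (A : ∀ y : X, AddSubgroup (St F y)) (h : s i ∈ sec A (W i)) (y : X)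
    (t : St (Z (W i)) y) : stm (Φ (s i)) y t ∈ A y := by
  obtain ⟨hy, n, rfl⟩ | rfl := stalk_free (W i) y t
  · rw [map_zsmul, stm_Φ_one]
    exact zsmul_mem (h y hy) n
  · rw [map_zero]
    exact zero_mem _

open scoped Classical in
lemma gen_insert {S : Finset ι} {i : ι} (y : X) :
    ∀ t ∈ gen W s (insert i S) y, ∃ a ∈ gen W s S y, ∃ p, t = a + stm (Φ (s i)) y p := by
  intro t ht
  induction ht using AddSubgroup.closure_induction with
  | mem t ht =>
    obtain ⟨j, hj, hy, rfl⟩ := ht
    rcases Finset.mem_insert.1 hj with rfl | hj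
    · exact ⟨0, zero_mem _, gm (Z (W j)) y hy (one (W j)), by rw [zero_add, stm_Φ_one]⟩
    · exact ⟨_, mem_gen W s hj y hy, 0, by rw [map_zero, add_zero]⟩
  | zero => exact ⟨0, zero_mem _, 0, by rw [map_zero, add_zero]⟩
  | add a b _ _ iha ihb =>
    obtain ⟨a', ha', p, rfl⟩ := iha
    obtain ⟨b', hb', q, rfl⟩ := ihb
    exact ⟨a' + b', add_mem ha' hb', p + q, by rw [map_add]; abel⟩
  | neg a _ iha =>
    obtain ⟨a', ha', p, rfl⟩ := iha
    exact ⟨-a', neg_mem ha', -p, by rw [map_neg]; abel⟩

open scoped Classical in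
/-- Adding one generator. -/
theorem C_insert {d : ℕ} {S : Finset ι} {i : ι} (h' : C d (sub (gen W s S))) (hP : C d (Z (W i)))
    (hK : C d (sub (kerFam (gen W s S) (Φ (s i))))) : C d (sub (gen W s (insert i S))) :=
  C.step (Φ (s i)) (isLocal_gen W s S) (gen_mono W s (Finset.subset_insert i S))
    (fun y t => stm_Φ_mem W s i _ (mem_gen W s (Finset.mem_insert_self i S)) y t)
    (fun y t ht => gen_insert W s y t ht) h' hP hK

lemma gen_empty {d : ℕ} : C d (sub (gen W s ∅)) :=
  C.of_subsingleton fun V => subsingleton_of_forall_eq 0 fun a => Subtype.ext (by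
    refine eq_zero_of_locally F a.1 fun y hy => ?_
    have h0 : gm F y hy a.1 = 0 := by
      have := a.2 y hy
      have h : gen W s ∅ y = ⊥ := by
        refine (AddSubgroup.closure_eq_bot_iff).2 ?_
        rintro _ ⟨j, hj, -, -⟩
        exact absurd hj (Finset.notMem_empty j)
      rw [h] at this
      exact this
    obtain ⟨V', hV', hyV', e⟩ := exists_rs_eq_zero F y hy a.1 h0
    exact ⟨V', hV', hyV', e⟩)

end Gen

variable [CompactSpace X] [PrespectralSpace X] [QuasiSeparatedSpace X] {d : ℕ}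
  (hd : ∀ U : Opens X, IsCompact (U : Set X) → C d (Z U))

include hd

/-- Subsheaves generated by multiples of `1` on compact opens. -/
theorem C_gen_free : ∀ (n : ℕ) (U : Opens X) (ι : Type u) (W : ι → Opens X) (hW : ∀ i, W i ≤ U)
    (_ : ∀ i, IsCompact (W i : Set X)) (a : ι → ℤ) (S : Finset ι), S.card ≤ n →
    C d (sub (gen W (fun i => a i • rs (Z U) (hW i) (one U)) S)) := by
  classical
  intro n
  induction n with
  | zero =>
    intro U ι W hW _ a S hS
    rw [Finset.card_eq_zero.1 (Nat.le_zero.1 hS)]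
    exact gen_empty _ _
  | succ n ih =>
    intro U ι W hW hc a S hS
    rcases S.eq_empty_or_nonempty with rfl | ⟨i, hi⟩
    · exact gen_empty _ _
    obtain ⟨S, hiS, rfl⟩ : ∃ S', i ∉ S' ∧ insert i S' = S :=
      ⟨S.erase i, Finset.notMem_erase i S, Finset.insert_erase hi⟩
    have hcard : S.card ≤ n := by
      rw [Finset.card_insert_of_notMem hiS] at hS; omega
    set s := fun i => a i • rs (Z U) (hW i) (one U) with hs
    have hgm : ∀ j y (hy : y ∈ W j), gm (Z U) y hy (s j) = a j • gm (Z U) y (hW j hy) (one U) := by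
      intro j y hy
      rw [hs, map_zsmul, gm_rs]
    by_cases hai : a i = 0
    · have e : gen W s (insert i S) = gen W s S := by
        funext y
        refine le_antisymm (gen_le W s _ (fun j hj => ?_) y) (gen_mono W s (Finset.subset_insert i S) y)
        rcases Finset.mem_insert.1 hj with rfl | hj
        · intro z hz
          rw [hgm, hai, zero_zsmul]
          exact zero_mem _
        · exact mem_gen W s hj
      rw [e]
      exact ih U ι W hW hc a S hcard
    refine C_insert W s (ih U ι W hW hc a S hcard) (hd _ (hc i)) ?_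
    -- the preimage in the free sheaf on `W i`
    let g : ι → ℤ := fun j => (Int.gcd (a j) (a i) : ℤ)
    let a' : ι → ℤ := fun j => a j / g j
    have hg : ∀ j, g j * a' j = a j := fun j => Int.mul_ediv_cancel' (Int.gcd_dvd_left _ _)
    have ha' : ∀ j, a j ∣ a' j * a i := fun j => by
      obtain ⟨c, hc⟩ := (Int.gcd_dvd_right (a j) (a i) : (g j) ∣ a i)
      exact ⟨c, (congrArg (a' j * ·) hc).trans (by rw [← mul_assoc, mul_comm (a' j), hg j])⟩
    have heq : kerFam (gen W s S) (Φ (s i)) = gen (fun j => W i ⊓ W j)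
        (fun j => a' j • rs (Z (W i)) (inf_le_left : W i ⊓ W j ≤ W i) (one (W i))) S := by
      funext y
      refine le_antisymm (fun t ht => ?_) (gen_le _ _ _ (fun j hj z hz => ?_) y)
      · obtain ⟨hy, m, rfl⟩ | rfl := stalk_free (W i) y t
        swap
        · exact zero_mem _
        have ht' : (m * a i) • gm (Z U) y (hW i hy) (one U) ∈ gen W s S y := by
          have := ht
          rw [AddSubgroup.mem_comap, map_zsmul, stm_Φ_one, hgm, ← mul_zsmul'] at this
          rwa [mul_comm]
        let K : Set ℤ := {k | ∃ j ∈ S, y ∈ W j ∧ k = a j}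
        let K' : Set ℤ := {k | ∃ j ∈ S, y ∈ W j ∧ k = a' j}
        have hK : ∀ t ∈ gen W s S y, ∃ k ∈ AddSubgroup.closure K,
            t = k • gm (Z U) y (hW i hy) (one U) := by
          intro t ht
          induction ht using AddSubgroup.closure_induction with
          | mem t ht =>
            obtain ⟨j, hj, hy', rfl⟩ := ht
            exact ⟨a j, AddSubgroup.subset_closure ⟨j, hj, hy', rfl⟩, hgm j y hy'⟩
          | zero => exact ⟨0, zero_mem _, (zero_zsmul _).symm⟩
          | add b c _ _ ihb ihc =>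
            obtain ⟨k, hk, rfl⟩ := ihb
            obtain ⟨k', hk', rfl⟩ := ihc
            exact ⟨k + k', add_mem hk hk', (add_zsmul _ _ _).symm⟩
          | neg b _ ihb =>
            obtain ⟨k, hk, rfl⟩ := ihb
            exact ⟨-k, neg_mem hk, (neg_zsmul _ _).symm⟩
        obtain ⟨k, hk, e⟩ := hK _ ht'
        obtain rfl := zsmul_one_injective U y (hW i hy) _ _ e
        obtain ⟨D, hD⟩ := Int.subgroup_cyclic (AddSubgroup.closure K)
        obtain ⟨E, hE⟩ := Int.subgroup_cyclic (AddSubgroup.closure K')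
        have hdvd : ∀ {c x : ℤ}, x ∈ AddSubgroup.closure ({c} : Set ℤ) ↔ c ∣ x := fun {c x} => by
          rw [← AddSubgroup.zmultiples_eq_closure, Int.mem_zmultiples_iff]
        have hDj : ∀ j ∈ S, y ∈ W j → D ∣ a j := fun j hj hy' => by
          rw [← hdvd, ← hD]; exact AddSubgroup.subset_closure ⟨j, hj, hy', rfl⟩
        have hEj : ∀ j ∈ S, y ∈ W j → E ∣ a' j := fun j hj hy' => by
          rw [← hdvd, ← hE]; exact AddSubgroup.subset_closure ⟨j, hj, hy', rfl⟩
        let G : ℤ := (Int.gcd D (a i) : ℤ)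
        have hall : ∀ x ∈ AddSubgroup.closure K, E * G ∣ x := by
          intro x hx
          induction hx using AddSubgroup.closure_induction with
          | mem x hx =>
            obtain ⟨j, hj, hy', rfl⟩ := hx
            rw [← hg j, mul_comm (g j)]
            exact mul_dvd_mul (hEj j hj hy') (Int.dvd_coe_gcd
              ((Int.gcd_dvd_left _ _).trans (hDj j hj hy')) (Int.gcd_dvd_right _ _))
          | zero => exact dvd_zero _
          | add b c _ _ ihb ihc => exact dvd_add ihb ihc
          | neg b _ ihb => exact ihb.neg_right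
        have h1 : E * G ∣ m * D := (hall D (by rw [hD]; exact AddSubgroup.subset_closure rfl)).mul_left m
        have h2 : E * G ∣ m * a i := hall _ hk
        have h3 : E * G ∣ m * G := by
          show _ ∣ m * (Int.gcd D (a i) : ℤ)
          rw [Int.gcd_eq_gcd_ab, mul_add, ← mul_assoc, ← mul_assoc]
          exact dvd_add (h1.mul_right _) (h2.mul_right _)
        have hG : G ≠ 0 := fun h => hai (Int.gcd_eq_zero_iff.1 (Int.ofNat_eq_zero.1 h)).2
        have hm : m ∈ AddSubgroup.closure K' := by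
          rw [hE, hdvd]; exact (mul_dvd_mul_iff_right hG).1 h3
        clear hk e ht' ht h1 h2 h3
        induction hm using AddSubgroup.closure_induction with
        | mem x hx =>
          obtain ⟨j, hj, hy', rfl⟩ := hx
          refine AddSubgroup.subset_closure ⟨j, hj, ⟨hy, hy'⟩, ?_⟩
          rw [map_zsmul, gm_rs]
        | zero => rw [zero_zsmul]; exact zero_mem _
        | add b c _ _ ihb ihc => rw [add_zsmul]; exact add_mem ihb ihc
        | neg b _ ihb => rw [neg_zsmul]; exact neg_mem ihb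
      · obtain ⟨c, hc'⟩ := ha' j
        rw [AddSubgroup.mem_comap, map_zsmul, map_zsmul, gm_rs, stm_Φ_one, hgm, ← mul_zsmul',
          mul_comm, hc', mul_zsmul', ← hgm j z hz.2]
        exact zsmul_mem (mem_gen W s hj z hz.2) c
    rw [heq]
    exact ih (W i) ι _ _ (fun j => isCompact_inf (hc i) (hc j)) a' S hcard

/-- Every subsheaf of a free sheaf. -/
theorem C_sub_free (U : Opens X) (A : ∀ y : X, AddSubgroup (St (Z U) y)) : C d (sub A) := by
  classical
  let T : Type u := {p : {W : Opens X // IsCompact (W : Set X) ∧ W ≤ U} × ULift.{u} ℤ //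
    p.2.down • rs (Z U) p.1.2.2 (one U) ∈ sec A p.1.1}
  refine C.union (ι := Finset T) (fun S => gen (fun p : T => p.1.1.1)
    (fun p => p.1.2.down • rs (Z U) p.1.1.2.2 (one U)) S)
    (fun S S' h => gen_mono _ _ h) (fun S => gen_le _ _ _ fun p _ => p.2) (fun V s hs x hx => ?_)
    (fun S => C_gen_free hd S.card U T _ (fun p => p.1.1.2.2) (fun p => p.1.1.2.1) _ S le_rfl)
  obtain ⟨W, hW, hxW, h | h⟩ := exists_local U s hx
  · obtain ⟨hU, n, e⟩ := h
    obtain ⟨W', hW'c, hxW', hW'⟩ := exists_compact_nbhd hxW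
    have e' : rs (Z U) (hW'.trans hW) s = n • rs (Z U) (hW'.trans hU) (one U) := by
      rw [← rs_rs (Z U) hW hW', e, map_zsmul, rs_rs]
    let p : T := ⟨(⟨W', hW'c, hW'.trans hU⟩, ULift.up n), show n • rs (Z U) (hW'.trans hU) (one U) ∈
      sec A W' by rw [← e']; exact rs_mem A _ hs⟩
    refine ⟨{p}, W', hW'.trans hW, hxW', ?_⟩
    rw [e']
    exact mem_gen (fun p : T => p.1.1.1) (fun p => p.1.2.down • rs (Z U) p.1.1.2.2 (one U))
      (Finset.mem_singleton_self p)
  · exact ⟨∅, W, hW, hxW, by rw [h]; exact zero_mem _⟩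

/-- Every sheaf. -/
theorem C_all (F : CohTop.Ab X) : C d F := by
  classical
  let T : Type u := Σ W : {W : Opens X // IsCompact (W : Set X)}, F.obj.obj (op W.1)
  have hgen : ∀ S : Finset T, C d (sub (gen (fun p : T => p.1.1) (fun p => p.2) S)) := by
    intro S
    induction S using Finset.induction_on with
    | empty => exact gen_empty _ _
    | @insert p S _ ih =>
      let A : ∀ y : X, AddSubgroup (St (Z p.1.1) y) :=
        kerFam (gen (fun p : T => p.1.1) (fun p => p.2) S) (Φ p.2)
      have h1 : C d (sub A) := C_sub_free hd p.1.1 A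
      convert C_insert (i := p) (S := S) (fun p : T => p.1.1) (fun p => p.2) ih (hd p.1.1 p.1.2) h1
  have hA : C d (sub (fun y => (⊤ : AddSubgroup (St F y)))) := by
    let B : Finset T → ∀ y : X, AddSubgroup (St F y) := fun S =>
      gen (fun p : T => p.1.1) (fun p => p.2) S
    have hmono : ∀ S S' : Finset T, S ≤ S' → ∀ y, B S y ≤ B S' y :=
      fun S S' h => gen_mono _ _ h
    have hB : ∀ (S : Finset T) (y : X), B S y ≤ (⊤ : AddSubgroup (St F y)) := fun S y _ _ => trivial
    refine C.union (ι := Finset T) (A := fun y => (⊤ : AddSubgroup (St F y))) B hmono hB ?_ hgen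
    intro V s _ x hx
    obtain ⟨W, hWc, hxW, hW⟩ := exists_compact_nbhd hx
    exact ⟨{⟨⟨W, hWc⟩, rs F hW s⟩}, W, hW, hxW,
      mem_gen (fun p : T => p.1.1) (fun p => p.2) (Finset.mem_singleton_self (⟨⟨W, hWc⟩, rs F hW s⟩ : T))⟩
  let A : ∀ y : X, AddSubgroup (St F y) := fun _ => ⊤
  have := mono_subι (A := A)
  have : Epi (subι A) := epi_of_locally _ fun V t x hx =>
    ⟨V, le_rfl, hx, ⟨t, fun _ _ => trivial⟩, (rs_refl F t).symm⟩
  have := isIso_of_mono_of_epi (subι A)
  intro p hp
  refine subsingleton_of_forall_eq 0 fun x => ?_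
  rw [← HUmap_id F p ⊤ x, ← IsIso.inv_hom_id (subι A), HUmap_comp,
    @Subsingleton.elim (CohTop.HU (sub A) p ⊤) (hA p hp) (CohTop.HUmap (inv (subι A)) p ⊤ x) 0, map_zero]

end Groth.Agent.CohTop.FreeVanish
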