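import Groth.Agent.CohAff.Godement
import Groth.Prelude.Def_CohTop
import Groth.Prelude.Def_CohCx
import Mathlib.Topology.Sheaves.Flasque
import Mathlib.Topology.Sheaves.Skyscraper
import Mathlib.Algebra.Homology.Embedding.StupidTrunc
import Mathlib.Algebra.Homology.Embedding.ExtendHomotopy
import Mathlib.Algebra.Homology.Embedding.HomEquiv

/-!
# The Godement resolution of a complex of abelian sheaves

`obj C k` is `gd (C^k) ⊕ gd (qt C^(k-1)) ⊕ …`, defined by recursion on `k`; the map `ψ` from `C` is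
a homotopy equivalence on every stalk.
-/

set_option autoImplicit false

universe u

open CategoryTheory CategoryTheory.Limits Opposite TopologicalSpace

namespace Groth.Agent.CohTop.GodementCx

open Groth.Agent

variable {X : TopCat.{u}}

/-- The Godement functor. -/
noncomputable def gdF : CohTop.Ab X ⥤ CohTop.Ab X where
  obj F := CohAff.gd F
  map φ := CohAff.gdMap φ
  map_id F := by
    apply CategoryTheory.Sheaf.hom_ext
    ext V s
    funext p
    exact ConcreteCategory.congr_hom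
      ((TopCat.Presheaf.stalkFunctor AddCommGrpCat.{u} p.1).map_id F.obj) (s p)
  map_comp {F G K} φ ψ := by
    apply CategoryTheory.Sheaf.hom_ext
    ext V s
    funext p
    exact ConcreteCategory.congr_hom
      ((TopCat.Presheaf.stalkFunctor AddCommGrpCat.{u} p.1).map_comp φ.hom ψ.hom) (s p)

instance : (gdF (X := X)).Additive where
  map_add {F G} φ ψ := by
    apply CategoryTheory.Sheaf.hom_ext
    ext V s
    funext p
    exact ConcreteCategory.congr_hom
      ((TopCat.Presheaf.stalkFunctor AddCommGrpCat.{u} p.1).map_add (f := φ.hom) (g := ψ.hom)) (s p)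

/-- The embedding. -/
noncomputable def η (F : CohTop.Ab X) : F ⟶ gdF.obj F := CohAff.η F

lemma η_gd {F G : CohTop.Ab X} (φ : F ⟶ G) : η F ≫ gdF.map φ = φ ≫ η G :=
  (CohAff.η_naturality φ).symm

attribute [local simp] η_gd

/-- The quotient functor. -/
noncomputable def qtF : CohTop.Ab X ⥤ CohTop.Ab X where
  obj F := cokernel (η F)
  map {F G} φ := cokernel.map _ _ φ (gdF.map φ) (η_gd φ)
  map_id F := coequalizer.hom_ext (by simp)
  map_comp {F G K} φ ψ := coequalizer.hom_ext (by simp)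

/-- The projection. -/
noncomputable def π (F : CohTop.Ab X) : gdF.obj F ⟶ qtF.obj F := cokernel.π (η F)

lemma gd_π {F G : CohTop.Ab X} (φ : F ⟶ G) : gdF.map φ ≫ π G = π F ≫ qtF.map φ :=
  (cokernel.π_desc _ _ _).symm

@[reassoc (attr := simp)]
lemma η_π (F : CohTop.Ab X) : η F ≫ π F = 0 := cokernel.condition _

instance : (qtF (X := X)).Additive where
  map_add {F G} φ ψ := coequalizer.hom_ext (by
    show π F ≫ qtF.map (φ + ψ) = π F ≫ (qtF.map φ + qtF.map ψ)
    rw [← gd_π, Preadditive.comp_add, ← gd_π, ← gd_π, gdF.map_add, Preadditive.add_comp])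

/-- Complexes in non-negative degrees. -/
abbrev Cx (X : TopCat.{u}) := CochainComplex (CohTop.Ab X) ℕ

/-- The quotient complex. -/
noncomputable abbrev Qc (C : Cx X) : Cx X := (qtF.mapHomologicalComplex _).obj C

/-- The terms. -/
noncomputable def obj : Cx X → ℕ → CohTop.Ab X
  | C, 0 => gdF.obj (C.X 0)
  | C, k + 1 => gdF.obj (C.X (k + 1)) ⊞ obj (Qc C) k

/-- The inclusion in degree zero. -/
noncomputable def i₀ (C : Cx X) : gdF.obj (C.X 0) ⟶ obj C 0 := 𝟙 (gdF.obj (C.X 0))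

/-- The projection in degree zero. -/
noncomputable def p₀ (C : Cx X) : obj C 0 ⟶ gdF.obj (C.X 0) := 𝟙 (gdF.obj (C.X 0))

@[reassoc (attr := simp)]
lemma i₀_p₀ (C : Cx X) : i₀ C ≫ p₀ C = 𝟙 _ := Category.id_comp _

@[reassoc (attr := simp)]
lemma p₀_i₀ (C : Cx X) : p₀ C ≫ i₀ C = 𝟙 _ := Category.id_comp (𝟙 (gdF.obj (C.X 0)))

/-- First inclusion. -/
noncomputable def i₁ (C : Cx X) (k : ℕ) : gdF.obj (C.X (k + 1)) ⟶ obj C (k + 1) :=
  (biprod.inl : _ ⟶ gdF.obj (C.X (k + 1)) ⊞ obj (Qc C) k)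

/-- Second inclusion. -/
noncomputable def i₂ (C : Cx X) (k : ℕ) : obj (Qc C) k ⟶ obj C (k + 1) :=
  (biprod.inr : _ ⟶ gdF.obj (C.X (k + 1)) ⊞ obj (Qc C) k)

/-- First projection. -/
noncomputable def p₁ (C : Cx X) (k : ℕ) : obj C (k + 1) ⟶ gdF.obj (C.X (k + 1)) :=
  (biprod.fst : gdF.obj (C.X (k + 1)) ⊞ obj (Qc C) k ⟶ _)

/-- Second projection. -/
noncomputable def p₂ (C : Cx X) (k : ℕ) : obj C (k + 1) ⟶ obj (Qc C) k :=
  (biprod.snd : gdF.obj (C.X (k + 1)) ⊞ obj (Qc C) k ⟶ _)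

@[reassoc (attr := simp)]
lemma i₁_p₁ (C : Cx X) (k : ℕ) : i₁ C k ≫ p₁ C k = 𝟙 _ := biprod.inl_fst

@[reassoc (attr := simp)]
lemma i₁_p₂ (C : Cx X) (k : ℕ) : i₁ C k ≫ p₂ C k = 0 := biprod.inl_snd

@[reassoc (attr := simp)]
lemma i₂_p₁ (C : Cx X) (k : ℕ) : i₂ C k ≫ p₁ C k = 0 := biprod.inr_fst

@[reassoc (attr := simp)]
lemma i₂_p₂ (C : Cx X) (k : ℕ) : i₂ C k ≫ p₂ C k = 𝟙 _ := biprod.inr_snd

lemma total (C : Cx X) (k : ℕ) : p₁ C k ≫ i₁ C k + p₂ C k ≫ i₂ C k = 𝟙 _ := biprod.total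

/-- The map from the complex. -/
noncomputable def ψ : ∀ (C : Cx X) (k : ℕ), C.X k ⟶ obj C k
  | C, 0 => η (C.X 0) ≫ i₀ C
  | C, k + 1 => η (C.X (k + 1)) ≫ i₁ C k

lemma ψ_zero (C : Cx X) : ψ C 0 = η (C.X 0) ≫ i₀ C := rfl

lemma ψ_succ (C : Cx X) (k : ℕ) : ψ C (k + 1) = η (C.X (k + 1)) ≫ i₁ C k := rfl

/-- The map from the quotient complex. -/
noncomputable def φq (C : Cx X) (k : ℕ) : qtF.obj (C.X k) ⟶ obj (Qc C) k := ψ (Qc C) k

/-- The differential. -/
noncomputable def D : ∀ (C : Cx X) (k : ℕ), obj C k ⟶ obj C (k + 1)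
  | C, 0 => p₀ C ≫ (gdF.map (C.d 0 1) ≫ i₁ C 0 + π (C.X 0) ≫ φq C 0 ≫ i₂ C 0)
  | C, k + 1 => p₁ C k ≫ (gdF.map (C.d (k + 1) (k + 2)) ≫ i₁ C (k + 1) +
        π (C.X (k + 1)) ≫ φq C (k + 1) ≫ i₂ C (k + 1)) -
      p₂ C k ≫ D (Qc C) k ≫ i₂ C (k + 1)

lemma D_zero (C : Cx X) :
    D C 0 = p₀ C ≫ (gdF.map (C.d 0 1) ≫ i₁ C 0 + π (C.X 0) ≫ φq C 0 ≫ i₂ C 0) := rfl

@[reassoc]
lemma i₁_D (C : Cx X) (k : ℕ) : i₁ C k ≫ D C (k + 1) =
    gdF.map (C.d (k + 1) (k + 2)) ≫ i₁ C (k + 1) +
      π (C.X (k + 1)) ≫ φq C (k + 1) ≫ i₂ C (k + 1) := by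
  simp only [D, Preadditive.comp_sub, i₁_p₁_assoc, i₁_p₂_assoc, zero_comp, sub_zero]

@[reassoc]
lemma i₂_D (C : Cx X) (k : ℕ) : i₂ C k ≫ D C (k + 1) = -(D (Qc C) k ≫ i₂ C (k + 1)) := by
  simp only [D, Preadditive.comp_sub, i₂_p₁_assoc, i₂_p₂_assoc, zero_comp, zero_sub]

@[reassoc]
lemma ψ_D (C : Cx X) : ∀ k, ψ C k ≫ D C k = C.d k (k + 1) ≫ ψ C (k + 1) := by
  intro k
  cases k with
  | zero =>
    rw [ψ_zero, Category.assoc, D_zero, i₀_p₀_assoc, Preadditive.comp_add, η_π_assoc, zero_comp, add_zero, ← Category.assoc, η_gd,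
      Category.assoc, ψ_succ]
  | succ k =>
    rw [ψ_succ, Category.assoc, i₁_D, Preadditive.comp_add, η_π_assoc, zero_comp, add_zero,
      ← Category.assoc, η_gd, Category.assoc, ψ_succ]

lemma ψ_Qc (C : Cx X) (k : ℕ) :
    φq C k ≫ D (Qc C) k = qtF.map (C.d k (k + 1)) ≫ φq C (k + 1) :=
  ψ_D (Qc C) k

attribute [reassoc] ψ_Qc

lemma D_D : ∀ (k : ℕ) (C : Cx X), D C k ≫ D C (k + 1) = 0
  | 0, C => by
    show D C 0 ≫ D C 1 = 0
    have : Epi (i₀ C) := inferInstanceAs (Epi (𝟙 (gdF.obj (C.X 0))))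
    refine (cancel_epi (i₀ C)).1 ?_
    rw [D_zero, comp_zero, Category.assoc, i₀_p₀_assoc, Preadditive.add_comp, Category.assoc,
      Category.assoc, Category.assoc, i₁_D, i₂_D]
    simp only [Preadditive.comp_add, Preadditive.comp_neg]
    rw [← Category.assoc (gdF.map _), ← gdF.map_comp, C.d_comp_d, gdF.map_zero, zero_comp]
    rw [zero_add, 
      ← Category.assoc (gdF.map _), gd_π, Category.assoc, ψ_Qc_assoc, add_neg_cancel]
  | k + 1, C => by
    have h₁ : i₁ C k ≫ D C (k + 1) ≫ D C (k + 2) = 0 := by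
      rw [i₁_D_assoc, Preadditive.add_comp, Category.assoc, Category.assoc, Category.assoc, i₁_D,
        i₂_D]
      simp only [Preadditive.comp_add, Preadditive.comp_neg]
      rw [← Category.assoc (gdF.map _), ← gdF.map_comp, C.d_comp_d, gdF.map_zero, zero_comp, zero_add,
        ← Category.assoc (gdF.map _), gd_π, Category.assoc, ψ_Qc_assoc, add_neg_cancel]
    have h₂ : i₂ C k ≫ D C (k + 1) ≫ D C (k + 2) = 0 := by
      rw [i₂_D_assoc, Preadditive.neg_comp, Category.assoc, i₂_D, Preadditive.comp_neg, neg_neg,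
        ← Category.assoc, D_D k (Qc C), zero_comp]
    show D C (k + 1) ≫ D C (k + 2) = 0
    rw [← Category.id_comp (D C (k + 1) ≫ D C (k + 2)), ← total C k, Preadditive.add_comp,
      Category.assoc, Category.assoc, h₁, h₂, comp_zero, comp_zero, add_zero]

/-- The resolution. -/
noncomputable def res (C : Cx X) : Cx X := CochainComplex.of (obj C) (D C) (fun k => D_D k C)

lemma res_d (C : Cx X) (k : ℕ) : (res C).d k (k + 1) = D C k := by
  simp [res]

/-- The map to the resolution. -/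
noncomputable def toRes (C : Cx X) : C ⟶ res C where
  f k := ψ C k
  comm' i j h := by
    obtain rfl : i + 1 = j := h
    rw [res_d]
    exact ψ_D C i

lemma isFlasque_gd (F : CohTop.Ab X) : TopCat.Sheaf.IsFlasque (gdF.obj F) := by
  classical
  exact ⟨fun {U V} i => (AddCommGrpCat.epi_iff_surjective _).2 fun s =>
    ⟨fun p => if h : p.1 ∈ V.unop then s ⟨p.1, h⟩ else 0,
      funext fun p => dif_pos p.2⟩⟩

lemma isFlasque_biprod {A B : CohTop.Ab X} (hA : TopCat.Sheaf.IsFlasque A)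
    (hB : TopCat.Sheaf.IsFlasque B) : TopCat.Sheaf.IsFlasque (A ⊞ B : CohTop.Ab X) := by
  refine ⟨fun {U V} i => (AddCommGrpCat.epi_iff_surjective _).2 fun s => ?_⟩
  obtain ⟨a, ha⟩ := (AddCommGrpCat.epi_iff_surjective (A.obj.map i)).1 (hA.epi i)
    (((biprod.fst : A ⊞ B ⟶ A).hom.app V).hom s)
  obtain ⟨b, hb⟩ := (AddCommGrpCat.epi_iff_surjective (B.obj.map i)).1 (hB.epi i)
    (((biprod.snd : A ⊞ B ⟶ B).hom.app V).hom s)
  refine ⟨((biprod.inl : A ⟶ A ⊞ B).hom.app U).hom a + ((biprod.inr : B ⟶ A ⊞ B).hom.app U).hom b, ?_⟩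
  rw [map_add]
  refine Eq.trans (congrArg₂ (· + ·)
    (((biprod.inl : A ⟶ A ⊞ B).hom.naturality_apply i a).symm.trans (congrArg _ ha))
    (((biprod.inr : B ⟶ A ⊞ B).hom.naturality_apply i b).symm.trans (congrArg _ hb))) ?_
  exact ConcreteCategory.congr_hom (congrArg (fun φ => φ.hom.app V) (biprod.total (X := A) (Y := B))) s

lemma isFlasque_obj : ∀ (k : ℕ) (C : Cx X), TopCat.Sheaf.IsFlasque (obj C k)
  | 0, _ => isFlasque_gd _
  | k + 1, C => isFlasque_biprod (isFlasque_gd _) (isFlasque_obj k (Qc C))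

section Stalk

variable (x : X)

/-- The stalk functor on sheaves. -/
noncomputable def St : CohTop.Ab X ⥤ AddCommGrpCat.{u} :=
  sheafToPresheaf (Opens.grothendieckTopology X) AddCommGrpCat.{u} ⋙
    TopCat.Presheaf.stalkFunctor AddCommGrpCat.{u} x

instance : (St x).IsLeftAdjoint :=
  inferInstanceAs (TopCat.Sheaf.forget AddCommGrpCat.{u} X ⋙
    TopCat.Presheaf.stalkFunctor AddCommGrpCat.{u} x).IsLeftAdjoint

instance : (St x).Additive :=
  have := preservesBinaryBiproducts_of_preservesBinaryCoproducts (St x)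
  Functor.additive_of_preservesBinaryBiproducts _

/-- Evaluation at the point. -/
noncomputable def r (M : CohTop.Ab X) : (St x).obj (gdF.obj M) ⟶ (St x).obj M :=
  colimit.desc ((OpenNhds.inclusion x).op ⋙ (CohAff.gdPre M.obj))
    { pt := (St x).obj M
      ι :=
        { app := fun W => AddCommGrpCat.ofHom (AddMonoidHom.mk'
            (fun (s : ∀ p : (W.unop.1 : Opens X),
              (TopCat.Presheaf.stalk (C := AddCommGrpCat.{u}) (X := X) M.obj p.1 : AddCommGrpCat.{u})) =>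
              s ⟨x, W.unop.2⟩) fun _ _ => rfl)
          naturality := fun _ _ _ => rfl } }

lemma r_germ (M : CohTop.Ab X) (U : Opens X) (hx : x ∈ U) (s : (gdF.obj M).obj.obj (op U)) :
    (r x M).hom ((TopCat.Presheaf.germ (C := AddCommGrpCat.{u}) (X := X) (gdF.obj M).obj U x hx).hom s) =
      s ⟨x, hx⟩ :=
  ConcreteCategory.congr_hom (colimit.ι_desc (F := (OpenNhds.inclusion x).op ⋙ (CohAff.gdPre M.obj))
    _ (op (⟨U, hx⟩ : OpenNhds x))) s

@[reassoc]
lemma r_nat {M N : CohTop.Ab X} (φ : M ⟶ N) : (St x).map (gdF.map φ) ≫ r x N = r x M ≫ (St x).map φ := by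
  refine TopCat.Presheaf.stalk_hom_ext (C := AddCommGrpCat.{u}) (X := X) (gdF.obj M).obj fun U hx => ?_
  ext s
  refine (congrArg (r x N).hom
    (TopCat.Presheaf.stalkFunctor_map_germ_apply U x hx (gdF.map φ).hom s)).trans ?_
  refine (r_germ x N U hx _).trans ?_
  exact congrArg ((St x).map φ).hom (r_germ x M U hx s).symm

@[reassoc]
lemma η_r (M : CohTop.Ab X) : (St x).map (η M) ≫ r x M = 𝟙 _ := by
  refine TopCat.Presheaf.stalk_hom_ext (C := AddCommGrpCat.{u}) (X := X) M.obj fun U hx => ?_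
  ext s
  refine (congrArg (r x M).hom
    (TopCat.Presheaf.stalkFunctor_map_germ_apply U x hx (η M).hom s)).trans ?_
  exact r_germ x M U hx _

/-- The stalk sequence of the Godement sequence. -/
noncomputable abbrev stSeq (M : CohTop.Ab X) : ShortComplex AddCommGrpCat.{u} :=
  (ShortComplex.mk (η M) (π M) (η_π M)).map (St x)

lemma epi_π (M : CohTop.Ab X) : Epi ((St x).map (π M)) := by
  have : Epi (π M) := inferInstanceAs (Epi (cokernel.π (η M)))
  infer_instance

/-- The splitting. -/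
noncomputable def spl (M : CohTop.Ab X) : (stSeq x M).Splitting :=
  ShortComplex.Splitting.ofExactOfRetraction _
    ((TopCat.Sheaf.exact_iff_stalkFunctor_map_exact (C := AddCommGrpCat.{u}) (X := X) _).1
      (ShortComplex.exact_cokernel (η M)) x)
    (r x M) (η_r x M) (epi_π x M)

/-- The section. -/
noncomputable def s (M : CohTop.Ab X) : (St x).obj (qtF.obj M) ⟶ (St x).obj (gdF.obj M) := (spl x M).s

@[reassoc]
lemma s_π (M : CohTop.Ab X) : s x M ≫ (St x).map (π M) = 𝟙 _ := (spl x M).s_g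

@[reassoc]
lemma π_s (M : CohTop.Ab X) :
    (St x).map (π M) ≫ s x M = 𝟙 _ - r x M ≫ (St x).map (η M) :=
  eq_sub_of_add_eq' (spl x M).id

@[reassoc]
lemma s_nat {M N : CohTop.Ab X} (φ : M ⟶ N) :
    s x M ≫ (St x).map (gdF.map φ) = (St x).map (qtF.map φ) ≫ s x N := by
  have := epi_π x M
  rw [← cancel_epi ((St x).map (π M)), π_s_assoc, ← Category.assoc, ← (St x).map_comp, ← gd_π,
    (St x).map_comp, Category.assoc, π_s]
  simp only [Preadditive.sub_comp, Preadditive.comp_sub, Category.id_comp, Category.comp_id,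
    Category.assoc, r_nat_assoc, sub_right_inj]
  rw [← (St x).map_comp, ← (St x).map_comp, η_gd]

/-- The retraction. -/
noncomputable def σ : ∀ (C : Cx X) (k : ℕ), (St x).obj (obj C k) ⟶ (St x).obj (C.X k)
  | C, 0 => (St x).map (p₀ C) ≫ r x (C.X 0)
  | C, k + 1 => (St x).map (p₁ C k) ≫ r x (C.X (k + 1))

@[reassoc]
lemma i₀_σ (C : Cx X) : (St x).map (i₀ C) ≫ σ x C 0 = r x (C.X 0) := by
  rw [σ, ← (St x).map_comp_assoc, i₀_p₀, (St x).map_id, Category.id_comp]

@[reassoc]
lemma i₁_σ (C : Cx X) (k : ℕ) : (St x).map (i₁ C k) ≫ σ x C (k + 1) = r x (C.X (k + 1)) := by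
  rw [σ, ← (St x).map_comp_assoc, i₁_p₁, (St x).map_id, Category.id_comp]

@[reassoc]
lemma i₂_σ (C : Cx X) (k : ℕ) : (St x).map (i₂ C k) ≫ σ x C (k + 1) = 0 := by
  rw [σ, ← (St x).map_comp_assoc, i₂_p₁, (St x).map_zero, zero_comp]

@[reassoc]
lemma ψ_σ (C : Cx X) (k : ℕ) : (St x).map (ψ C k) ≫ σ x C k = 𝟙 _ := by
  cases k with
  | zero => rw [ψ_zero, (St x).map_comp, Category.assoc, i₀_σ, η_r]
  | succ k => rw [ψ_succ, (St x).map_comp, Category.assoc, i₁_σ, η_r]

@[reassoc]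
lemma D_σ (C : Cx X) (k : ℕ) :
    (St x).map (D C k) ≫ σ x C (k + 1) = σ x C k ≫ (St x).map (C.d k (k + 1)) := by
  cases k with
  | zero =>
    rw [D_zero]
    simp only [Functor.map_comp, Functor.map_add, Preadditive.comp_add, Preadditive.add_comp,
      Category.assoc, i₁_σ, i₂_σ, comp_zero, add_zero, r_nat]
    rw [σ, Category.assoc]
  | succ k =>
    have e : D C (k + 1) = p₁ C k ≫ (i₁ C k ≫ D C (k + 1)) + p₂ C k ≫ (i₂ C k ≫ D C (k + 1)) := by
      rw [← Category.assoc, ← Category.assoc, ← Preadditive.add_comp, total, Category.id_comp]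
    rw [e, i₁_D, i₂_D]
    simp only [Functor.map_comp, Functor.map_add, Functor.map_neg, Preadditive.add_comp,
      Preadditive.comp_add, Preadditive.comp_neg, Preadditive.neg_comp, Category.assoc, i₁_σ, i₂_σ,
      comp_zero, add_zero, neg_zero, r_nat]
    rw [σ, Category.assoc]

/-- The retraction for the quotient complex. -/
noncomputable def σq (C : Cx X) (k : ℕ) : (St x).obj (obj (Qc C) k) ⟶ (St x).obj (qtF.obj (C.X k)) :=
  σ x (Qc C) k

@[reassoc]
lemma φq_σq (C : Cx X) (k : ℕ) : (St x).map (φq C k) ≫ σq x C k = 𝟙 _ := ψ_σ x (Qc C) k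

@[reassoc]
lemma D_σq (C : Cx X) (k : ℕ) : (St x).map (D (Qc C) k) ≫ σq x C (k + 1) =
    σq x C k ≫ (St x).map (qtF.map (C.d k (k + 1))) :=
  D_σ x (Qc C) k

/-- The homotopy. -/
noncomputable def hty : ∀ (C : Cx X) (k : ℕ), (St x).obj (obj C (k + 1)) ⟶ (St x).obj (obj C k)
  | C, 0 => (St x).map (p₂ C 0) ≫ σq x C 0 ≫ s x (C.X 0) ≫ (St x).map (i₀ C)
  | C, k + 1 => (St x).map (p₂ C (k + 1)) ≫
      (σq x C (k + 1) ≫ s x (C.X (k + 1)) ≫ (St x).map (i₁ C k) -
        hty (Qc C) k ≫ (St x).map (i₂ C k))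

@[reassoc]
lemma i₁_hty (C : Cx X) (k : ℕ) : (St x).map (i₁ C k) ≫ hty x C k = 0 := by
  cases k <;> rw [hty, ← (St x).map_comp_assoc, i₁_p₂, (St x).map_zero, zero_comp]

@[reassoc]
lemma i₂_hty_zero (C : Cx X) : (St x).map (i₂ C 0) ≫ hty x C 0 = σq x C 0 ≫ s x (C.X 0) ≫ (St x).map (i₀ C) := by
  rw [hty, ← (St x).map_comp_assoc, i₂_p₂, (St x).map_id, Category.id_comp]

@[reassoc]
lemma i₂_hty_succ (C : Cx X) (k : ℕ) : (St x).map (i₂ C (k + 1)) ≫ hty x C (k + 1) =
    σq x C (k + 1) ≫ s x (C.X (k + 1)) ≫ (St x).map (i₁ C k) -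
      hty x (Qc C) k ≫ (St x).map (i₂ C k) := by
  rw [hty, ← (St x).map_comp_assoc, i₂_p₂, (St x).map_id, Category.id_comp]

@[reassoc]
lemma ψ_hty (C : Cx X) (k : ℕ) : (St x).map (ψ C (k + 1)) ≫ hty x C k = 0 := by
  rw [ψ_succ, (St x).map_comp, Category.assoc, i₁_hty, comp_zero]

@[reassoc]
lemma φq_hty (C : Cx X) (k : ℕ) : (St x).map (φq C (k + 1)) ≫ hty x (Qc C) k = 0 := ψ_hty x (Qc C) k

lemma htpy_zero (C : Cx X) :
    (St x).map (D C 0) ≫ hty x C 0 = 𝟙 _ - σ x C 0 ≫ (St x).map (ψ C 0) := by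
  rw [D_zero, ψ_zero]
  simp only [Functor.map_comp, Functor.map_add, Preadditive.comp_add, Preadditive.add_comp,
    Category.assoc, i₁_hty, i₂_hty_zero, comp_zero, zero_add, φq_σq_assoc]
  rw [π_s_assoc, σ, Preadditive.sub_comp, Preadditive.comp_sub, Category.id_comp, Category.assoc,
    Category.assoc, ← (St x).map_comp (p₀ C) (i₀ C), p₀_i₀, (St x).map_id]

/-- The inner homotopy identity. -/
lemma htpy_succ : ∀ (k : ℕ) (C : Cx X),
    (St x).map (D C (k + 1)) ≫ hty x C (k + 1) + hty x C k ≫ (St x).map (D C k) =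
      𝟙 _ - σ x C (k + 1) ≫ (St x).map (ψ C (k + 1)) := by
  intro k C
  have hext : ∀ {T : AddCommGrpCat.{u}} {f g : (St x).obj (obj C (k + 1)) ⟶ T},
      (St x).map (i₁ C k) ≫ f = (St x).map (i₁ C k) ≫ g →
      (St x).map (i₂ C k) ≫ f = (St x).map (i₂ C k) ≫ g → f = g := by
    intro T f g h₁ h₂
    rw [← Category.id_comp f, ← Category.id_comp g, ← (St x).map_id, ← total C k,
      (St x).map_add, (St x).map_comp, (St x).map_comp, Preadditive.add_comp, Preadditive.add_comp,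
      Category.assoc, Category.assoc, Category.assoc, Category.assoc, h₁, h₂]
  apply hext
  · rw [Preadditive.comp_add, ← (St x).map_comp_assoc, i₁_D, i₁_hty_assoc, zero_comp, add_zero,
      Preadditive.comp_sub, Category.comp_id, i₁_σ_assoc, ψ_succ]
    simp only [Functor.map_comp, Functor.map_add, Preadditive.add_comp, Category.assoc, i₁_hty,
      i₂_hty_succ, comp_zero, zero_add, Preadditive.comp_sub, φq_σq_assoc, φq_hty_assoc, zero_comp,
      sub_zero, π_s_assoc, Preadditive.sub_comp, Category.id_comp]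
  · rw [Preadditive.comp_add, ← (St x).map_comp_assoc, i₂_D,
      Preadditive.comp_sub, Category.comp_id, i₂_σ_assoc, zero_comp, sub_zero]
    simp only [Functor.map_comp, Functor.map_neg, Preadditive.neg_comp, Category.assoc, i₂_hty_succ,
      Preadditive.comp_sub, D_σq_assoc]
    cases k with
    | zero =>
      have e : (St x).map (D (Qc C) 0) ≫ hty x (Qc C) 0 =
          𝟙 _ - σq x C 0 ≫ (St x).map (φq C 0) := htpy_zero x (Qc C)
      rw [i₂_hty_zero_assoc, D_zero C, ← (St x).map_comp, i₀_p₀_assoc]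
      simp only [Functor.map_comp, Functor.map_add, Preadditive.comp_add, Category.assoc, s_nat_assoc,
        s_π_assoc, reassoc_of% e, Preadditive.sub_comp, Category.id_comp]
      abel
    | succ k =>
      have e : (St x).map (D (Qc C) (k + 1)) ≫ hty x (Qc C) (k + 1) =
          𝟙 _ - σq x C (k + 1) ≫ (St x).map (φq C (k + 1)) -
            hty x (Qc C) k ≫ (St x).map (D (Qc C) k) := eq_sub_of_add_eq (htpy_succ k (Qc C))
      rw [i₂_hty_succ_assoc, Preadditive.sub_comp, Category.assoc, Category.assoc, Category.assoc,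
        ← (St x).map_comp, ← (St x).map_comp, i₁_D, i₂_D]
      simp only [Functor.map_comp, Functor.map_add, Functor.map_neg, Preadditive.comp_add,
        Preadditive.comp_neg, Category.assoc, s_nat_assoc, s_π_assoc, reassoc_of% e,
        Preadditive.sub_comp, Category.id_comp]
      abel
termination_by k => k

/-- On stalks the resolution is a homotopy equivalence. -/
noncomputable def stalkEquiv (C : Cx X) :
    HomotopyEquiv (((St x).mapHomologicalComplex (ComplexShape.up ℕ)).obj C)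
      (((St x).mapHomologicalComplex (ComplexShape.up ℕ)).obj (res C)) where
  hom := ((St x).mapHomologicalComplex _).map (toRes C)
  inv :=
    { f := fun k => σ x C k
      comm' := fun i j h => by
        obtain rfl : i + 1 = j := h
        show σ x C i ≫ (St x).map (C.d i (i + 1)) = (St x).map ((res C).d i (i + 1)) ≫ σ x C (i + 1)
        rw [res_d]
        exact (D_σ x C i).symm }
  homotopyHomInvId := Homotopy.ofEq (by
    ext1 k
    exact ψ_σ x C k)
  homotopyInvHomId :=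
    (({ hom := fun i j => if h : j + 1 = i then eqToHom (by subst h; rfl) ≫ hty x C j else 0
        zero := fun i j h => dif_neg h
        comm := fun k => by
          cases k with
          | zero =>
            rw [prevD_eq_zero _ _ (by simp), add_zero,
              dNext_eq _ (show (ComplexShape.up ℕ).Rel 0 1 from rfl), dif_pos rfl]
            show (𝟙 ((St x).obj (obj C 0)) : (St x).obj (obj C 0) ⟶ (St x).obj (obj C 0)) =
              ((St x).map (X := obj C 0) (Y := obj C 1) ((res C).d 0 1) ≫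
                (𝟙 ((St x).obj (obj C 1)) ≫ hty x C 0) : (St x).obj (obj C 0) ⟶ (St x).obj (obj C 0)) +
              (σ x C 0 ≫ (St x).map (ψ C 0) : (St x).obj (obj C 0) ⟶ (St x).obj (obj C 0))
            rw [Category.id_comp, show ((res C).d 0 1 : obj C 0 ⟶ obj C 1) = D C 0 from res_d C 0,
              htpy_zero x C, sub_add_cancel]
          | succ k =>
            rw [dNext_eq _ (show (ComplexShape.up ℕ).Rel (k + 1) (k + 2) from rfl),
              prevD_eq _ (show (ComplexShape.up ℕ).Rel k (k + 1) from rfl), dif_pos rfl, dif_pos rfl]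
            show (𝟙 ((St x).obj (obj C (k + 1))) : (St x).obj (obj C (k + 1)) ⟶ (St x).obj (obj C (k + 1))) =
              ((St x).map (X := obj C (k + 1)) (Y := obj C (k + 2)) ((res C).d (k + 1) (k + 2)) ≫
                (𝟙 ((St x).obj (obj C (k + 2))) ≫ hty x C (k + 1)) :
                (St x).obj (obj C (k + 1)) ⟶ (St x).obj (obj C (k + 1))) +
              ((𝟙 ((St x).obj (obj C (k + 1))) ≫ hty x C k) ≫
                (St x).map (X := obj C k) (Y := obj C (k + 1)) ((res C).d k (k + 1)) :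
                (St x).obj (obj C (k + 1)) ⟶ (St x).obj (obj C (k + 1))) +
              (σ x C (k + 1) ≫ (St x).map (ψ C (k + 1)) :
                (St x).obj (obj C (k + 1)) ⟶ (St x).obj (obj C (k + 1)))
            rw [Category.id_comp, Category.id_comp,
              show ((res C).d (k + 1) (k + 2) : obj C (k + 1) ⟶ obj C (k + 2)) = D C (k + 1) from res_d C _,
              show ((res C).d k (k + 1) : obj C k ⟶ obj C (k + 1)) = D C k from res_d C k,
              htpy_succ x k C, sub_add_cancel] } :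
      Homotopy (𝟙 (((St x).mapHomologicalComplex (ComplexShape.up ℕ)).obj (res C))) _)).symm

end Stalk

end Groth.Agent.CohTop.GodementCx
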