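import Groth.Agent.CohTop.GodementCx
import Mathlib.Algebra.Homology.ShortComplex.PreservesHomology

/-!
# Bounded below complexes of sheaves embed in flasque ones, stalkwise homotopy equivalently
-/

set_option autoImplicit false

universe u

open CategoryTheory CategoryTheory.Limits Opposite TopologicalSpace

namespace Groth.Agent.CohTop.GodementExtend

open Groth.Agent.CohTop.GodementCx

section MapExtend

variable {A B : Type*} [Category A] [Category B] [Preadditive A] [Preadditive B] [HasZeroObject A]
  [HasZeroObject B] (S : A ⥤ B) [S.Additive] {ι ι' : Type*} {c : ComplexShape ι} {c' : ComplexShape ι'}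
  (e : c.Embedding c')

open scoped Classical in
/-- The component of the comparison. -/
noncomputable def mapExtendX (K : HomologicalComplex A c) (n : ι') :
    S.obj ((K.extend e).X n) ≅ ((((S.mapHomologicalComplex c).obj K)).extend e).X n :=
  if h : ∃ k, e.f k = n then
    S.mapIso (K.extendXIso e h.choose_spec) ≪≫
      ((((S.mapHomologicalComplex c).obj K)).extendXIso e h.choose_spec).symm
  else IsZero.iso (S.map_isZero (K.isZero_extend_X e n fun k hk => h ⟨k, hk⟩))
    ((((S.mapHomologicalComplex c).obj K)).isZero_extend_X e n fun k hk => h ⟨k, hk⟩)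

lemma mapExtendX_eq (K : HomologicalComplex A c) {n : ι'} {k : ι} (hk : e.f k = n) :
    (mapExtendX S e K n).hom = S.map (K.extendXIso e hk).hom ≫
      ((((S.mapHomologicalComplex c).obj K)).extendXIso e hk).inv := by
  have h : ∃ k, e.f k = n := ⟨k, hk⟩
  have hc : h.choose = k := e.injective_f (h.choose_spec.trans hk.symm)
  rw [mapExtendX, dif_pos h]
  have : ∀ (k' : ι) (hk' : e.f k' = n), k' = k →
      (S.mapIso (K.extendXIso e hk') ≪≫
        ((((S.mapHomologicalComplex c).obj K)).extendXIso e hk').symm).hom =
      S.map (K.extendXIso e hk).hom ≫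
        ((((S.mapHomologicalComplex c).obj K)).extendXIso e hk).inv := by
    rintro k' hk' rfl
    rfl
  exact this _ h.choose_spec hc

/-- An additive functor commutes with extension by zero. -/
noncomputable def mapExtendIso (K : HomologicalComplex A c) :
    (S.mapHomologicalComplex c').obj (K.extend e) ≅ (((S.mapHomologicalComplex c).obj K)).extend e :=
  HomologicalComplex.Hom.isoOfComponents (mapExtendX S e K) fun i' j' _ => by
    by_cases hi : ∃ i, e.f i = i'
    · obtain ⟨i, hi⟩ := hi
      by_cases hj : ∃ j, e.f j = j'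
      · obtain ⟨j, hj⟩ := hj
        rw [mapExtendX_eq S e K hi, mapExtendX_eq S e K hj, HomologicalComplex.extend_d_eq _ e hi hj]
        show _ = S.map ((K.extend e).d i' j') ≫ _
        rw [HomologicalComplex.extend_d_eq K e hi hj]
        erw [Category.assoc, Iso.inv_hom_id_assoc]
        simp only [Functor.map_comp, Category.assoc]
        erw [← S.map_comp_assoc (K.extendXIso e hj).inv, Iso.inv_hom_id, S.map_id, Category.id_comp]
        rfl
      · exact ((((S.mapHomologicalComplex c).obj K)).isZero_extend_X e j'
          fun k hk => hj ⟨k, hk⟩).eq_of_tgt _ _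
    · exact (S.map_isZero (K.isZero_extend_X e i' fun k hk => hi ⟨k, hk⟩)).eq_of_src _ _

lemma mapExtendIso_naturality {K L : HomologicalComplex A c} (φ : K ⟶ L) :
    (S.mapHomologicalComplex c').map (HomologicalComplex.extendMap φ e) ≫ (mapExtendIso S e L).hom =
      (mapExtendIso S e K).hom ≫ HomologicalComplex.extendMap ((S.mapHomologicalComplex c).map φ) e := by
  ext n
  by_cases h : ∃ k, e.f k = n
  · obtain ⟨k, hk⟩ := h
    show S.map ((HomologicalComplex.extendMap φ e).f n) ≫ (mapExtendX S e L n).hom =
      (mapExtendX S e K n).hom ≫ _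
    rw [mapExtendX_eq S e L hk, mapExtendX_eq S e K hk, HomologicalComplex.extendMap_f φ e hk,
      HomologicalComplex.extendMap_f _ e hk, S.map_comp, S.map_comp, Category.assoc, Category.assoc,
      Category.assoc]
    erw [Iso.inv_hom_id_assoc, ← S.map_comp_assoc (L.extendXIso e hk).inv, Iso.inv_hom_id, S.map_id,
      Category.id_comp]
    rfl
  · exact ((((S.mapHomologicalComplex c).obj L)).isZero_extend_X e n
      fun k hk => h ⟨k, hk⟩).eq_of_tgt _ _

/-- Extension of homotopy equivalences. -/
noncomputable def extendHtpyEquiv [e.IsRelIff] {K L : HomologicalComplex B c}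
    (E : HomotopyEquiv K L) : HomotopyEquiv (K.extend e) (L.extend e) where
  hom := HomologicalComplex.extendMap E.hom e
  inv := HomologicalComplex.extendMap E.inv e
  homotopyHomInvId := ((Homotopy.ofEq (HomologicalComplex.extendMap_comp E.hom E.inv e).symm).trans
    (E.homotopyHomInvId.extend e)).trans (Homotopy.ofEq (HomologicalComplex.extendMap_id K e))
  homotopyInvHomId := ((Homotopy.ofEq (HomologicalComplex.extendMap_comp E.inv E.hom e).symm).trans
    (E.homotopyInvHomId.extend e)).trans (Homotopy.ofEq (HomologicalComplex.extendMap_id L e))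

end MapExtend

variable {X : TopCat.{u}} (F : CochainComplex (CohTop.Ab X) ℤ) (a : ℤ)

/-- The restriction to degrees `≥ a`. -/
noncomputable abbrev rest : Cx X := F.restriction (ComplexShape.embeddingUpIntGE a)

/-- The flasque complex. -/
noncomputable def G : CochainComplex (CohTop.Ab X) ℤ :=
  (res (rest F a)).extend (ComplexShape.embeddingUpIntGE a)

variable [F.IsStrictlyGE a]

lemma hasLift : (ComplexShape.embeddingUpIntGE a).HasLift (K := F) (𝟙 (rest F a)) := by
  intro j hj i' hi'
  refine (F.isZero_X_of_isStrictlySupported (ComplexShape.embeddingUpIntGE a) i' fun k hk => ?_).eq_of_src _ _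
  exact hj.2 k (hk ▸ hi')

/-- The comparison with the extension. -/
noncomputable def toExt : F ⟶ (rest F a).extend (ComplexShape.embeddingUpIntGE a) :=
  (ComplexShape.embeddingUpIntGE a).liftExtend (𝟙 (rest F a)) (hasLift F a)

instance : IsIso (toExt F a) := by
  have : ∀ n, IsIso ((toExt F a).f n) := fun n => by
    by_cases h : ∃ k, (ComplexShape.embeddingUpIntGE a).f k = n
    · obtain ⟨k, hk⟩ := h
      exact ((ComplexShape.embeddingUpIntGE a).isIso_liftExtend_f_iff (K := F) _ _ hk).2
        (inferInstanceAs (IsIso (𝟙 _)))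
    · exact ⟨⟨0, (F.isZero_X_of_isStrictlySupported (ComplexShape.embeddingUpIntGE a) n
        fun k hk => h ⟨k, hk⟩).eq_of_src _ _,
        ((rest F a).isZero_extend_X _ n fun k hk => h ⟨k, hk⟩).eq_of_src _ _⟩⟩
  exact HomologicalComplex.Hom.isIso_of_components _

/-- The map to the flasque complex. -/
noncomputable def φ : F ⟶ G F a :=
  toExt F a ≫ HomologicalComplex.extendMap (toRes (rest F a)) _

omit [F.IsStrictlyGE a] in
lemma isStrictlyGE : (G F a).IsStrictlyGE a :=
  inferInstanceAs (((res (rest F a)).extend (ComplexShape.embeddingUpIntGE a)).IsStrictlySupported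
    (ComplexShape.embeddingUpIntGE a))

omit [F.IsStrictlyGE a] in
lemma isFlasque (n : ℤ) : TopCat.Sheaf.IsFlasque (X := X) ((G F a).X n) := by
  have hsurj : ∀ {M N : CohTop.Ab X}, (M ≅ N) → TopCat.Sheaf.IsFlasque M → TopCat.Sheaf.IsFlasque N := by
    intro M N i hM
    refine ⟨fun {U V} f => ?_⟩
    have := hM.epi f
    have h : N.obj.map f = i.inv.hom.app U ≫ M.obj.map f ≫ i.hom.hom.app V := by
      rw [← NatTrans.naturality_assoc, ← NatTrans.comp_app]
      exact ((congrArg (fun φ => N.obj.map f ≫ φ) (congrArg (fun φ => φ.hom.app V) i.inv_hom_id)).trans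
        (Category.comp_id _)).symm
    rw [h]
    have : IsIso (i.inv.hom.app U) :=
      inferInstanceAs (IsIso (((sheafToPresheaf _ _).mapIso i).app U).inv)
    have : IsIso (i.hom.hom.app V) :=
      inferInstanceAs (IsIso (((sheafToPresheaf _ _).mapIso i).app V).hom)
    infer_instance
  by_cases h : ∃ k, (ComplexShape.embeddingUpIntGE a).f k = n
  · obtain ⟨k, hk⟩ := h
    exact hsurj ((res (rest F a)).extendXIso _ hk).symm (isFlasque_obj k (rest F a))
  · have hz := (res (rest F a)).isZero_extend_X (ComplexShape.embeddingUpIntGE a) n fun k hk => h ⟨k, hk⟩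
    refine ⟨fun {U V} f => ?_⟩
    have : IsZero ((G F a).X n).obj := (sheafToPresheaf _ _).map_isZero hz
    exact ⟨fun g g' _ => ((Functor.isZero_iff _).1 this V).eq_of_src g g'⟩

/-- The homotopy equivalence on stalks. -/
noncomputable def stalkEquivℤ (x : X) : HomotopyEquiv (((St x).mapHomologicalComplex (ComplexShape.up ℤ)).obj F)
    (((St x).mapHomologicalComplex (ComplexShape.up ℤ)).obj (G F a)) :=
  (HomotopyEquiv.ofIso (((St x).mapHomologicalComplex _).mapIso (asIso (toExt F a)) ≪≫
      mapExtendIso (St x) _ (rest F a))).trans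
    ((extendHtpyEquiv (ComplexShape.embeddingUpIntGE a) (stalkEquiv x (rest F a))).trans
      (HomotopyEquiv.ofIso (mapExtendIso (St x) _ (res (rest F a))).symm))

lemma stalkEquivℤ_hom (x : X) :
    (stalkEquivℤ F a x).hom = ((St x).mapHomologicalComplex _).map (φ F a) := by
  show (((St x).mapHomologicalComplex _).map (toExt F a) ≫ (mapExtendIso (St x) _ (rest F a)).hom) ≫
    (HomologicalComplex.extendMap (((St x).mapHomologicalComplex _).map (toRes (rest F a))) _ ≫
      (mapExtendIso (St x) _ (res (rest F a))).inv) = _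
  rw [φ, Functor.map_comp, Category.assoc]
  refine congrArg (_ ≫ ·) ?_
  rw [← Category.assoc, ← mapExtendIso_naturality, Category.assoc, Iso.hom_inv_id, Category.comp_id]
  rfl

omit [F.IsStrictlyGE a] in
lemma preservesHomology (x : X) : (St x).PreservesHomology :=
  haveI : PreservesFiniteLimits (St x) :=
    inferInstanceAs (PreservesFiniteLimits (TopCat.Sheaf.forget AddCommGrpCat.{u} X ⋙
      TopCat.Presheaf.stalkFunctor AddCommGrpCat.{u} x))
  haveI : PreservesFiniteColimits (St x) := inferInstance
  inferInstance

theorem quasiIso : QuasiIso (φ F a) := by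
  refine ⟨fun n => ?_⟩
  rw [quasiIsoAt_iff_isIso_homologyMap]
  have : ∀ x : X, IsIso ((TopCat.Presheaf.stalkFunctor AddCommGrpCat.{u} x).map
      (HomologicalComplex.homologyMap (φ F a) n).hom) := by
    intro x
    have := preservesHomology (X := X) x
    have h1 : IsIso (HomologicalComplex.homologyMap
        (((St x).mapHomologicalComplex (ComplexShape.up ℤ)).map (φ F a)) n) := by
      rw [← stalkEquivℤ_hom]
      exact ((stalkEquivℤ F a x).toHomologyIso n).isIso_hom
    have h2 := ShortComplex.mapHomologyIso_hom_naturality (F := St x)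
      ((HomologicalComplex.shortComplexFunctor _ (ComplexShape.up ℤ) n).map (φ F a))
    have h3 := h2 ▸ (IsIso.comp_isIso' (h1 : IsIso (ShortComplex.homologyMap
      ((St x).mapShortComplex.map
        ((HomologicalComplex.shortComplexFunctor _ (ComplexShape.up ℤ) n).map (φ F a)))))
      ((((G F a).sc n).mapHomologyIso (St x)).isIso_hom))
    exact @IsIso.of_isIso_comp_left _ _ _ _ _ _ _ ((F.sc n).mapHomologyIso (St x)).isIso_hom h3
  exact TopCat.Presheaf.isIso_of_stalkFunctor_map_iso (HomologicalComplex.homologyMap (φ F a) n)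

end Groth.Agent.CohTop.GodementExtend
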