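import Groth.Agent.HyperCech.Zq
import Groth.Agent.DHA.KInjectiveResolution
import Groth.Agent.KFlat.CxAdj
import Groth.Agent.KInjExt.Basic
import Groth.Agent.CohTop.Proper.Nbhd
import Mathlib.Topology.Sheaves.SheafCondition.UniqueGluing

/-!
# Vanishing of negative hypercohomology and the sheaf of degree zero classes

For a K-injective complex on `Y` which is exact in negative degrees, cocycles of negative degree are
coboundaries on every open and the classes in degree zero form a sheaf.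
-/

universe u

open CategoryTheory CategoryTheory.Limits Opposite TopologicalSpace

namespace Groth.Agent.CohTop.NegVanish

variable {X Y : TopCat.{u}}

/-- Sections of a complex. -/
noncomputable abbrev evU (U : (Opens X)ᵒᵖ) : CohTop.Ab X ⥤ AddCommGrpCat.{u} :=
  sheafToPresheaf _ _ ⋙ (evaluation _ _).obj U

theorem iCycles_app_injective (I : CochainComplex (CohTop.Ab X) ℤ) (q : ℤ) (U : (Opens X)ᵒᵖ) :
    Function.Injective ((I.iCycles q).hom.app U) := by
  have : Mono ((evU U).map (I.iCycles q)) := inferInstance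
  exact (AddCommGrpCat.mono_iff_injective _).1 this

theorem iCycles_app_d (I : CochainComplex (CohTop.Ab X) ℤ) (q q' : ℤ) (U : (Opens X)ᵒᵖ)
    (z : (I.cycles q).obj.obj U) :
    (I.d q q').hom.app U ((I.iCycles q).hom.app U z) = 0 :=
  ConcreteCategory.congr_hom (congrArg (fun φ : I.cycles q ⟶ I.X q' => φ.hom.app U) (I.iCycles_d q q')) z

theorem exists_cycle (I : CochainComplex (CohTop.Ab X) ℤ) (q q' : ℤ) (hq : q + 1 = q')
    (U : (Opens X)ᵒᵖ) (s : (I.X q).obj.obj U) (hs : (I.d q q').hom.app U s = 0) :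
    ∃ z, (I.iCycles q).hom.app U z = s := by
  let S := ShortComplex.mk (I.iCycles q) (I.d q q') (I.iCycles_d q q')
  have hS : IsLimit (KernelFork.ofι (I.iCycles q) (I.iCycles_d q q')) :=
    I.cyclesIsKernel q q' (by rw [CochainComplex.next]; exact hq)
  have h := (S.map (evU U)).exact_of_f_is_kernel (isLimitForkMapOfIsLimit' (evU U) _ hS)
  exact (ShortComplex.ab_exact_iff _).1 h s hs

theorem toCycles_app (I : CochainComplex (CohTop.Ab X) ℤ) (p q : ℤ) (U : (Opens X)ᵒᵖ)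
    (t : (I.X p).obj.obj U) :
    (I.iCycles q).hom.app U ((I.toCycles p q).hom.app U t) = (I.d p q).hom.app U t :=
  ConcreteCategory.congr_hom (congrArg (fun φ : I.X p ⟶ I.X q => φ.hom.app U) (I.toCycles_i p q)) t

section Core

variable (A : CochainComplex (CohTop.Ab Y) ℤ) [A.IsKInjective] (hA : ∀ n < 0, A.ExactAt n)

include hA in
theorem exists_contraction : ∃ (h : ∀ i j : ℤ, A.X i ⟶ A.X j) (π : A.X 0 ⟶ A.X 0),
    (∀ n : ℤ, n < 0 → 𝟙 (A.X n) = A.d n (n + 1) ≫ h (n + 1) n + h n (n - 1) ≫ A.d (n - 1) n) ∧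
    𝟙 (A.X 0) = A.d 0 1 ≫ h 1 0 + h 0 (-1) ≫ A.d (-1) 0 + π ∧ A.d (-1) 0 ≫ π = 0 := by
  have : QuasiIso (A.πTruncGE 0) :=
    (CochainComplex.quasiIso_πTruncGE_iff A 0).2 ((A.isGE_iff 0).2 hA)
  obtain ⟨β, ⟨H⟩⟩ := Groth.Agent.KInjExt.Basic.exists_homotopy_desc (A.πTruncGE 0) (𝟙 A)
  refine ⟨H.hom, (A.πTruncGE 0).f 0 ≫ β.f 0, fun n hn => ?_, ?_, ?_⟩
  · have hz : (A.πTruncGE 0).f n = 0 :=
      ((A.truncGE 0).isZero_of_isStrictlyGE 0 n hn).eq_of_tgt _ _
    have := H.comm n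
    rw [HomologicalComplex.id_f, HomologicalComplex.comp_f, hz, zero_comp, add_zero,
      dNext_eq H.hom (show (ComplexShape.up ℤ).Rel n (n + 1) from rfl),
      prevD_eq H.hom (show (ComplexShape.up ℤ).Rel (n - 1) n from sub_add_cancel n 1)] at this
    exact this
  · have := H.comm 0
    rw [HomologicalComplex.id_f, HomologicalComplex.comp_f,
      dNext_eq H.hom (show (ComplexShape.up ℤ).Rel 0 1 from rfl),
      prevD_eq H.hom (show (ComplexShape.up ℤ).Rel (-1) 0 from rfl)] at this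
    exact this
  · rw [← Category.assoc, ← (A.πTruncGE 0).comm (-1) 0,
      ((A.truncGE 0).isZero_of_isStrictlyGE 0 (-1) (by omega)).eq_of_tgt ((A.πTruncGE 0).f (-1)) 0]
    simp

include hA in
theorem neg_exact (V : (Opens Y)ᵒᵖ) (p n : ℤ) (hpn : p + 1 = n) (hn : n < 0)
    (s : (A.X n).obj.obj V) (hs : (A.d n (n + 1)).hom.app V s = 0) :
    ∃ t, (A.d p n).hom.app V t = s := by
  obtain ⟨h, π, h1, -, -⟩ := exists_contraction A hA
  obtain rfl : p = n - 1 := by omega
  refine ⟨(h n (n - 1)).hom.app V s, ?_⟩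
  have := ConcreteCategory.congr_hom (congrArg (fun φ : A.X n ⟶ A.X n => φ.hom.app V) (h1 n hn)) s
  refine Eq.trans ?_ this.symm
  show _ = (h (n + 1) n).hom.app V ((A.d n (n + 1)).hom.app V s) +
    (A.d (n - 1) n).hom.app V ((h n (n - 1)).hom.app V s)
  rw [hs, map_zero, zero_add]

include hA in
/-- Classes in degree zero glue uniquely. -/
theorem glue_zero {ι : Type u} (W : ι → Opens Y) (V : Opens Y) (hW : ∀ i, W i ≤ V)
    (hcov : V ≤ iSup W)
    (s : ∀ i, (A.X 0).obj.obj (op (W i))) (hs : ∀ i, (A.d 0 1).hom.app _ (s i) = 0)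
    (hc : ∀ i j, ∃ t, (A.d (-1) 0).hom.app (op (W i ⊓ W j)) t =
      (A.X 0).obj.map (homOfLE inf_le_left).op (s i) - (A.X 0).obj.map (homOfLE inf_le_right).op (s j)) :
    (∃ S : (A.X 0).obj.obj (op V), (A.d 0 1).hom.app _ S = 0 ∧
      ∀ i, ∃ t, (A.d (-1) 0).hom.app (op (W i)) t = (A.X 0).obj.map (homOfLE (hW i)).op S - s i) ∧
    ∀ S : (A.X 0).obj.obj (op V), (A.d 0 1).hom.app _ S = 0 →
      (∀ i, ∃ t, (A.d (-1) 0).hom.app (op (W i)) t = (A.X 0).obj.map (homOfLE (hW i)).op S) →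
      ∃ t, (A.d (-1) 0).hom.app (op V) t = S := by
  obtain ⟨h, π, -, h0, hπ⟩ := exists_contraction A hA
  have hd : ∀ (U : (Opens Y)ᵒᵖ) (t : (A.X (-1)).obj.obj U),
      π.hom.app U ((A.d (-1) 0).hom.app U t) = 0 := fun U t =>
    ConcreteCategory.congr_hom (congrArg (fun φ : A.X (-1) ⟶ A.X 0 => φ.hom.app U) hπ) t
  have hdec : ∀ (U : (Opens Y)ᵒᵖ) (a : (A.X 0).obj.obj U), (A.d 0 1).hom.app U a = 0 →
      (A.d (-1) 0).hom.app U ((h 0 (-1)).hom.app U a) + π.hom.app U a = a := fun U a ha => by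
    have := ConcreteCategory.congr_hom (congrArg (fun φ : A.X 0 ⟶ A.X 0 => φ.hom.app U) h0) a
    refine Eq.trans ?_ this.symm
    show _ = (h 1 0).hom.app U ((A.d 0 1).hom.app U a) +
      (A.d (-1) 0).hom.app U ((h 0 (-1)).hom.app U a) + π.hom.app U a
    rw [ha, map_zero, zero_add]
  have nat : ∀ {a b : ℤ} (φ : A.X a ⟶ A.X b) {U U' : Opens Y} (e : U' ≤ U)
      (x : (A.X a).obj.obj (op U)), φ.hom.app (op U') ((A.X a).obj.map (homOfLE e).op x) =
        (A.X b).obj.map (homOfLE e).op (φ.hom.app (op U) x) := fun φ _ _ e x =>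
    ConcreteCategory.congr_hom (φ.hom.naturality (homOfLE e).op) x
  refine ⟨?_, fun S hS hloc => ?_⟩
  · obtain ⟨S, hS, -⟩ := TopCat.Sheaf.existsUnique_gluing' (A.X 0) W V (fun i => homOfLE (hW i)) hcov
      (fun i => π.hom.app (op (W i)) (s i)) (fun i j => by
        obtain ⟨t, ht⟩ := hc i j
        rw [← sub_eq_zero]
        refine Eq.trans ?_ (hd _ t)
        rw [ht, map_sub, nat π, nat π]
        rfl)
    refine ⟨S, ?_, fun i => ⟨-(h 0 (-1)).hom.app (op (W i)) (s i), ?_⟩⟩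
    · refine TopCat.Sheaf.eq_of_locally_eq' (A.X 1) W V (fun i => homOfLE (hW i)) hcov _ _ fun i => ?_
      refine ((nat (A.d 0 1) (hW i) S).symm.trans (congrArg _ (hS i))).trans ?_
      refine Eq.trans ?_ (map_zero ((A.X 1).obj.map (homOfLE (hW i)).op).hom).symm
      have := congrArg ((A.d 0 1).hom.app (op (W i))) (hdec _ (s i) (hs i))
      rw [map_add, hs i] at this
      have hdd : (A.d 0 1).hom.app (op (W i)) ((A.d (-1) 0).hom.app (op (W i))
          ((h 0 (-1)).hom.app (op (W i)) (s i))) = 0 :=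
        ConcreteCategory.congr_hom
          (congrArg (fun φ : A.X (-1) ⟶ A.X 1 => φ.hom.app (op (W i))) (A.d_comp_d (-1) 0 1)) _
      rw [hdd, zero_add] at this
      exact this
    · refine (map_neg _ _).trans (eq_sub_of_add_eq ?_)
      refine Eq.trans ?_ (hS i).symm
      exact (neg_add_eq_iff_eq_add).2 (hdec _ (s i) (hs i)).symm
  · refine ⟨(h 0 (-1)).hom.app (op V) S, ?_⟩
    have hz : π.hom.app (op V) S = 0 := by
      refine TopCat.Sheaf.eq_of_locally_eq' (A.X 0) W V (fun i => homOfLE (hW i)) hcov _ _ fun i => ?_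
      obtain ⟨t, ht⟩ := hloc i
      refine ((nat π (hW i) S).symm.trans (congrArg _ ht.symm)).trans ((hd _ t).trans ?_)
      exact (map_zero ((A.X 0).obj.map (homOfLE (hW i)).op).hom).symm
    have := hdec _ S hS
    rwa [hz, add_zero] at this

end Core

variable (f : X ⟶ Y) (I : CochainComplex (CohTop.Ab X) ℤ) [I.IsKInjective]

/-- The direct image of a complex. -/
noncomputable abbrev pushCx : CochainComplex (CohTop.Ab Y) ℤ :=
  ((CohTop.push f).mapHomologicalComplex (ComplexShape.up ℤ)).obj I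

theorem isKInjective_push : (pushCx f I).IsKInjective := by
  let G := CohTop.pull f
  let adjC := Groth.Agent.KFlat.CxAdj.mapCx
    (L := CohTop.pull f) (R := CohTop.push f)
    (TopCat.Sheaf.pullbackPushforwardAdjunction AddCommGrpCat.{u} f) (ComplexShape.up ℤ)
  refine ⟨fun {K} g hK => ?_⟩
  have hGK : ((G.mapHomologicalComplex (ComplexShape.up ℤ)).obj K).Acyclic := fun i =>
    ShortComplex.Exact.map (hK i) G
  let h := CochainComplex.IsKInjective.homotopyZero ((adjC.homEquiv _ _).symm g) hGK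
  refine ⟨(Homotopy.ofEq ?_).trans ((((CohTop.push f).mapHomotopy h).compLeft (adjC.unit.app K)).trans
    (Homotopy.ofEq ?_))⟩
  · exact ((adjC.homEquiv _ _).apply_symm_apply g).symm.trans (adjC.homEquiv_unit _ _ _)
  · rw [Functor.map_zero, comp_zero]

variable [HasDerivedCategory.{u} (CohTop.Ab X)] {K₀ : CochainComplex (CohTop.Ab X) ℤ}
  (φ : K₀ ⟶ I) [QuasiIso φ]
  (B : Set (Opens Y)) (hB : Opens.IsBasis B)
  (h : ∀ V ∈ B, ∀ i : ℤ, i < 0 →
    Subsingleton (CohCx.HDU ((DerivedCategory.Q (C := CohTop.Ab X)).obj K₀) i ((Opens.map f).obj V)))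

include φ h hB in
theorem exactAt_push (n : ℤ) (hn : n < 0) : (pushCx f I).ExactAt n := by
  rw [HomologicalComplex.exactAt_iff' _ (n - 1) n (n + 1) (by simp) (by simp)]
  refine (TopCat.Sheaf.exact_iff_stalkFunctor_map_exact (C := AddCommGrpCat.{u}) _).2 fun y => ?_
  rw [ShortComplex.ab_exact_iff]
  intro t ht
  obtain ⟨U, hU, s, rfl⟩ := TopCat.Presheaf.exists_germ_eq ((pushCx f I).X n).obj t
  have ht' := (TopCat.Presheaf.stalkFunctor_map_germ_apply U y hU
    ((pushCx f I).d n (n + 1)).hom s).symm.trans ht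
  obtain ⟨W, hW, i₁, i₂, e⟩ := TopCat.Presheaf.germ_eq (F := ((pushCx f I).X (n + 1)).obj) y hU hU
    _ 0 (ht'.trans (map_zero _).symm)
  obtain ⟨V, hV, hyV, hVW⟩ := Opens.isBasis_iff_nbhd.1 hB hW
  let s' := ((pushCx f I).X n).obj.map (homOfLE (hVW.trans (leOfHom i₁))).op s
  have hs' : (I.d n (n + 1)).hom.app (op ((Opens.map f).obj V)) s' = 0 := by
    refine (ConcreteCategory.congr_hom
      (((pushCx f I).d n (n + 1)).hom.naturality (homOfLE (hVW.trans (leOfHom i₁))).op) s).trans ?_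
    refine Eq.trans ?_ ((congrArg (((pushCx f I).X (n + 1)).obj.map (homOfLE hVW).op)
      (e.trans (map_zero _))).trans (map_zero _))
    exact ConcreteCategory.congr_hom
      (((pushCx f I).X (n + 1)).obj.map_comp i₁.op (homOfLE hVW).op) _
  obtain ⟨z, hz⟩ := exists_cycle I n (n + 1) rfl _ s' hs'
  have := h V hV n hn
  obtain ⟨t, ht₀⟩ := (HyperCech.Zq.app_eq_zero_iff φ n _ z).1 (Subsingleton.elim _ _)
  refine ⟨TopCat.Presheaf.germ ((pushCx f I).X (n - 1)).obj V y hyV t, ?_⟩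
  refine (TopCat.Presheaf.stalkFunctor_map_germ_apply V y hyV ((pushCx f I).d (n - 1) n).hom t).trans ?_
  have h3 : (I.d (n - 1) n).hom.app (op ((Opens.map f).obj V)) t = s' := by
    exact ((toCycles_app I (n - 1) n _ t).symm.trans (congrArg _ ht₀)).trans hz
  refine (congrArg (TopCat.Presheaf.germ ((pushCx f I).X n).obj V y hyV) h3).trans ?_
  exact TopCat.Presheaf.germ_res_apply ((pushCx f I).X n).obj _ y hyV s

include φ h hB in
theorem subsingleton_HDU (V : Opens Y) (n : ℤ) (hn : n < 0) :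
    Subsingleton (CohCx.HDU ((DerivedCategory.Q (C := CohTop.Ab X)).obj K₀) n ((Opens.map f).obj V)) := by
  have := isKInjective_push f I
  suffices hz : ∀ x : CohCx.HDU ((DerivedCategory.Q (C := CohTop.Ab X)).obj K₀) n ((Opens.map f).obj V),
      x = 0 from ⟨fun a b => (hz a).trans (hz b).symm⟩
  intro x
  obtain ⟨z, rfl⟩ := HyperCech.Zq.app_surjective φ n _ x
  obtain ⟨t, ht⟩ := neg_exact (pushCx f I) (exactAt_push f I φ B hB h) (op V) (n - 1) n
    (sub_add_cancel n 1) hn ((I.iCycles n).hom.app _ z) (iCycles_app_d I n (n + 1) _ z)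
  refine (HyperCech.Zq.app_eq_zero_iff φ n _ z).2 ⟨t, iCycles_app_injective I n _ ?_⟩
  exact (toCycles_app I (n - 1) n _ t).trans ht

/-- The presheaf of classes in degree zero. -/
noncomputable abbrev H0Pre : TopCat.Presheaf AddCommGrpCat.{u} Y :=
  (Opens.map f).op ⋙ CohCx.HDUPresheaf ((DerivedCategory.Q (C := CohTop.Ab X)).obj K₀) 0

/-- The class of a cocycle on a preimage. -/
noncomputable def cls (U : Opens Y) :
    (I.cycles 0).obj.obj (op ((Opens.map f).obj U)) ⟶ (H0Pre f (K₀ := K₀)).obj (op U) :=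
  (HyperCech.Zq.etaNat φ 0).app (op ((Opens.map f).obj U))

theorem cls_nat {U U' : Opens Y} (e : U' ≤ U) (z : (I.cycles 0).obj.obj (op ((Opens.map f).obj U))) :
    (H0Pre f (K₀ := K₀)).map (homOfLE e).op (cls f I φ U z) =
      cls f I φ U' ((I.cycles 0).obj.map ((Opens.map f).map (homOfLE e)).op z) :=
  (ConcreteCategory.congr_hom
    ((HyperCech.Zq.etaNat φ 0).naturality ((Opens.map f).map (homOfLE e)).op) z).symm

theorem cls_surjective (U : Opens Y) : Function.Surjective (cls f I φ U) :=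
  HyperCech.Zq.app_surjective φ 0 _

theorem cls_eq_zero_iff (U : Opens Y) (z : (I.cycles 0).obj.obj (op ((Opens.map f).obj U))) :
    cls f I φ U z = 0 ↔ ∃ t, ((pushCx f I).d (-1) 0).hom.app (op U) t =
      (I.iCycles 0).hom.app _ z := by
  refine (HyperCech.Zq.app_eq_zero_iff φ 0 _ z).trans ?_
  have key : ∀ p : ℤ, p = -1 →
      ((∃ t : (I.X p).obj.obj (op ((Opens.map f).obj U)),
        (I.toCycles p 0).hom.app (op ((Opens.map f).obj U)) t = z) ↔
      ∃ t, ((pushCx f I).d (-1) 0).hom.app (op U) t = (I.iCycles 0).hom.app _ z) := by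
    rintro p rfl
    refine ⟨fun ⟨t, ht⟩ => ⟨t, ?_⟩, fun ⟨t, ht⟩ => ⟨t, iCycles_app_injective I 0 _ ?_⟩⟩
    · exact (toCycles_app I (-1) 0 _ t).symm.trans (congrArg _ ht)
    · exact (toCycles_app I (-1) 0 _ t).trans ht
  exact key (0 - 1) rfl

theorem iCycles_nat {U U' : Opens Y} (e : U' ≤ U)
    (z : (I.cycles 0).obj.obj (op ((Opens.map f).obj U))) :
    (I.iCycles 0).hom.app _ ((I.cycles 0).obj.map ((Opens.map f).map (homOfLE e)).op z) =
      ((pushCx f I).X 0).obj.map (homOfLE e).op ((I.iCycles 0).hom.app _ z) :=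
  ConcreteCategory.congr_hom ((I.iCycles 0).hom.naturality _) z

include φ h hB in
theorem isSheaf_HDU_zero : Presheaf.IsSheaf (Opens.grothendieckTopology Y)
    ((Opens.map f).op ⋙ CohCx.HDUPresheaf ((DerivedCategory.Q (C := CohTop.Ab X)).obj K₀) 0) := by
  have := isKInjective_push f I
  refine (TopCat.Presheaf.isSheaf_iff_isSheafUniqueGluing (H0Pre f (K₀ := K₀))).2 ?_
  intro ι W sf hsf
  have sub : ∀ (U : Opens Y) (a b : (I.cycles 0).obj.obj (op ((Opens.map f).obj U))),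
      cls f I φ U (a - b) = cls f I φ U a - cls f I φ U b := fun U a b => map_sub (cls f I φ U).hom a b
  choose z hz using fun i => cls_surjective f I φ (W i) (sf i)
  obtain ⟨⟨S, hS, hSloc⟩, huniq⟩ := glue_zero (pushCx f I) (exactAt_push f I φ B hB h) W (iSup W)
    (le_iSup W) le_rfl (fun i => (I.iCycles 0).hom.app _ (z i))
    (fun i => iCycles_app_d I 0 1 _ (z i)) (fun i j => by
      have e : (H0Pre f (K₀ := K₀)).map (homOfLE (inf_le_left : W i ⊓ W j ≤ W i)).op (sf i) =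
          (H0Pre f (K₀ := K₀)).map (homOfLE (inf_le_right : W i ⊓ W j ≤ W j)).op (sf j) := hsf i j
      rw [← hz i, ← hz j, cls_nat, cls_nat, ← sub_eq_zero, ← sub] at e
      obtain ⟨t, ht⟩ := (cls_eq_zero_iff f I φ _ _).1 e
      exact ⟨t, ht.trans ((map_sub ((I.iCycles 0).hom.app _).hom _ _).trans
        (congrArg₂ (· - ·) (iCycles_nat f I _ _) (iCycles_nat f I _ _)))⟩)
  obtain ⟨Z, hZ⟩ := exists_cycle I 0 1 rfl (op ((Opens.map f).obj (iSup W))) S hS
  have hglue : ∀ i, (H0Pre f (K₀ := K₀)).map (homOfLE (le_iSup W i)).op (cls f I φ (iSup W) Z) =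
      sf i := fun i => by
    obtain ⟨t, ht⟩ := hSloc i
    rw [cls_nat, ← hz i, ← sub_eq_zero, ← sub]
    refine (cls_eq_zero_iff f I φ _ _).2 ⟨t, ht.trans ?_⟩
    refine Eq.trans ?_ (map_sub ((I.iCycles 0).hom.app _).hom _ _).symm
    refine congrArg (· - (I.iCycles 0).hom.app _ (z i)) ?_
    exact Eq.trans (congrArg (((pushCx f I).X 0).obj.map (homOfLE (le_iSup W i)).op) hZ.symm)
      (iCycles_nat f I _ Z).symm
  refine ⟨cls f I φ (iSup W) Z, hglue, fun y hy => ?_⟩
  obtain ⟨Z', rfl⟩ := cls_surjective f I φ _ y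
  rw [← sub_eq_zero, ← sub]
  refine (cls_eq_zero_iff f I φ _ _).2 (huniq _ (iCycles_app_d I 0 1 _ (Z' - Z)) fun i => ?_)
  obtain ⟨t', ht'⟩ := (cls_eq_zero_iff f I φ (W i)
    ((I.cycles 0).obj.map ((Opens.map f).map (homOfLE (le_iSup W i))).op (Z' - Z))).1 (by
      rw [← cls_nat, sub]
      exact (map_sub ((H0Pre f (K₀ := K₀)).map (homOfLE (le_iSup W i)).op).hom _ _).trans
        (sub_eq_zero.2 ((hy i).trans (hglue i).symm)))
  exact ⟨t', ht'.trans (iCycles_nat f I _ _)⟩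

end Groth.Agent.CohTop.NegVanish
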