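import Groth.Agent.S0468
import Groth.Agent.CohTop.Flasque

/-!
# Sections and cohomology of filtered colimits on Noetherian spaces
-/

universe u

open CategoryTheory CategoryTheory.Limits Opposite TopologicalSpace

namespace Groth.Agent.CohTop.NoethColim

open Groth.Agent.CohTop.Basic

variable {X : TopCat.{u}} [NoetherianSpace X]

/-- A Noetherian space is quasi-separated. -/
theorem quasiSeparatedSpace : QuasiSeparatedSpace X :=
  ⟨fun _ _ _ _ _ _ => NoetherianSpace.isCompact _⟩

variable {ι : Type u} [Preorder ι] [IsDirected ι (· ≤ ·)] [Nonempty ι] {D : ι ⥤ CohTop.Ab X}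
  {c : Cocone D} (hc : IsColimit c)

include hc

/-- Cohomology classes of a colimit come from a stage. -/
theorem exists_rep (q : ℕ) (V : Opens X) (x : CohTop.HU c.pt q V) :
    ∃ (i : ι) (y : CohTop.HU (D.obj i) q V), CohTop.HUmap (c.ι.app i) q V y = x := by
  have := quasiSeparatedSpace (X := X)
  have := Groth.Agent.S0468.result V (NoetherianSpace.isCompact _) ι q
  exact Concrete.isColimit_exists_rep _ (isColimitOfPreserves
    ((Sheaf.cohomologyPresheafFunctor (Opens.grothendieckTopology X) q).flip.obj (op V)) hc) x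

/-- Classes which die in the colimit die at a stage. -/
theorem exists_eq_zero (q : ℕ) (V : Opens X) (i : ι) (y : CohTop.HU (D.obj i) q V)
    (h : CohTop.HUmap (c.ι.app i) q V y = 0) :
    ∃ (j : ι) (f : i ⟶ j), CohTop.HUmap (D.map f) q V y = 0 := by
  have := quasiSeparatedSpace (X := X)
  have := Groth.Agent.S0468.result V (NoetherianSpace.isCompact _) ι q
  obtain ⟨j, f, g, hfg⟩ := Concrete.isColimit_exists_of_rep_eq (i := i) (j := i) _ (isColimitOfPreserves
    ((Sheaf.cohomologyPresheafFunctor (Opens.grothendieckTopology X) q).flip.obj (op V)) hc) y 0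
    (h.trans (map_zero _).symm)
  exact ⟨j, f, hfg.trans (map_zero _)⟩

/-- Sections of a colimit come from a stage. -/
theorem exists_rep_section (V : Opens X) (s : c.pt.obj.obj (op V)) :
    ∃ (i : ι) (t : (D.obj i).obj.obj (op V)), ((c.ι.app i).hom.app (op V)).hom t = s := by
  obtain ⟨i, y, hy⟩ := exists_rep hc 0 V ((HU0Equiv c.pt V).symm s)
  exact ⟨i, HU0Equiv (D.obj i) V y, (HU0Equiv_map _ V y).symm.trans ((congrArg (HU0Equiv c.pt V) hy).trans (AddEquiv.apply_symm_apply _ _))⟩

/-- Sections which die in the colimit die at a stage. -/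
theorem exists_eq_zero_section (V : Opens X) (i : ι) (t : (D.obj i).obj.obj (op V))
    (h : ((c.ι.app i).hom.app (op V)).hom t = 0) :
    ∃ (j : ι) (f : i ⟶ j), ((D.map f).hom.app (op V)).hom t = 0 := by
  obtain ⟨j, f, hf⟩ := exists_eq_zero hc 0 V i ((HU0Equiv (D.obj i) V).symm t) (by
    apply (HU0Equiv c.pt V).injective
    rw [HU0Equiv_map, AddEquiv.apply_symm_apply, map_zero]
    exact h)
  refine ⟨j, f, ?_⟩
  have := congrArg (HU0Equiv (D.obj j) V) hf
  rw [HU0Equiv_map, AddEquiv.apply_symm_apply, map_zero] at this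
  exact this

end Groth.Agent.CohTop.NoethColim
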