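import Groth.Agent.CohTop.Push

/-!
# Higher direct images commute with restriction to opens of the base
-/

universe u

open CategoryTheory CategoryTheory.Limits Opposite TopologicalSpace

namespace Groth.Agent.CohTop.RestrictPush

open Groth.Agent.CohTop.Restrict

variable {X Y : TopCat.{u}} (f : X ⟶ Y) (V : Opens Y)

/-- The map `f⁻¹ V → V`. -/
abbrev preMap : TopCat.of ((Opens.map f).obj V) ⟶ TopCat.of V :=
  TopCat.ofHom ⟨(V : Set Y).restrictPreimage f, f.hom.continuous.restrictPreimage⟩

lemma map_img_eq (W : Opens (TopCat.of V)) :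
    (Opens.map f).obj ((img V).obj W) = (img ((Opens.map f).obj V)).obj ((Opens.map (preMap f V)).obj W) := by
  ext x
  constructor
  · rintro ⟨y, hy, he⟩
    refine ⟨⟨x, show f x ∈ V from he ▸ y.2⟩, ?_, rfl⟩
    change (⟨f x, _⟩ : V) ∈ W
    exact (Subtype.ext he : y = ⟨f x, he ▸ y.2⟩) ▸ hy
  · rintro ⟨z, hz, rfl⟩
    exact ⟨(preMap f V) z, hz, rfl⟩

instance additive_push_preMap : (CohTop.push (preMap f V)).Additive where

/-- `(f_* F)|_V = (f|_V)_* (F|_{f⁻¹ V})`. -/
noncomputable def pushRestrIso :
    CohTop.push f ⋙ CohTop.restrFunctor V ≅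
      CohTop.restrFunctor ((Opens.map f).obj V) ⋙ CohTop.push (preMap f V) :=
  NatIso.ofComponents
    (fun F => (fullyFaithfulSheafToPresheaf _ _).preimageIso
      (NatIso.ofComponents
        (fun W => F.obj.mapIso (eqToIso (congrArg op (map_img_eq f V W.unop))))
        (fun i => by
          change F.obj.map _ ≫ F.obj.map _ = F.obj.map _ ≫ F.obj.map _
          rw [← F.obj.map_comp, ← F.obj.map_comp]
          exact congrArg F.obj.map (Quiver.Hom.unop_inj (Subsingleton.elim _ _)))))
    (fun φ => by
      ext W : 3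
      exact (φ.hom.naturality _).symm)

/-- `(R^p f_* F)|_V = R^p (f|_V)_* (F|_{f⁻¹ V})`. -/
noncomputable def RpushRestrIso (F : CohTop.Ab X) (p : ℕ) :
    CohTop.restr ((CohTop.Rpush f p).obj F) V ≅
      (CohTop.Rpush (preMap f V) p).obj (CohTop.restr F ((Opens.map f).obj V)) :=
  (CohTop.restrFunctor V).mapIso ((injectiveResolution F).isoRightDerivedObj (CohTop.push f) p) ≪≫
    (Push.homologyMapIso (CohTop.restrFunctor V)
      (((CohTop.push f).mapHomologicalComplex _).obj (injectiveResolution F).cocomplex) p).symm ≪≫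
    (HomologicalComplex.homologyFunctor _ _ p).mapIso
      ((NatIso.mapHomologicalComplex (pushRestrIso f V) _).app (injectiveResolution F).cocomplex) ≪≫
    ((restrRes ((Opens.map f).obj V) (injectiveResolution F)).isoRightDerivedObj
      (CohTop.push (preMap f V)) p).symm

end Groth.Agent.CohTop.RestrictPush
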