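import Groth.Agent.CohTop.Vanishing
import Mathlib.Topology.Spectral.ConstructibleTopology

/-!
# Cohomological dimension of spectral spaces

`con F` is the sheaf of families of germs of `F` which are induced by sections locally in the
constructible topology.  It is acyclic, and the cokernel of `F ⟶ con F` vanishes at a point as soon
as `F` vanishes at its proper generalisations.
-/

universe u

open CategoryTheory CategoryTheory.Limits Opposite TopologicalSpace Topology

namespace Groth.Agent.CohTop.Spectral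

open Groth.Agent.CohTop.Basic Groth.Agent.CohTop.Vanishing

variable {X : TopCat.{u}} (F : CohTop.Ab X)

/-- The stalk. -/
noncomputable abbrev St (y : X) : AddCommGrpCat.{u} :=
  TopCat.Presheaf.stalk (C := AddCommGrpCat.{u}) (X := X) F.obj y

/-- The germ of a section. -/
noncomputable abbrev gm {U : Opens X} (y : X) (hy : y ∈ U) :
    F.obj.obj (op U) →+ St F y :=
  (TopCat.Presheaf.germ (C := AddCommGrpCat.{u}) (X := X) F.obj U y hy).hom

lemma gm_rs {U V : Opens X} (h : V ≤ U) (y : X) (hy : y ∈ V) (s : F.obj.obj (op U)) :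
    gm F y hy (rs F h s) = gm F y (h hy) s :=
  TopCat.Presheaf.germ_res_apply (C := AddCommGrpCat.{u}) (X := X) F.obj (homOfLE h) y hy s

lemma exists_rs_eq_zero {U : Opens X} (y : X) (hy : y ∈ U) (s : F.obj.obj (op U))
    (h : gm F y hy s = 0) : ∃ (V : Opens X) (hV : V ≤ U), y ∈ V ∧ rs F hV s = 0 := by
  obtain ⟨V, hyV, i₁, i₂, e⟩ := TopCat.Presheaf.germ_eq (C := AddCommGrpCat.{u}) (X := X) F.obj y hy hy s 0
    (h.trans (map_zero (gm F y hy)).symm)
  exact ⟨V, leOfHom i₁, hyV, e.trans (map_zero _)⟩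

/-- A family of germs which is constructibly locally given by sections. -/
def IsLoc (V : Opens X) (t : ∀ y : V, St F y.1) : Prop :=
  ∀ x, x ∈ V → ∃ (W W' : Opens X) (hWV : W ≤ V), IsCompact (W : Set X) ∧ IsCompact (W' : Set X) ∧
    x ∈ W ∧ x ∉ W' ∧ ∃ s : F.obj.obj (op W),
      ∀ (y : X) (hy : y ∈ W), y ∉ W' → t ⟨y, hWV hy⟩ = gm F y hy s

lemma exists_compact_nbhd [PrespectralSpace X] {V : Opens X} {x : X} (hx : x ∈ V) :
    ∃ W : Opens X, IsCompact (W : Set X) ∧ x ∈ W ∧ W ≤ V := by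
  obtain ⟨s, ⟨hso, hsc⟩, hxs, hsV⟩ :=
    (PrespectralSpace.isTopologicalBasis (X := X)).exists_subset_of_mem_open hx V.2
  exact ⟨⟨s, hso⟩, hsc, hxs, hsV⟩

lemma isCompact_inf [QuasiSeparatedSpace X] {U V : Opens X} (hU : IsCompact (U : Set X))
    (hV : IsCompact (V : Set X)) : IsCompact ((U ⊓ V : Opens X) : Set X) :=
  QuasiSeparatedSpace.inter_isCompact _ _ U.2 hU V.2 hV

lemma IsLoc.zero [PrespectralSpace X] (V : Opens X) : IsLoc F V 0 := fun x hx => by
  obtain ⟨W, hWc, hxW, hW⟩ := exists_compact_nbhd hx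
  exact ⟨W, ⊥, hW, hWc, isCompact_empty, hxW, fun h => h, 0, fun y hy _ => (map_zero _).symm⟩

variable {F} in
lemma IsLoc.add [QuasiSeparatedSpace X] {V : Opens X} {t t' : ∀ y : V, St F y.1}
    (h : IsLoc F V t) (h' : IsLoc F V t') : IsLoc F V (t + t') := fun x hx => by
  obtain ⟨W₁, W₁', h₁, c₁, c₁', m₁, n₁, s₁, e₁⟩ := h x hx
  obtain ⟨W₂, W₂', h₂, c₂, c₂', m₂, n₂, s₂, e₂⟩ := h' x hx
  refine ⟨W₁ ⊓ W₂, W₁' ⊔ W₂', inf_le_left.trans h₁, isCompact_inf c₁ c₂, c₁'.union c₂', ⟨m₁, m₂⟩,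
    fun h => h.elim n₁ n₂,
    rs F inf_le_left s₁ + rs F inf_le_right s₂, fun y hy hy' => ?_⟩
  rw [map_add, gm_rs, gm_rs]
  exact congrArg₂ (· + ·) (e₁ y hy.1 fun h => hy' (Or.inl h)) (e₂ y hy.2 fun h => hy' (Or.inr h))

variable {F} in
lemma IsLoc.neg {V : Opens X} {t : ∀ y : V, St F y.1}
    (h : IsLoc F V t) : IsLoc F V (-t) := fun x hx => by
  obtain ⟨W₁, W₁', h₁, c₁, c₁', m₁, n₁, s₁, e₁⟩ := h x hx
  exact ⟨W₁, W₁', h₁, c₁, c₁', m₁, n₁, -s₁, fun y hy hy' =>
    (congrArg (- ·) (e₁ y hy hy')).trans (map_neg _ _).symm⟩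

variable {F} in
lemma IsLoc.res [PrespectralSpace X] {V V' : Opens X}
    (hV : V' ≤ V) {t : ∀ y : V, St F y.1}
    (h : IsLoc F V t) : IsLoc F V' fun y => t ⟨y.1, hV y.2⟩ := fun x hx => by
  obtain ⟨W₁, W₁', h₁, c₁, c₁', m₁, n₁, s₁, e₁⟩ := h x (hV hx)
  obtain ⟨W, hWc, hxW, hW⟩ := exists_compact_nbhd (show x ∈ W₁ ⊓ V' from ⟨m₁, hx⟩)
  exact ⟨W, W₁', hW.trans inf_le_right, hWc, c₁', hxW, n₁, rs F (hW.trans inf_le_left) s₁,
    fun y hy hy' => (e₁ y (hW hy).1 hy').trans (gm_rs F (hW.trans inf_le_left) y hy s₁).symm⟩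

variable [PrespectralSpace X] [QuasiSeparatedSpace X]

/-- The constructibly local families of germs. -/
noncomputable def locSub (V : Opens X) : AddSubgroup (∀ y : V, St F y.1) where
  carrier := {t | IsLoc F V t}
  zero_mem' := IsLoc.zero F V
  add_mem' := IsLoc.add
  neg_mem' := IsLoc.neg

/-- The presheaf of constructibly local families. -/
noncomputable def conPre : TopCat.Presheaf AddCommGrpCat.{u} X where
  obj V := AddCommGrpCat.of (locSub F V.unop)
  map {U V} i := AddCommGrpCat.ofHom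
    { toFun := fun t => ⟨fun y => t.1 ⟨y.1, leOfHom i.unop y.2⟩, IsLoc.res (leOfHom i.unop) t.2⟩
      map_zero' := rfl
      map_add' := fun _ _ => rfl }

theorem isSheaf_conPre : (conPre F).IsSheaf := by
  rw [TopCat.Presheaf.isSheaf_iff_isSheafUniqueGluing]
  intro κ U sf h
  choose i hi using fun y : (iSup U : Opens X) => Opens.mem_iSup.1 y.2
  have hc : ∀ (j : κ) (y : X) (hy : y ∈ U j) (hy' : y ∈ iSup U),
      (sf (i ⟨y, hy'⟩)).1 ⟨y, hi ⟨y, hy'⟩⟩ = (sf j).1 ⟨y, hy⟩ := fun j y hy hy' =>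
    congrFun (congrArg Subtype.val (h (i ⟨y, hy'⟩) j)) ⟨y, hi ⟨y, hy'⟩, hy⟩
  refine ⟨⟨fun y => (sf (i y)).1 ⟨y.1, hi y⟩, fun x hx => ?_⟩, fun j => Subtype.ext (funext fun y =>
    hc j y.1 y.2 _), fun t ht => Subtype.ext (funext fun y =>
      congrFun (congrArg Subtype.val (ht (i y))) ⟨y.1, hi y⟩)⟩
  obtain ⟨W, W', hW, c, c', m, n, s, e⟩ := (sf (i ⟨x, hx⟩)).2 x (hi ⟨x, hx⟩)
  exact ⟨W, W', hW.trans (le_iSup U _), c, c', m, n, s, fun y hy hy' =>
    (hc _ y (hW hy) _).trans (e y hy hy')⟩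

/-- The sheaf of constructibly local families. -/
noncomputable def con : CohTop.Ab X := ⟨conPre F, isSheaf_conPre F⟩

/-- The germs of a section. -/
noncomputable def η : F ⟶ con F :=
  ⟨{ app := fun V => AddCommGrpCat.ofHom
      { toFun := fun s => ⟨fun y => gm F y.1 y.2 s, fun x hx => by
          obtain ⟨W, hWc, hxW, hW⟩ := exists_compact_nbhd (V := V.unop) hx
          exact ⟨W, ⊥, hW, hWc, isCompact_empty, hxW, fun h => h, rs F hW s,
            fun y hy _ => (gm_rs F hW y hy s).symm⟩⟩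
        map_zero' := Subtype.ext (funext fun y => map_zero _)
        map_add' := fun _ _ => Subtype.ext (funext fun y => map_add _ _ _) }
     naturality := fun {U V} i => by
      ext s
      exact Subtype.ext (funext fun y => gm_rs F (leOfHom i.unop) y.1 y.2 s) }⟩

instance : Mono (η F) :=
  (sheafToPresheaf _ _).mono_of_mono_map (by
    have : ∀ V, Mono (((sheafToPresheaf _ _).map (η F)).app V) := fun V => by
      refine (AddCommGrpCat.mono_iff_injective _).2 ((injective_iff_map_eq_zero _).2 fun s hs => ?_)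
      exact eq_zero_of_locally F (U := V.unop) s fun x hx =>
        exists_rs_eq_zero F x hx s (congrFun (congrArg Subtype.val hs) ⟨x, hx⟩)
    exact NatTrans.mono_of_mono_app _)

/-- The embedding as a short exact sequence. -/
noncomputable abbrev ses : ShortComplex (CohTop.Ab X) :=
  ShortComplex.mk (η F) (cokernel.π (η F)) (cokernel.condition _)

lemma ses_shortExact : (ses F).ShortExact :=
  ShortComplex.ShortExact.mk' (ShortComplex.exact_of_g_is_cokernel _ (cokernelIsCokernel _))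
    inferInstance inferInstance

/-- Sections extend from compact opens. -/
def QcFlasque (A : CohTop.Ab X) : Prop :=
  ∀ (U V : Opens X) (h : U ≤ V), IsCompact (U : Set X) → Function.Surjective (rs A h)

theorem qcFlasque_con : QcFlasque (con F) := by
  classical
  intro U V h hU t
  let t' : ∀ y : V, St F y.1 :=
    fun y => if hy : y.1 ∈ U then t.1 ⟨y.1, hy⟩ else 0
  refine ⟨⟨t', fun x hx => ?_⟩, Subtype.ext (funext fun y => dif_pos y.2)⟩
  by_cases hxU : x ∈ U
  · obtain ⟨W, W', hW, c, c', m, n, s, e⟩ := t.2 x hxU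
    exact ⟨W, W', hW.trans h, c, c', m, n, s, fun y hy hy' => (dif_pos (hW hy)).trans (e y hy hy')⟩
  · obtain ⟨W, hWc, hxW, hW⟩ := exists_compact_nbhd hx
    exact ⟨W, U, hW, hWc, hU, hxW, hxU, 0, fun y hy hy' => (dif_neg hy').trans (map_zero _).symm⟩

omit [PrespectralSpace X] [QuasiSeparatedSpace X] in
lemma eq_of_rs_sup (A : CohTop.Ab X) {U₁ U₂ U : Opens X} (h₁ : U₁ ≤ U) (h₂ : U₂ ≤ U)
    (h : U ≤ U₁ ⊔ U₂) (a b : A.obj.obj (op U)) (e₁ : rs A h₁ a = rs A h₁ b)
    (e₂ : rs A h₂ a = rs A h₂ b) : a = b :=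
  TopCat.Sheaf.eq_of_locally_eq₂ A (homOfLE h₁) (homOfLE h₂) h a b e₁ e₂

/-- Sections lift through a quotient by a qc-flasque sheaf, on compact opens. -/
theorem QcFlasque.sections_surjective {T : ShortComplex (CohTop.Ab X)} (hT : T.ShortExact)
    (hA : QcFlasque T.X₁) {U : Opens X} (hU : IsCompact (U : Set X)) :
    Function.Surjective (T.g.hom.app (op U)).hom := by
  classical
  intro c
  have := hT.epi_g
  choose V hV hxV b hb using fun x : U => locally_lift T.g c x.2
  choose W hWc hxW hWV using fun x : U => exists_compact_nbhd (hxV x)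
  have key : ∀ σ : Finset U, IsCompact ((σ.sup W : Opens X) : Set X) ∧
      ∃ (h : σ.sup W ≤ U) (b' : T.X₂.obj.obj (op (σ.sup W))),
        (T.g.hom.app (op (σ.sup W))).hom b' = rs T.X₃ h c := by
    intro σ
    induction σ using Finset.induction with
    | empty =>
      refine ⟨by rw [Finset.sup_empty]; exact isCompact_empty, bot_le.trans' (le_of_eq Finset.sup_empty), 0, ?_⟩
      refine (map_zero _).trans (eq_zero_of_locally T.X₃ _ fun x hx => ?_).symm
      rw [Finset.sup_empty] at hx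
      exact absurd hx id
    | insert a σ ha ih =>
      obtain ⟨hc, h, b', hb'⟩ := ih
      have heq : (insert a σ).sup W = W a ⊔ σ.sup W := Finset.sup_insert
      have hle : W a ⊔ σ.sup W ≤ U := sup_le ((hWV a).trans (hV a)) h
      rw [heq]
      refine ⟨(hWc a).union hc, hle, ?_⟩
      let O : Opens X := W a ⊓ σ.sup W
      let d := rs T.X₂ (inf_le_right : O ≤ σ.sup W) b' -
        rs T.X₂ ((inf_le_left : O ≤ W a).trans (hWV a)) (b a)
      obtain ⟨e, he⟩ := sections_exact hT O d (by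
        rw [map_sub, rs_app, rs_app, hb', hb, rs_rs, rs_rs, sub_self])
      obtain ⟨e', he'⟩ := hA O (W a) inf_le_left (isCompact_inf (hWc a) hc) e
      let b₁ := rs T.X₂ (hWV a) (b a) + (T.f.hom.app (op (W a))).hom e'
      have hagree : rs T.X₂ (inf_le_left : O ≤ W a) b₁ = rs T.X₂ (inf_le_right : O ≤ σ.sup W) b' := by
        simp only [b₁]
        rw [map_add, ← rs_app, he', he, rs_rs]
        exact add_sub_cancel _ _
      obtain ⟨g, hg₁, hg₂⟩ : ∃ g : T.X₂.obj.obj (op (W a ⊔ σ.sup W)),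
          rs T.X₂ le_sup_left g = b₁ ∧ rs T.X₂ le_sup_right g = b' := by
        let Uf : ULift.{u} Bool → Opens X := fun k => cond k.down (W a) (σ.sup W)
        let sf : ∀ k, T.X₂.obj.obj (op (Uf k)) := fun k =>
          match k with
          | ⟨true⟩ => b₁
          | ⟨false⟩ => b'
        have hcomp : TopCat.Presheaf.IsCompatible T.X₂.obj Uf sf := by
          rintro ⟨_ | _⟩ ⟨_ | _⟩
          · rfl
          · have h' := congrArg (rs T.X₂ (le_of_eq (inf_comm (σ.sup W) (W a)))) hagree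
            rw [rs_rs, rs_rs] at h'
            exact h'.symm
          · exact hagree
          · rfl
        obtain ⟨g, hg, -⟩ := TopCat.Sheaf.existsUnique_gluing' T.X₂ Uf (W a ⊔ σ.sup W)
          (fun k => homOfLE (match k with
            | ⟨true⟩ => le_sup_left
            | ⟨false⟩ => le_sup_right))
          (sup_le (le_iSup Uf ⟨true⟩) (le_iSup Uf ⟨false⟩)) sf hcomp
        exact ⟨g, hg ⟨true⟩, hg ⟨false⟩⟩
      refine ⟨g, eq_of_rs_sup T.X₃ le_sup_left le_sup_right le_rfl _ _ ?_ ?_⟩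
      · rw [← rs_app, hg₁, rs_rs]
        simp only [b₁]
        rw [map_add, rs_app, hb, rs_rs]
        refine add_eq_left.2 ?_
        exact ConcreteCategory.congr_hom (congr($(T.zero).hom.app (op (W a)))) e'
      · rw [← rs_app, hg₂, hb', rs_rs]
  obtain ⟨σ, hσ⟩ := hU.elim_finite_subcover (fun x => (W x : Set X)) (fun x => (W x).2)
    fun x hx => Set.mem_iUnion.2 ⟨⟨x, hx⟩, hxW _⟩
  obtain ⟨hc, h, b', hb'⟩ := key σ
  have hle : U ≤ σ.sup W := fun x hx => by
    obtain ⟨z, hz, hxz⟩ := Set.mem_iUnion₂.1 (hσ hx)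
    exact Finset.le_sup (f := W) hz hxz
  exact ⟨rs T.X₂ hle b', by rw [rs_app, hb', rs_rs, rs_refl]⟩

theorem QcFlasque.quot {T : ShortComplex (CohTop.Ab X)} (hT : T.ShortExact)
    (hA : QcFlasque T.X₁) (hB : QcFlasque T.X₂) : QcFlasque T.X₃ := by
  intro U V h hU c
  obtain ⟨b, hb⟩ := hA.sections_surjective hT hU c
  obtain ⟨b', hb'⟩ := hB U V h hU b
  exact ⟨(T.g.hom.app (op V)).hom b', by rw [← rs_app, hb', hb]⟩

theorem QcFlasque.HU_subsingleton {A : CohTop.Ab X} (hA : QcFlasque A) (n : ℕ) (U : Opens X)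
    (hU : IsCompact (U : Set X)) : Subsingleton (CohTop.HU A (n + 1) U) := by
  refine HU_subsingleton_of_class (fun G => QcFlasque G) {V : Opens X | IsCompact (V : Set X)}
    (fun G hG => hG.quot (embedding_shortExact G) ?_)
    (fun G hG V hV => hG.sections_surjective (embedding_shortExact G) (show IsCompact (V : Set X) from hV)) n A hA U hU
  intro U' V' h _
  have : Injective (embedding G).X₂ := Injective.injective_under G
  have := Flasque.isFlasque_of_injective (embedding G).X₂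
  exact (AddCommGrpCat.epi_iff_surjective _).1
    (TopCat.Presheaf.IsFlasque.epi (F := (embedding G).X₂.obj) (homOfLE h).op)

/-- `F` vanishes at `x`. -/
def ZeroAt (x : X) : Prop :=
  ∀ (U : Opens X) (hx : x ∈ U) (s : F.obj.obj (op U)), gm F x hx s = 0

theorem zeroAt_cokernel [CompactSpace X] [QuasiSober X] (x : X)
    (h : ∀ y : X, y ⤳ x → y ≠ x → ZeroAt F y) : ZeroAt (cokernel (η F)) x := by
  intro U hx c
  obtain ⟨V, hV, hxV, t, ht⟩ := locally_lift (cokernel.π (η F)) c hx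
  obtain ⟨s₀', hs₀'⟩ : ∃ s, s = t.1 ⟨x, hxV⟩ := ⟨_, rfl⟩
  obtain ⟨V₁', hxV₁', s₁, hs₁⟩ := TopCat.Presheaf.exists_germ_eq (C := AddCommGrpCat.{u}) (X := X) F.obj s₀'
  obtain ⟨W₁, hW₁c, hxW₁, hW₁⟩ := exists_compact_nbhd (show x ∈ V₁' ⊓ V from ⟨hxV₁', hxV⟩)
  let s₀ := rs F (hW₁.trans inf_le_left) s₁
  let g : (con F).obj.obj (op W₁) :=
    rs (con F) (hW₁.trans inf_le_right) t - ((η F).hom.app (op W₁)).hom s₀
  have hgval : ∀ (y : X) (hy : y ∈ W₁), g.1 ⟨y, hy⟩ =
      t.1 ⟨y, (hW₁ hy).2⟩ - gm F y hy s₀ := fun y hy => rfl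
  have hgx : g.1 ⟨x, hxW₁⟩ = 0 := by
    rw [hgval, gm_rs, sub_eq_zero]
    exact (hs₁.trans hs₀').symm
  have hgen : ∀ (y : X) (hy : y ∈ W₁), y ⤳ x → g.1 ⟨y, hy⟩ = 0 := fun y hy hyx => by
    by_cases he : y = x
    · subst he; exact hgx
    · obtain ⟨O, hyO, r, hr⟩ := TopCat.Presheaf.exists_germ_eq (C := AddCommGrpCat.{u}) (X := X) F.obj (g.1 ⟨y, hy⟩)
      rw [← hr]
      exact h y hyx he O hyO r
  have hzero : ∀ (y : X) (hy : y ∈ W₁), g.1 ⟨y, hy⟩ = 0 → ∃ W W' : Opens X,
      IsCompact (W : Set X) ∧ IsCompact (W' : Set X) ∧ y ∈ W ∧ y ∉ W' ∧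
      ∀ (z : X) (hz : z ∈ W₁), z ∈ W → z ∉ W' → g.1 ⟨z, hz⟩ = 0 := fun y hy h0 => by
    obtain ⟨W, W', hW, _, c', m, n, s, e⟩ := g.2 y hy
    obtain ⟨O, hO, hyO, hs⟩ := exists_rs_eq_zero F y m s ((e y m n).symm.trans h0)
    obtain ⟨W₂, hW₂c, hyW₂, hW₂⟩ := exists_compact_nbhd hyO
    refine ⟨W₂, W', hW₂c, c', hyW₂, n, fun z hz hzW hzW' => ?_⟩
    rw [e z (hO (hW₂ hzW)) hzW', ← gm_rs F hO z (hW₂ hzW), hs, map_zero]
  choose Wf W'f hc hc' hm hn hz using hzero
  let T₀ := {p : W₁ // g.1 p = 0} ⊕ {W : Opens X // IsCompact (W : Set X) ∧ x ∈ W}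
  let O : T₀ → Set X := Sum.elim
    (fun p => (Wf p.1.1 p.1.2 p.2 : Set X) ∩ (W'f p.1.1 p.1.2 p.2 : Set X)ᶜ)
    (fun W => (W.1 : Set X)ᶜ)
  have hO : ∀ i, IsOpen[constructibleTopology X] (O i) := by
    rintro (p | W)
    · exact @IsOpen.inter X (constructibleTopology X) _ _
        ((hc _ _ _).isOpen_constructibleTopology_of_isOpen (Wf _ _ _).2)
        (IsCompact.isOpen_constructibleTopology_of_isClosed
          (by rw [compl_compl]; exact hc' _ _ _) (W'f _ _ _).2.isClosed_compl)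
    · exact IsCompact.isOpen_constructibleTopology_of_isClosed
        (by simpa [O] using W.2.1) W.1.2.isClosed_compl
  let e : X → WithConstructibleTopology X := WithTopology.toTopology _
  obtain ⟨σ, hσ⟩ := (isCompact_univ (X := WithConstructibleTopology X)).elim_finite_subcover
    (fun i => {z | ∀ w, e w = z → w ∈ O i})
    (fun i => by
      rw [WithConstructibleTopology.isOpen_iff]
      convert hO i using 1
      ext w
      exact ⟨fun hw => hw w rfl, fun hw w' hw' => by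
        rw [(WithTopology.toTopology_injective _ hw' : w' = w)]; exact hw⟩)
    fun z _ => by
      obtain ⟨w, rfl⟩ := WithTopology.toTopology_surjective (constructibleTopology X) z
      suffices ∃ i, w ∈ O i by
        obtain ⟨i, hi⟩ := this
        exact Set.mem_iUnion.2 ⟨i, fun w' hw' => by
          rw [(WithTopology.toTopology_injective _ hw' : w' = w)]; exact hi⟩
      by_contra hcon
      push Not at hcon
      have hw : ∀ W : Opens X, IsCompact (W : Set X) → x ∈ W → w ∈ W := fun W hW hxW => by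
        by_contra hwW
        exact hcon (Sum.inr ⟨W, hW, hxW⟩) hwW
      have hwx : w ⤳ x := specializes_iff_forall_open.2 fun o ho hxo => by
        obtain ⟨W, hW, hxW, hWo⟩ := exists_compact_nbhd (V := ⟨o, ho⟩) hxo
        exact hWo (hw W hW hxW)
      have hwW₁ := hw W₁ hW₁c hxW₁
      exact hcon (Sum.inl ⟨⟨w, hwW₁⟩, hgen w hwW₁ hwx⟩)
        ⟨hm w hwW₁ _, hn w hwW₁ _⟩
  let J : Opens X := σ.inf (Sum.elim (fun _ => ⊤) (fun W => W.1))
  have hxJ : x ∈ W₁ ⊓ J := by
    refine ⟨hxW₁, ?_⟩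
    have : ∀ i ∈ σ, x ∈ (Sum.elim (fun _ => (⊤ : Opens X)) (fun W => W.1) : T₀ → Opens X) i := by
      rintro (p | W) _
      · trivial
      · exact W.2.2
    exact Finset.inf_induction (p := fun V' : Opens X => x ∈ V') trivial
      (fun _ ha _ hb => ⟨ha, hb⟩) this
  have hgJ : rs (con F) (inf_le_left : W₁ ⊓ J ≤ W₁) g = 0 := Subtype.ext (funext fun z => by
    obtain ⟨i, hi, hzi⟩ := Set.mem_iUnion₂.1 (hσ (Set.mem_univ (e z.1)))
    have hzO := hzi z.1 rfl
    rcases i with p | W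
    · exact hz _ _ _ z.1 z.2.1 hzO.1 hzO.2
    · exact absurd (show z.1 ∈ W.1 from (Finset.inf_le hi : J ≤ _) z.2.2) hzO)
  have hle : W₁ ⊓ J ≤ U := inf_le_left.trans ((hW₁.trans inf_le_right).trans hV)
  refine (gm_rs _ hle x hxJ c).symm.trans ?_
  have hc0 : rs (cokernel (η F)) hle c = 0 := by
    have h1 : rs (cokernel (η F)) (hW₁.trans inf_le_right) (rs _ hV c) =
        ((cokernel.π (η F)).hom.app (op W₁)).hom g := by
      simp only [g]
      rw [map_sub, rs_app, ht]
      refine (sub_eq_self.2 ?_).symm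
      exact ConcreteCategory.congr_hom (congr($(cokernel.condition (η F)).hom.app (op W₁))) s₀
    have h2 := congrArg (rs (cokernel (η F)) (inf_le_left : W₁ ⊓ J ≤ W₁)) h1
    rw [← rs_app, hgJ, map_zero, rs_rs, rs_rs] at h2
    exact h2
  rw [hc0, map_zero]

/-- The closure of a point. -/
def cl (x : X) : IrreducibleCloseds X :=
  ⟨closure {x}, isIrreducible_singleton.closure, isClosed_closure⟩

omit [PrespectralSpace X] [QuasiSeparatedSpace X] in
lemma cl_lt [T0Space X] {x y : X} (h : y ⤳ x) (hne : y ≠ x) : cl x < cl y := by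
  refine lt_of_le_of_ne (fun z hz => (specializes_iff_closure_subset.1 h) hz) fun e => hne ?_
  have e' : closure {x} = closure ({y} : Set X) := congrArg SetLike.coe e
  exact ((inseparable_iff_closure_eq (x := y) (y := x)).2 e'.symm).eq

/-- Vanishing at the points of small height. -/
def ZeroBelow (k : ℕ) : Prop := ∀ x : X, Order.coheight (cl x) < k → ZeroAt F x

theorem ZeroBelow.succ [CompactSpace X] [QuasiSober X] [T0Space X] {k : ℕ} (h : ZeroBelow F k) :
    ZeroBelow (cokernel (η F)) (k + 1) := fun x hx => zeroAt_cokernel F x fun y hyx hne => h y <| by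
  refine lt_of_add_lt_add_right (a := (1 : ℕ∞)) ?_
  exact lt_of_le_of_lt (Order.coheight_add_one_le (cl_lt hyx hne)) (by simpa using hx)

variable [CompactSpace X] [QuasiSober X] [T0Space X]

theorem vanishing_aux (d : ℕ) (hd : topologicalKrullDim X ≤ d) (m : ℕ) :
    ∀ (k : ℕ) (F : CohTop.Ab X), m + k = d + 1 → ZeroBelow F k →
      (∀ p, m ≤ p → Subsingleton (CohTop.HU F p ⊤)) ∧
      (∀ (U : Opens X), IsCompact (U : Set X) → ∀ p, p + 1 = m →
        Function.Surjective (CohTop.res F p (le_top : U ≤ ⊤))) := by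
  induction m with
  | zero =>
    intro k F hk hF
    have hz : ∀ (V : Opens X) (s : F.obj.obj (op V)), s = 0 := fun V s =>
      eq_zero_of_locally F s fun x hx => exists_rs_eq_zero F x hx s (hF x (by
        have h1 : Order.coheight (cl x) ≤ (d : ℕ∞) := by
          exact_mod_cast (Order.coheight_le_krullDim (cl x)).trans hd
        refine lt_of_le_of_lt h1 ?_
        exact_mod_cast (by omega : d < k)) V hx s)
    exact ⟨fun p _ => Van.of_supp_empty (fun V _ s => hz V s) 0 p (Nat.zero_le _),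
      fun U hU p hp => absurd hp (by omega)⟩
  | succ m ih =>
    intro k F hk hF
    obtain ⟨hvan, hsur⟩ := ih (k + 1) _ (by omega) (ZeroBelow.succ F hF)
    have hT := ses_shortExact F
    have hacy : ∀ (n : ℕ) (U : Opens X), IsCompact (U : Set X) →
        Subsingleton (CohTop.HU (ses F).X₂ (n + 1) U) := fun n U hU =>
      (qcFlasque_con F).HU_subsingleton n U hU
    refine ⟨fun p hp => ?_, fun U hU p hp => ?_⟩
    · obtain ⟨q, rfl⟩ : ∃ q, p = q + 1 := ⟨p - 1, by omega⟩
      refine subsingleton_of_forall_eq 0 fun x => ?_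
      have := hacy q ⊤ isCompact_univ
      have : Subsingleton (CohTop.HU (ses F).X₃ q ⊤) := hvan q (by omega)
      obtain ⟨y, hy⟩ := HU_exact₁ hT ⊤ (rfl : q + 1 = q + 1) x (Subsingleton.elim _ _)
      rw [← hy, Subsingleton.elim y 0, map_zero]
    · obtain rfl : p = m := by omega
      intro x
      cases p with
      | zero =>
        have : Subsingleton (CohTop.HU (ses F).X₃ 0 ⊤) := hvan 0 le_rfl
        obtain ⟨g, hg⟩ := qcFlasque_con F U ⊤ le_top hU (((η F).hom.app (op U)).hom (HU0Equiv F U x))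
        obtain ⟨y, hy⟩ := HU_exact₂ hT ⊤ ((HU0Equiv (ses F).X₂ ⊤).symm g) (Subsingleton.elim _ _)
        refine ⟨y, (HU0Equiv F U).injective (app_injective (η F) U ?_)⟩
        rw [HU0Equiv_res]
        refine Eq.trans ?_ hg
        refine (rs_app (η F) (le_top : U ≤ ⊤) _).trans (congrArg (rs (con F) le_top) ?_)
        exact (HU0Equiv_map (η F) ⊤ y).symm.trans ((congrArg (HU0Equiv (ses F).X₂ ⊤) hy).trans
          (AddEquiv.apply_symm_apply _ _))
      | succ q =>
        have := hacy q U hU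
        obtain ⟨y, hy⟩ := HU_exact₁ hT U (rfl : q + 1 = q + 1) x (Subsingleton.elim _ _)
        obtain ⟨y', hy'⟩ := hsur U hU q rfl y
        refine ⟨δ hT ⊤ q (q + 1) rfl y', ?_⟩
        rw [δ_res hT le_top rfl y', hy', hy]

theorem spectral_vanishing (d : ℕ) (hd : topologicalKrullDim X ≤ d) (F : CohTop.Ab X) (p : ℕ)
    (hp : d < p) : Subsingleton (CohTop.H F p) := by
  have := (vanishing_aux d hd (d + 1) 0 F rfl fun x hx => by simp at hx).1 p hp
  exact (HEquivHUTop F p).injective.subsingleton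

theorem spectral_top_surjective (d : ℕ) (hd : topologicalKrullDim X ≤ d) (F : CohTop.Ab X)
    (U : Opens X) (hU : IsCompact (U : Set X)) :
    Function.Surjective (CohTop.res F d (le_top : U ≤ ⊤)) :=
  (vanishing_aux d hd (d + 1) 0 F rfl fun x hx => by simp at hx).2 U hU d rfl

end Groth.Agent.CohTop.Spectral
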