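import Groth.Agent.CohTop.SpectralNbhd
import Groth.Agent.CohTop.Derived

/-!
# Cohomology of an intersection of compact opens as a colimit over neighbourhoods
-/

universe u

open CategoryTheory CategoryTheory.Limits Opposite TopologicalSpace

namespace Groth.Agent.CohTop.SpectralColimit

open Groth.Agent.CohTop.Proper Groth.Agent.CohTop.Proper.Extend Groth.Agent.CohTop.Proper.Soft
  Groth.Agent.CohTop.Proper.Nbhd Groth.Agent.CohTop.Proper.Profinite Groth.Agent.CohTop.SpectralNbhd
  Groth.Agent.ModShf.AcyclicRes Groth.Agent.CohTop.Descent.Compute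

variable {X : TopCat.{u}} (Q : ObjectProperty (Opens X)ᵒᵖ) (F : CohTop.Ab X) (p : ℕ)

variable {Q}

variable {W : TopCat.{u}} (i : W ⟶ X) (hiZ : ∀ (U : Q.FullSubcategory) (w : W), i w ∈ U.obj.unop)
  (J : InjectiveResolution F) (L : InjectiveResolution ((CohTop.pull i).obj F))

/-- The map of resolutions. -/
noncomputable abbrev φL : (pullRes (i := i) (ofInj J)).K ⟶ L.cocomplex :=
  (pullRes (i := i) (ofInj J)).desc (𝟙 _) L

/-- The target complex. -/
noncomputable abbrev ΓL : CochainComplex AddCommGrpCat.{u} ℕ :=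
  ((Γt W).mapHomologicalComplex _).obj L.cocomplex

/-- Restriction of sections. -/
noncomputable def resW (n : ℕ) (U : Q.FullSubcategory) :
    (J.cocomplex.X n).obj.obj U.obj ⟶ (ΓL F i L).X n :=
  uni i (J.cocomplex.X n) U.obj.unop ≫
    ((CohTop.pull i).obj (J.cocomplex.X n)).obj.map
      (homOfLE (fun w _ => hiZ U w : (⊤ : Opens W) ≤ (Opens.map i).obj U.obj.unop)).op ≫
    ((φL F i J L).f n).hom.app (op ⊤)

theorem resW_apply (n : ℕ) (U : Q.FullSubcategory) (s : (J.cocomplex.X n).obj.obj U.obj) :
    resW F i hiZ J L n U s =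
      cmpU (ofInj J) (L := ofInj L) (φL F i J L) n U.obj.unop (hiZ U) s := rfl

theorem d_resW (n m : ℕ) (U : Q.FullSubcategory) (s : (J.cocomplex.X n).obj.obj U.obj) :
    (ΓL F i L).d n m (resW F i hiZ J L n U s) =
      resW F i hiZ J L m U ((J.cocomplex.d n m).hom.app U.obj s) := by
  rw [resW_apply, resW_apply]
  refine (ConcreteCategory.congr_hom (congrArg (fun φ => φ.hom.app (op (⊤ : Opens W)))
    ((φL F i J L).comm n m)) _).trans ?_
  exact congrArg (((φL F i J L).f m).hom.app (op ⊤))
    (uniZ_nat (i := i) (J.cocomplex.d n m) U.obj.unop (hiZ U) s)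

/-- Cocycles give classes on the subspace. -/
noncomputable def κ (U : Q.FullSubcategory) :
    ((Derived.preCx J).cycles p).obj U.obj ⟶ (ΓL F i L).homology p :=
  (ΓL F i L).liftCycles (((Derived.preCx J).iCycles p).app U.obj ≫ resW F i hiZ J L p U) (p + 1)
      (CochainComplex.next ℕ p) (by
        refine ConcreteCategory.hom_ext _ _ fun c => ?_
        refine (d_resW F i hiZ J L p (p + 1) U _).trans ?_
        exact (congrArg (resW F i hiZ J L (p + 1) U) (Derived.d_sect J p U.obj c)).trans (map_zero _)) ≫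
    (ΓL F i L).homologyπ p

theorem κ_eq_zero_iff (U : Q.FullSubcategory) (c : ((Derived.preCx J).cycles p).obj U.obj) :
    κ F p i hiZ J L U c = 0 ↔
      ∃ w, (ΓL F i L).d ((ComplexShape.up ℕ).prev p) p w =
        resW F i hiZ J L p U (Derived.sect J p U.obj c) := by
  unfold κ
  rw [ConcreteCategory.comp_apply, Descent.TotExact.homologyπ_eq_zero_iff (ΓL F i L) rfl,
    ← ConcreteCategory.comp_apply, HomologicalComplex.liftCycles_i]
  rfl

theorem κ_map {U V : Q.FullSubcategory} (a : U ⟶ V)
    (c : ((Derived.preCx J).cycles p).obj U.obj) :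
    κ F p i hiZ J L V (((Derived.preCx J).cycles p).map a.hom c) = κ F p i hiZ J L U c := by
  unfold κ
  rw [ConcreteCategory.comp_apply, ConcreteCategory.comp_apply]
  refine congrArg ((ΓL F i L).homologyπ p)
    ((AddCommGrpCat.mono_iff_injective ((ΓL F i L).iCycles p)).1 inferInstance ?_)
  rw [← ConcreteCategory.comp_apply, ← ConcreteCategory.comp_apply (f := HomologicalComplex.liftCycles _ _ _ _ _),
    HomologicalComplex.liftCycles_i, HomologicalComplex.liftCycles_i]
  show resW F i hiZ J L p V (Derived.sect J p V.obj _) = resW F i hiZ J L p U (Derived.sect J p U.obj c)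
  rw [Derived.sect_naturality, resW_apply, resW_apply]
  exact congrArg (((φL F i J L).f p).hom.app (op ⊤))
    (uniZ_rs (i := i) (J.cocomplex.X p) (leOfHom a.hom.unop) _ _ _)

theorem κ_ker (U : Q.FullSubcategory) (c : ((Derived.preCx J).cycles p).obj U.obj)
    (hc : Derived.classExt J p U.obj c = 0) : κ F p i hiZ J L U c = 0 := by
  obtain ⟨y, rfl⟩ := (Derived.exact_toCycles J p U.obj c).1 hc
  refine (κ_eq_zero_iff F p i hiZ J L U _).2 ⟨resW F i hiZ J L _ U y, ?_⟩
  rw [Derived.sect_toCycles]
  exact d_resW F i hiZ J L _ p U y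

/-- Classes on a neighbourhood give classes on the subspace. -/
noncomputable def leg (U : Q.FullSubcategory) :
    ((Sheaf.cohomologyPresheafFunctor (Opens.grothendieckTopology X) p).obj F).obj U.obj ⟶
      (ΓL F i L).homology p :=
  AddCommGrpCat.ofHom (AddMonoidHom.liftOfSurjective ((Derived.classMap J p).app U.obj).hom
    (Derived.classExt_surjective J p U.obj) ⟨(κ F p i hiZ J L U).hom, fun c hc => κ_ker F p i hiZ J L U c hc⟩)

theorem leg_class (U : Q.FullSubcategory) (c : ((Derived.preCx J).cycles p).obj U.obj) :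
    leg F p i hiZ J L U ((Derived.classMap J p).app U.obj c) = κ F p i hiZ J L U c :=
  AddMonoidHom.liftOfRightInverse_comp_apply _ _ _ _ c

/-- The cocone on the neighbourhoods. -/
noncomputable def legs : Cocone (Q.ι ⋙
    (Sheaf.cohomologyPresheafFunctor (Opens.grothendieckTopology X) p).obj F) where
  pt := (ΓL F i L).homology p
  ι :=
    { app := fun U => leg F p i hiZ J L U
      naturality := fun U V a => by
        refine ConcreteCategory.hom_ext _ _ fun x => ?_
        obtain ⟨c, rfl⟩ := Derived.classExt_surjective J p U.obj x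
        refine Eq.trans ?_ (leg_class F p i hiZ J L U c).symm
        refine (congrArg (leg F p i hiZ J L V) ?_).trans
          ((leg_class F p i hiZ J L V _).trans (κ_map F p i hiZ J L a c))
        exact (ConcreteCategory.congr_hom ((Derived.classMap J p).naturality a.hom) c).symm }

variable [PrespectralSpace X] [QuasiSeparatedSpace X] [CompactSpace X] (ht : Trace i)
  (hQ : ∀ U : Opens X, (∀ w, i w ∈ U) → ∃ U' : Q.FullSubcategory, U'.obj.unop ≤ U)
  [IsFiltered Q.FullSubcategory]

omit [PrespectralSpace X] [QuasiSeparatedSpace X] [CompactSpace X] [IsFiltered Q.FullSubcategory] in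
theorem hφL : (pullRes (i := i) (ofInj J)).ι ≫ φL F i J L = (ofInj L).ι := by
  refine (Res.ι_desc _ _ _).trans ?_
  rw [CategoryTheory.Functor.map_id, Category.id_comp]

include ht hQ in
theorem bijective_desc : Function.Bijective (colimit.desc _ (legs F p i hiZ J L)) := by
  have hR : ∀ n, TopCat.Sheaf.IsFlasque ((ofInj J).K.X n) := isFlasque_ofInj J
  have hL : ∀ n, TopCat.Sheaf.IsFlasque ((ofInj L).K.X n) := isFlasque_ofInj L
  have hdesc : ∀ (U : Q.FullSubcategory) (c : ((Derived.preCx J).cycles p).obj U.obj),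
      colimit.desc _ (legs F p i hiZ J L) (colimit.ι (Q.ι ⋙
        (Sheaf.cohomologyPresheafFunctor (Opens.grothendieckTopology X) p).obj F) U
          ((Derived.classMap J p).app U.obj c)) = κ F p i hiZ J L U c := fun U c => by
    rw [colimit.ι_desc_apply]
    exact leg_class F p i hiZ J L U c
  refine ⟨(injective_iff_map_eq_zero _).2 fun x hx => ?_, fun t => ?_⟩
  · obtain ⟨U, x, rfl⟩ := Concrete.colimit_exists_rep _ x
    obtain ⟨c, rfl⟩ := Derived.classExt_surjective J p U.obj x
    obtain ⟨w, hw⟩ := (κ_eq_zero_iff F p i hiZ J L U c).1 ((hdesc U c).symm.trans hx)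
    obtain ⟨U', hle, hU', v, hv⟩ := SpectralNbhd.exists_near ht (ofInj J) hR hL (φL F i J L)
      (hφL F i J L) p U.obj.unop (hiZ U) (Derived.sect J p U.obj c)
      (Derived.d_sect J p U.obj c) w hw
    obtain ⟨V, hV⟩ := hQ U' hU'
    let a : U ⟶ V := ObjectProperty.homMk (homOfLE (hV.trans hle)).op
    refine (ConcreteCategory.congr_hom (colimit.w _ a) _).symm.trans ?_
    refine (congrArg (colimit.ι (Q.ι ⋙
      (Sheaf.cohomologyPresheafFunctor (Opens.grothendieckTopology X) p).obj F) V) ?_).trans (map_zero _)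
    refine (ConcreteCategory.congr_hom ((Derived.classMap J p).naturality a.hom) c).symm.trans ?_
    refine (Derived.exact_toCycles J p V.obj _).2
      ⟨rs (J.cocomplex.X _) hV v, Derived.sect_injective J p V.obj ?_⟩
    refine (Derived.sect_toCycles J _ p V.obj _).trans (Eq.trans ?_ (Derived.sect_naturality J p a.hom c).symm)
    exact (ConcreteCategory.congr_hom ((J.cocomplex.d _ p).hom.naturality (homOfLE hV).op) v).trans
      ((congrArg (rs (J.cocomplex.X p) hV) hv).trans (StalkComparison.rs_rs (J.cocomplex.X p) hle hV _))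
  · obtain ⟨z, rfl⟩ := Descent.TotExact.homologyπ_surjective (ΓL F i L) p t
    obtain ⟨U', hU', s, hs0, w, hw⟩ := SpectralNbhd.exists_lift ht (ofInj J) hR hL (φL F i J L)
      (hφL F i J L) p ((ΓL F i L).iCycles p z) (by
        show ((ΓL F i L).iCycles p ≫ (ΓL F i L).d p (p + 1)) z = 0
        rw [HomologicalComplex.iCycles_d]; rfl)
    obtain ⟨U, hU⟩ := hQ U' hU'
    obtain ⟨c, hc⟩ := Derived.exists_sect J p U.obj (rs (J.cocomplex.X p) hU s)
      ((ConcreteCategory.congr_hom ((J.cocomplex.d p (p + 1)).hom.naturality (homOfLE hU).op) s).trans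
        ((congrArg (rs (J.cocomplex.X (p + 1)) hU) hs0).trans (map_zero _)))
    refine ⟨colimit.ι (Q.ι ⋙
      (Sheaf.cohomologyPresheafFunctor (Opens.grothendieckTopology X) p).obj F) U
        ((Derived.classMap J p).app U.obj c), (hdesc U c).trans ?_⟩
    unfold κ
    rw [ConcreteCategory.comp_apply, ← sub_eq_zero]
    refine (map_sub ((ΓL F i L).homologyπ p).hom _ _).symm.trans
      ((Descent.TotExact.homologyπ_eq_zero_iff (ΓL F i L) rfl _).2 ⟨w, hw.trans ?_⟩)
    refine Eq.trans ?_ (map_sub ((ΓL F i L).iCycles p).hom _ z).symm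
    refine congrArg (· - (ΓL F i L).iCycles p z) ?_
    refine Eq.trans ?_ (ConcreteCategory.congr_hom ((ΓL F i L).liftCycles_i
      (((Derived.preCx J).iCycles p).app U.obj ≫ resW F i hiZ J L p U) (p + 1) _ _) c).symm
    refine Eq.trans ?_ (congrArg (resW F i hiZ J L p U) hc).symm
    exact (congrArg (((φL F i J L).f p).hom.app (op ⊤)) (uniZ_rs (i := i) (J.cocomplex.X p) hU hU' (hiZ U) s)).symm

include hiZ ht hQ in
/-- Cohomology of the subspace is the colimit over the neighbourhoods. -/
theorem nonempty_equiv : Nonempty ((colimit (Q.ι ⋙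
    (Sheaf.cohomologyPresheafFunctor (Opens.grothendieckTopology X) p).obj F) : AddCommGrpCat.{u}) ≃+
      CohTop.H ((CohTop.pull i).obj F) p) := by
  let J := injectiveResolution F
  let L := injectiveResolution ((CohTop.pull i).obj F)
  obtain ⟨e⟩ := nonempty_homology_iso_H (ofInj L) (isFlasque_ofInj L) p
  exact ⟨(AddEquiv.ofBijective (colimit.desc _ (legs F p i hiZ J L)).hom
    (bijective_desc F p i hiZ J L ht hQ)).trans e.addCommGroupIsoToAddEquiv⟩

end Groth.Agent.CohTop.SpectralColimit
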