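import Groth.Agent.CohTop.Spectral
import Groth.Agent.CohTop.Proper.StalkComparison
import Groth.Agent.CohTop.Proper.Profinite

/-!
# Cohomology near an intersection of compact opens of a spectral space

`Trace i` : the image of `i` behaves like an intersection of compact opens.  For such a subspace
inverse images of flasque sheaves are qc-flasque and the cohomology is computed near the subspace.
-/

universe u

open CategoryTheory CategoryTheory.Limits Opposite TopologicalSpace Topology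

namespace Groth.Agent.CohTop.SpectralNbhd

open Groth.Agent.CohTop.Proper.Extend Groth.Agent.CohTop.Proper.Soft
  Groth.Agent.CohTop.Proper.Nbhd Groth.Agent.CohTop.Proper.StalkComparison
  Groth.Agent.ModShf.AcyclicRes Groth.Agent.CohTop.Descent.Compute
  Groth.Agent.CohTop.Proper.Profinite
open Groth.Agent.CohTop.Spectral (QcFlasque exists_compact_nbhd isCompact_inf)

/-- A directed family of compact opens with intersection inside `O` on `U` has a member inside. -/
theorem exists_member {X : TopCat.{u}} [PrespectralSpace X] [QuasiSeparatedSpace X] [CompactSpace X]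
    [QuasiSober X] {κ : Type u} [Nonempty κ] (𝒱 : κ → Opens X)
    (h𝒱 : ∀ k, IsCompact (𝒱 k : Set X)) (hdir : ∀ a b, ∃ c, 𝒱 c ≤ 𝒱 a ⊓ 𝒱 b) (U : Opens X)
    (hU : IsCompact (U : Set X)) (O : Opens X) (h : ∀ x ∈ U, (∀ k, x ∈ 𝒱 k) → x ∈ O) :
    ∃ k, U ⊓ 𝒱 k ≤ O := by
  classical
  have hO : IsOpen[constructibleTopology X] (O : Set X) := by
    have : (O : Set X) = ⋃ W : {W : Opens X // IsCompact (W : Set X) ∧ W ≤ O}, (W.1 : Set X) := by
      refine Set.Subset.antisymm (fun x hx => ?_) (Set.iUnion_subset fun W => W.2.2)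
      obtain ⟨W, hW, hxW, hWO⟩ := exists_compact_nbhd (V := O) hx
      exact Set.mem_iUnion.2 ⟨⟨W, hW, hWO⟩, hxW⟩
    rw [this]
    exact @isOpen_iUnion X _ (constructibleTopology X) _ fun W =>
      W.2.1.isOpen_constructibleTopology_of_isOpen W.1.2
  have hc : ∀ V : Opens X, IsCompact (V : Set X) → IsOpen[constructibleTopology X] (V : Set X)ᶜ :=
    fun V hV => IsCompact.isOpen_constructibleTopology_of_isClosed (by simpa using hV) V.2.isClosed_compl
  let T : Option (Option κ) → Set X := fun o => o.elim (O : Set X) fun o' =>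
    o'.elim (U : Set X)ᶜ fun k => (𝒱 k : Set X)ᶜ
  have hT : ∀ o, IsOpen[constructibleTopology X] (T o) := by
    rintro (_ | _ | k)
    exacts [hO, hc U hU, hc _ (h𝒱 k)]
  let f : WithConstructibleTopology X → X := WithTopology.ofTopology
  obtain ⟨σ, hσ⟩ := (isCompact_univ (X := WithConstructibleTopology X)).elim_finite_subcover
    (fun o => f ⁻¹' T o)
    (fun o => by rw [WithConstructibleTopology.isOpen_iff]; exact hT o)
    fun z _ => by
      by_cases hzU : f z ∈ U
      · by_cases hz : ∀ k, f z ∈ 𝒱 k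
        · exact Set.mem_iUnion.2 ⟨none, h _ hzU hz⟩
        · push Not at hz
          obtain ⟨k, hk⟩ := hz
          exact Set.mem_iUnion.2 ⟨some (some k), hk⟩
      · exact Set.mem_iUnion.2 ⟨some none, hzU⟩
  have hk : ∀ σ : Finset (Option (Option κ)), ∃ c, ∀ k, some (some k) ∈ σ → 𝒱 c ≤ 𝒱 k := by
    intro σ
    induction σ using Finset.induction with
    | empty => exact ⟨Classical.arbitrary κ, fun k hk => absurd hk (Finset.notMem_empty _)⟩
    | insert a σ ha ih =>
      obtain ⟨c, hc⟩ := ih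
      rcases a with _ | _ | a
      · exact ⟨c, fun k hk => hc k (by simpa using hk)⟩
      · exact ⟨c, fun k hk => hc k (by simpa using hk)⟩
      · obtain ⟨d, hd⟩ := hdir c a
        refine ⟨d, fun k hk => ?_⟩
        rcases Finset.mem_insert.1 hk with e | e
        · cases e; exact hd.trans inf_le_right
        · exact (hd.trans inf_le_left).trans (hc k e)
  obtain ⟨c, hc'⟩ := hk σ
  refine ⟨c, fun x hx => ?_⟩
  obtain ⟨o, ho, hxo⟩ := Set.mem_iUnion₂.1 (hσ (Set.mem_univ (WithTopology.toTopology _ x)))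
  rcases o with _ | _ | k
  · exact hxo
  · exact absurd hx.1 hxo
  · exact absurd (hc' k ho hx.2) hxo

/-- The image is an intersection of compact opens, in a usable form. -/
structure Trace {X Z : TopCat.{u}} (i : Z ⟶ X) : Prop where
  ind : Topology.IsInducing i
  key : ∀ U : Opens X, IsCompact (U : Set X) → ∀ O : Opens X, (∀ z, i z ∈ U → i z ∈ O) →
    ∃ V : Opens X, IsCompact (V : Set X) ∧ (∀ z, i z ∈ V) ∧ U ⊓ V ≤ O

theorem trace_of_family {X Z : TopCat.{u}} [PrespectralSpace X] [QuasiSeparatedSpace X]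
    [CompactSpace X] [QuasiSober X] {i : Z ⟶ X} (hind : Topology.IsInducing i) {κ : Type u}
    [Nonempty κ] (𝒱 : κ → Opens X) (h𝒱 : ∀ k, IsCompact (𝒱 k : Set X))
    (hdir : ∀ a b, ∃ c, 𝒱 c ≤ 𝒱 a ⊓ 𝒱 b) (hmem : ∀ z k, i z ∈ 𝒱 k)
    (hrange : ∀ x, (∀ k, x ∈ 𝒱 k) → x ∈ Set.range i) : Trace i where
  ind := hind
  key U hU O h := by
    obtain ⟨k, hk⟩ := exists_member 𝒱 h𝒱 hdir U hU O fun x hxU hx => by
      obtain ⟨z, rfl⟩ := hrange x hx
      exact h z hxU
    exact ⟨𝒱 k, h𝒱 k, fun z => hmem z k, hk⟩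

variable {X Z : TopCat.{u}} {i : Z ⟶ X} (ht : Trace i)

section geometry

include ht

theorem isCompact_trace [QuasiSeparatedSpace X] {U : Opens X} (hU : IsCompact (U : Set X)) :
    IsCompact (i ⁻¹' (U : Set X)) := by
  refine isCompact_of_finite_subcover fun {κ} o ho hcov => ?_
  choose O hO e using fun k => ht.ind.isOpen_iff.1 (ho k)
  obtain ⟨V, hVc, hV, hUV⟩ := ht.key U hU ⟨⋃ k, O k, isOpen_iUnion hO⟩ fun z hz => by
    obtain ⟨k, hk⟩ := Set.mem_iUnion.1 (hcov hz)
    exact Set.mem_iUnion.2 ⟨k, (Set.ext_iff.1 (e k) z).2 hk⟩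
  have : IsCompact ((U ⊓ V : Opens X) : Set X) → ∃ t : Finset κ, i ⁻¹' (U : Set X) ⊆ ⋃ k ∈ t, o k := by
    intro hc
    obtain ⟨t, ht'⟩ := hc.elim_finite_subcover O hO fun x hx => hUV hx
    refine ⟨t, fun z hz => ?_⟩
    obtain ⟨k, hk, hzk⟩ := Set.mem_iUnion₂.1 (ht' (show i z ∈ U ⊓ V from ⟨hz, hV z⟩))
    exact Set.mem_iUnion₂.2 ⟨k, hk, (Set.ext_iff.1 (e k) z).1 hzk⟩
  exact this (QuasiSeparatedSpace.inter_isCompact _ _ U.2 hU V.2 hVc)

end geometry

variable [PrespectralSpace X] [QuasiSeparatedSpace X]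

omit [QuasiSeparatedSpace X] in
theorem exists_trace_eq (hind : Topology.IsInducing i) {o : Opens Z} (hc : IsCompact (o : Set Z)) :
    ∃ U : Opens X, IsCompact (U : Set X) ∧ (Opens.map i).obj U = o := by
  obtain ⟨O, hO, e⟩ := hind.isOpen_iff.1 o.2
  choose W hWc hxW hWO using fun z : o => exists_compact_nbhd (V := ⟨O, hO⟩)
    (show i z.1 ∈ O from (Set.ext_iff.1 e z.1).2 z.2)
  obtain ⟨t, ht'⟩ := hc.elim_finite_subcover (fun z => i ⁻¹' (W z : Set X))
    (fun z => (W z).2.preimage i.hom.continuous) fun z hz => Set.mem_iUnion.2 ⟨⟨z, hz⟩, hxW _⟩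
  refine ⟨⟨⋃ z ∈ t, (W z : Set X), isOpen_biUnion fun z _ => (W z).2⟩,
    t.finite_toSet.isCompact_biUnion fun z _ => hWc z, SetLike.ext fun z => ⟨fun hz => ?_, fun hz => ?_⟩⟩
  · obtain ⟨w, -, hw⟩ := Set.mem_iUnion₂.1 hz
    exact (Set.ext_iff.1 e z).1 (hWO w hw)
  · obtain ⟨w, hw, hw'⟩ := Set.mem_iUnion₂.1 (ht' hz)
    exact Set.mem_iUnion₂.2 ⟨w, hw, hw'⟩

variable [CompactSpace X]

include ht

theorem compactSpace : CompactSpace Z :=
  ⟨by simpa using isCompact_trace ht (U := (⊤ : Opens X)) isCompact_univ⟩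

theorem prespectralSpace : PrespectralSpace Z := by
  refine ⟨isTopologicalBasis_of_isOpen_of_nhds (fun s hs => hs.1) fun z s hz hs => ?_⟩
  obtain ⟨O, hO, rfl⟩ := ht.ind.isOpen_iff.1 hs
  obtain ⟨W, hWc, hzW, hWO⟩ := exists_compact_nbhd (V := ⟨O, hO⟩) (x := i z) hz
  exact ⟨i ⁻¹' (W : Set X), ⟨W.2.preimage i.hom.continuous, isCompact_trace ht hWc⟩, hzW,
    Set.preimage_mono hWO⟩

theorem quasiSeparatedSpace : QuasiSeparatedSpace Z := by
  refine ⟨fun u v hu huc hv hvc => ?_⟩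
  obtain ⟨U, hU, e⟩ := exists_trace_eq ht.ind (o := ⟨u, hu⟩) huc
  obtain ⟨V, hV, e'⟩ := exists_trace_eq ht.ind (o := ⟨v, hv⟩) hvc
  have h1 : u = i ⁻¹' (U : Set X) := (congrArg SetLike.coe e).symm
  have h2 : v = i ⁻¹' (V : Set X) := (congrArg SetLike.coe e').symm
  rw [h1, h2, ← Set.preimage_inter]
  exact isCompact_trace ht (U := U ⊓ V) (isCompact_inf hU hV)

/-- Sections of an inverse image over a compact trace come from a compact open. -/
theorem extend_trace (G : CohTop.Ab X) {U : Opens X} (hU : IsCompact (U : Set X))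
    (t : ((CohTop.pull i).obj G).obj.obj (op ((Opens.map i).obj U))) :
    ∃ (U' : Opens X) (h : ∀ z, i z ∈ U → i z ∈ U') (a : G.obj.obj (op U')),
      ∀ (z : Z) (hz : i z ∈ U), σi i G z (gm G a (i z) (h z hz)) = gm _ t z hz := by
  classical
  have hloc : ∀ z : i ⁻¹' (U : Set X), ∃ W : Opens X, IsCompact (W : Set X) ∧ i z.1 ∈ W ∧
      ∃ a : G.obj.obj (op W), ∀ (z' : Z) (h : i z' ∈ W) (h' : i z' ∈ U),
        σi i G z' (gm G a (i z') h) = gm _ t z' h' := by
    rintro ⟨z, hz⟩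
    obtain ⟨O, hzO, a, ha⟩ := TopCat.Presheaf.exists_germ_eq (C := AddCommGrpCat.{u}) (X := X)
      G.obj (back i G z (gm _ t z hz))
    have e : gm ((CohTop.pull i).obj G) (uni i G O a) z hzO = gm _ t z hz :=
      (σi_gm i G a z hzO).symm.trans ((congrArg (σi i G z) ha).trans (σi_back i G z _))
    obtain ⟨P, hP, hP', hzP, eP⟩ := exists_eq_near ((CohTop.pull i).obj G) _ t z hzO hz e
    obtain ⟨P₀, hP₀, eP₀⟩ := ht.ind.isOpen_iff.1 P.2
    obtain ⟨W, hWc, hzW, hW⟩ := exists_compact_nbhd (V := ⟨P₀, hP₀⟩ ⊓ O) (x := i z)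
      ⟨(Set.ext_iff.1 eP₀ z).2 hzP, hzO⟩
    refine ⟨W, hWc, hzW, rs G (hW.trans inf_le_right) a, fun z' h h' => ?_⟩
    have hz'P : z' ∈ P := (Set.ext_iff.1 eP₀ z').1 (hW h).1
    refine (congrArg (σi i G z') (gm_rs G _ a (i z') h)).trans ((σi_gm i G a z' (hW h).2).trans ?_)
    refine (gm_rs _ hP _ z' hz'P).symm.trans ?_
    rw [eP]
    exact gm_rs _ hP' t z' hz'P
  choose W hWc hzW a ha using hloc
  obtain ⟨σ, hσ⟩ := (isCompact_trace ht hU).elim_finite_subcover (fun z => i ⁻¹' (W z : Set X))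
    (fun z => (W z).2.preimage i.hom.continuous) fun z hz => Set.mem_iUnion.2 ⟨⟨z, hz⟩, hzW _⟩
  have key : ∀ σ : Finset (i ⁻¹' (U : Set X)), ∃ U' : Opens X, IsCompact (U' : Set X) ∧
      (∀ z, i z ∈ U → (∃ k ∈ σ, i z ∈ W k) → i z ∈ U') ∧ ∃ b : G.obj.obj (op U'),
        ∀ (z : Z) (h : i z ∈ U') (h' : i z ∈ U), σi i G z (gm G b (i z) h) = gm _ t z h' := by
    intro σ
    induction σ using Finset.induction with
    | empty => exact ⟨⊥, isCompact_empty, fun z _ hz => absurd hz (by simp), 0, fun z h => absurd h id⟩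
    | insert k σ hk ih =>
      obtain ⟨U', hc, hcov, b, hb⟩ := ih
      let K : Set X := i '' {z | i z ∈ U' ⊓ W k ⊓ U}
      obtain ⟨P, hP, hP', hKP, eP⟩ := exists_eq_near_set G b (a k) K
        (by rintro _ ⟨z, hz, rfl⟩; exact hz.1.1) (by rintro _ ⟨z, hz, rfl⟩; exact hz.1.2)
        (by
          rintro _ ⟨z, hz, rfl⟩
          exact (σi_bijective i G z).1 ((hb z hz.1.1 hz.2).trans (ha k z hz.1.2 hz.2).symm))
      obtain ⟨V, hVc, hV, hle⟩ := ht.key (U' ⊓ W k ⊓ U)
        (isCompact_inf (isCompact_inf hc (hWc k)) hU) P fun z hz => hKP ⟨z, hz, rfl⟩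
      let V' := V ⊓ U
      have hV'c : IsCompact (V' : Set X) := isCompact_inf hVc hU
      obtain ⟨s, hs₁, hs₂⟩ := exists_glue₂ G (rs G (inf_le_left : U' ⊓ V' ≤ U') b)
        (rs G (inf_le_left : W k ⊓ V' ≤ W k) (a k)) fun x hx hx' => by
          have hxP : x ∈ P := hle ⟨⟨⟨hx.1, hx'.1⟩, hx.2.2⟩, hx.2.1⟩
          refine (gm_rs G _ b x hx).trans (Eq.trans ?_ (gm_rs G _ (a k) x hx').symm)
          exact ((gm_rs G hP b x hxP).symm.trans (congrArg (fun c => gm G c x hxP) eP)).trans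
            (gm_rs G hP' (a k) x hxP)
      let U₁ : Opens X := U' ⊓ V' ⊔ W k ⊓ V'
      refine ⟨U₁, (isCompact_inf hc hV'c).union (isCompact_inf (hWc k) hV'c), ?_, s, ?_⟩
      · rintro z hzU ⟨j, hj, hz⟩
        rcases Finset.mem_insert.1 hj with rfl | hj
        · exact Or.inr ⟨hz, hV z, hzU⟩
        · exact Or.inl ⟨hcov z hzU ⟨j, hj, hz⟩, hV z, hzU⟩
      · intro z h h'
        rcases h with h₁ | h₁
        · exact (congrArg (σi i G z) ((hs₁ _ h₁).trans (gm_rs G _ b _ h₁))).trans (hb z h₁.1 h')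
        · exact (congrArg (σi i G z) ((hs₂ _ h₁).trans (gm_rs G _ (a k) _ h₁))).trans (ha k z h₁.1 h')
  obtain ⟨U', -, hcov, b, hb⟩ := key σ
  refine ⟨U', fun z hz => hcov z hz ?_, b, fun z hz => hb z _ hz⟩
  obtain ⟨k, hk, hk'⟩ := Set.mem_iUnion₂.1 (hσ (show z ∈ i ⁻¹' (U : Set X) from hz))
  exact ⟨k, hk, hk'⟩

/-- Inverse images of flasque sheaves are qc-flasque. -/
theorem qcFlasque_pull (G : CohTop.Ab X) [TopCat.Sheaf.IsFlasque G] :
    QcFlasque ((CohTop.pull i).obj G) := by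
  intro o V h hc t
  obtain ⟨U, hU, rfl⟩ := exists_trace_eq ht.ind hc
  obtain ⟨U', hU', a, ha⟩ := extend_trace ht G hU t
  obtain ⟨a', ha'⟩ := (AddCommGrpCat.epi_iff_surjective (G.obj.map (homOfLE (le_top : U' ≤ ⊤)).op)).1
    inferInstance a
  refine ⟨rs _ (show V ≤ (Opens.map i).obj (⊤ : Opens X) from fun _ _ => trivial) (uni i G ⊤ a'), ?_⟩
  refine TopCat.Presheaf.section_ext _ _ _ _ fun z hz => ?_
  refine ((gm_rs _ h _ z hz).trans (gm_rs _ _ _ z (h hz))).trans ?_
  refine (σi_gm i G a' z trivial).symm.trans ((congrArg (σi i G z) ?_).trans (ha z hz))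
  exact (gm_rs G le_top a' (i z) (hU' z hz)).symm.trans
    (congrArg (fun c => gm G c (i z) (hU' z hz)) ha')

/-- Global sections of an inverse image come from a neighbourhood. -/
theorem exists_section_near (G : CohTop.Ab X)
    (t : ((CohTop.pull i).obj G).obj.obj (op ⊤)) :
    ∃ (U : Opens X) (hU : ∀ z, i z ∈ U) (a : G.obj.obj (op U)), uniZ G U hU a = t := by
  obtain ⟨U', hU', a, ha⟩ := extend_trace ht G (U := ⊤) isCompact_univ t
  refine ⟨U', fun z => hU' z trivial, a, TopCat.Presheaf.section_ext _ _ _ _ fun z hz => ?_⟩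
  exact (gm_uniZ G U' _ a z hz).trans (ha z trivial)

omit ht

theorem goodClass_qcFlasque {T : TopCat.{u}} [PrespectralSpace T] [QuasiSeparatedSpace T]
    [CompactSpace T] : GoodClass (Γt T) (fun F => QcFlasque F) where
  of_injective F hF := by
    have : Injective (C := CohTop.Ab T) F := hF
    have := Flasque.isFlasque_of_injective F
    intro U V h _
    exact (AddCommGrpCat.epi_iff_surjective _).1
      (TopCat.Presheaf.IsFlasque.epi (F := F.obj) (homOfLE h).op)
  coker S hS h₁ h₂ := QcFlasque.quot hS h₁ h₂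
  epi S hS h₁ := (AddCommGrpCat.epi_iff_surjective _).2
    (QcFlasque.sections_surjective hS h₁ (U := ⊤) isCompact_univ)

variable {F : CohTop.Ab X} (R : Res F) (hR : ∀ n, TopCat.Sheaf.IsFlasque (R.K.X n))
  {L : Res ((CohTop.pull i).obj F)} (hL : ∀ n, TopCat.Sheaf.IsFlasque (L.K.X n))
  (φ : (pullRes (i := i) R).K ⟶ L.K) (hφ : (pullRes (i := i) R).ι ≫ φ = L.ι)

include ht hR hL hφ in
theorem quasiIso_comparison : QuasiIso (((Γt Z).mapHomologicalComplex _).map φ) := by
  have := compactSpace ht; have := prespectralSpace ht; have := quasiSeparatedSpace ht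
  let J := injectiveResolution ((CohTop.pull i).obj F)
  let R' := pullRes (i := i) R
  have q₁ := quasiIso_map_desc (goodClass_qcFlasque (T := Z)) R'
    (fun n => @qcFlasque_pull X Z i ht _ _ _ (R.K.X n) (hR n)) J
  have q₂ := quasiIso_map_desc (goodClass_qcFlasque (T := Z)) L (fun n => by
    have := hL n
    intro U V h _
    exact (AddCommGrpCat.epi_iff_surjective _).1
      (TopCat.Presheaf.IsFlasque.epi (F := (L.K.X n).obj) (homOfLE h).op)) J
  obtain ⟨H⟩ := R'.nonempty_homotopy J (φ ≫ L.desc (𝟙 _) J) (R'.desc (𝟙 _) J) (by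
    rw [← Category.assoc, hφ, L.ι_desc, R'.ι_desc])
  have : QuasiIso (((Γt Z).mapHomologicalComplex _).map (φ ≫ L.desc (𝟙 _) J)) := by
    rw [quasiIso_iff]
    intro n
    rw [quasiIsoAt_iff_isIso_homologyMap, ((Γt Z).mapHomotopy H).homologyMap_eq]
    infer_instance
  rw [Functor.map_comp] at this
  exact quasiIso_of_comp_right _ (((Γt Z).mapHomologicalComplex _).map (L.desc (𝟙 _) J))

include ht hR hL hφ in
/-- Cocycles on the subspace come from cocycles near it. -/
theorem exists_lift (n : ℕ) (z : (L.K.X n).obj.obj (op ⊤))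
    (hz : (L.K.d n (n + 1)).hom.app (op ⊤) z = 0) :
    ∃ (U : Opens X) (hU : ∀ z, i z ∈ U) (y : (R.K.X n).obj.obj (op U)),
      (R.K.d n (n + 1)).hom.app (op U) y = 0 ∧
      ∃ w, (L.K.d ((ComplexShape.up ℕ).prev n) n).hom.app (op ⊤) w = cmpU R φ n U hU y - z := by
  let KZ := ((Γt Z).mapHomologicalComplex _).obj (pullRes (i := i) R).K
  let LZ := ((Γt Z).mapHomologicalComplex _).obj L.K
  let Φ : KZ ⟶ LZ := ((Γt Z).mapHomologicalComplex _).map φ
  have := quasiIso_comparison ht R hR hL φ hφ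
  have hiso : IsIso (HomologicalComplex.homologyMap Φ n) :=
    (quasiIsoAt_iff_isIso_homologyMap _ n).1 inferInstance
  obtain ⟨zc, hzc⟩ := Descent.TotExact.exists_cycles LZ (CochainComplex.next ℕ n) z hz
  obtain ⟨γ, hγ⟩ := ((ConcreteCategory.bijective_of_isIso (HomologicalComplex.homologyMap Φ n)).2
    (LZ.homologyπ n zc))
  obtain ⟨tc, rfl⟩ := Descent.TotExact.homologyπ_surjective KZ n γ
  rw [← ConcreteCategory.comp_apply, HomologicalComplex.homologyπ_naturality,
    ConcreteCategory.comp_apply, ← sub_eq_zero, ← map_sub,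
    Descent.TotExact.homologyπ_eq_zero_iff LZ rfl] at hγ
  obtain ⟨w, hw⟩ := hγ
  set t : KZ.X n := KZ.iCycles n tc with htt
  have htd : KZ.d n (n + 1) t = 0 := by
    rw [htt, ← ConcreteCategory.comp_apply, HomologicalComplex.iCycles_d]; rfl
  obtain ⟨U, hU, y, hy⟩ := exists_section_near ht (R.K.X n) t
  obtain ⟨W, hWU, hWU₂, hW, eW⟩ := exists_eq_near_of_uni i (R.K.X (n + 1)) hU hU
    ((R.K.d n (n + 1)).hom.app (op U) y) 0 (by
      show uniZ (R.K.X (n + 1)) U hU _ = uniZ (R.K.X (n + 1)) U hU 0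
      rw [uniZ_zero, ← uniZ_nat]
      exact (congrArg _ hy).trans htd)
  refine ⟨W, hW, rs _ hWU y, ?_, w, ?_⟩
  · exact (ConcreteCategory.congr_hom ((R.K.d n (n + 1)).hom.naturality (homOfLE hWU).op) y).trans
      (eW.trans (map_zero _))
  · refine hw.trans ?_
    rw [map_sub, hzc, ← ConcreteCategory.comp_apply, HomologicalComplex.cyclesMap_i,
      ConcreteCategory.comp_apply, cmpU, uniZ_rs _ hWU hU hW]
    exact congrArg (fun s => (φ.f n).hom.app (op ⊤) s - z) hy.symm

include ht hR hL hφ in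
/-- A cocycle near the subspace which is exact on it is exact nearby. -/
theorem exists_near (n : ℕ) (U : Opens X) (hU : ∀ z, i z ∈ U)
    (y : (R.K.X n).obj.obj (op U)) (hy : (R.K.d n (n + 1)).hom.app (op U) y = 0)
    (w : (L.K.X ((ComplexShape.up ℕ).prev n)).obj.obj (op ⊤))
    (hw : (L.K.d _ n).hom.app (op ⊤) w = cmpU R φ n U hU y) :
    ∃ (U' : Opens X) (h : U' ≤ U) (_ : ∀ z, i z ∈ U')
      (v : (R.K.X ((ComplexShape.up ℕ).prev n)).obj.obj (op U')),
      (R.K.d _ n).hom.app (op U') v = rs _ h y := by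
  let KZ := ((Γt Z).mapHomologicalComplex _).obj (pullRes (i := i) R).K
  let LZ := ((Γt Z).mapHomologicalComplex _).obj L.K
  let Φ : KZ ⟶ LZ := ((Γt Z).mapHomologicalComplex _).map φ
  have := quasiIso_comparison ht R hR hL φ hφ
  have hiso : IsIso (HomologicalComplex.homologyMap Φ n) :=
    (quasiIsoAt_iff_isIso_homologyMap _ n).1 inferInstance
  set t : KZ.X n := uniZ (R.K.X n) U hU y
  have htd : KZ.d n (n + 1) t = 0 :=
    (uniZ_nat (R.K.d n (n + 1)) U hU y).trans
      ((congrArg (uniZ (R.K.X (n + 1)) U hU) hy).trans (uniZ_zero _ U hU))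
  obtain ⟨tc, htc⟩ := Descent.TotExact.exists_cycles KZ (CochainComplex.next ℕ n) t htd
  have h0 : KZ.homologyπ n tc = 0 := by
    apply (ConcreteCategory.bijective_of_isIso (HomologicalComplex.homologyMap Φ n)).1
    rw [map_zero, ← ConcreteCategory.comp_apply, HomologicalComplex.homologyπ_naturality,
      ConcreteCategory.comp_apply, Descent.TotExact.homologyπ_eq_zero_iff LZ rfl]
    refine ⟨w, hw.trans ?_⟩
    rw [← ConcreteCategory.comp_apply, HomologicalComplex.cyclesMap_i, ConcreteCategory.comp_apply,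
      htc]
    rfl
  obtain ⟨s, hs'⟩ := (Descent.TotExact.homologyπ_eq_zero_iff KZ rfl tc).1 h0
  rw [htc] at hs'
  obtain ⟨U₁, hU₁, v, hv⟩ := exists_section_near ht (R.K.X ((ComplexShape.up ℕ).prev n)) s
  obtain ⟨W, hW₁, hW, hWz, eW⟩ := exists_eq_near_of_uni i (R.K.X n) hU₁ hU
    ((R.K.d _ n).hom.app (op U₁) v) y (by
      show uniZ (R.K.X n) U₁ hU₁ _ = uniZ (R.K.X n) U hU y
      rw [← uniZ_nat]
      exact (congrArg _ hv).trans hs')
  exact ⟨W, hW, hWz, rs _ hW₁ v,
    (ConcreteCategory.congr_hom ((R.K.d _ n).hom.naturality (homOfLE hW₁).op) v).trans eW⟩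

section Stalk

variable {X Y Z : TopCat.{u}} (f : X ⟶ Y) (y : Y) (i : Z ⟶ X) (hyi : ∀ (z : Z) (V : Opens Y), y ∈ V → f (i z) ∈ V)

include hyi in
theorem mem_preimage {V : Opens Y} (hV : y ∈ V) (z : Z) : i z ∈ (Opens.map f).obj V :=
  hyi z V hV

/-- The comparison in one degree. -/
noncomputable def θ {G : CohTop.Ab X} {H : CohTop.Ab Z} (φ : (CohTop.pull i).obj G ⟶ H) :
    TopCat.Presheaf.stalk (C := AddCommGrpCat.{u}) (X := Y) ((CohTop.push f).obj G).obj y ⟶
      H.obj.obj (op ⊤) :=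
  colimit.desc _ ((show Cocone ((OpenNhds.inclusion y).op ⋙ ((CohTop.push f).obj G).obj) from
    { pt := H.obj.obj (op ⊤)
      ι :=
        { app := fun V => AddCommGrpCat.ofHom (AddMonoidHom.mk'
            (fun s => φ.hom.app (op ⊤)
              (uniZ G ((Opens.map f).obj V.unop.1) (mem_preimage f y i hyi V.unop.2) s))
            fun a b => (congrArg (φ.hom.app (op ⊤))
              ((congrArg (rs _ _) (map_add (uni i G _).hom a b)).trans (map_add _ _ _))).trans
                (map_add _ _ _))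
          naturality := fun V W k => ConcreteCategory.hom_ext _ _ fun s =>
            congrArg (φ.hom.app (op ⊤)) (uniZ_rs G
              (fun _ hx => (leOfHom k.unop) hx : (Opens.map f).obj W.unop.1 ≤ (Opens.map f).obj V.unop.1)
              (mem_preimage f y i hyi V.unop.2) (mem_preimage f y i hyi W.unop.2) s) } }))

theorem θ_germ {G : CohTop.Ab X} {H : CohTop.Ab Z} (φ : (CohTop.pull i).obj G ⟶ H)
    (V : Opens Y) (hV : y ∈ V) (s : G.obj.obj (op ((Opens.map f).obj V))) :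
    θ f y i hyi φ (TopCat.Presheaf.germ ((CohTop.push f).obj G).obj V y hV s) =
      φ.hom.app (op ⊤) (uniZ G ((Opens.map f).obj V) (mem_preimage f y i hyi hV) s) := by
  unfold θ TopCat.Presheaf.germ
  erw [colimit.ι_desc_apply]
  rfl

theorem θ_nat {G G' : CohTop.Ab X} {H H' : CohTop.Ab Z} (φ : (CohTop.pull i).obj G ⟶ H)
    (φ' : (CohTop.pull i).obj G' ⟶ H') (a : G ⟶ G') (b : H ⟶ H')
    (w : φ ≫ b = (CohTop.pull i).map a ≫ φ') :
    θ f y i hyi φ ≫ b.hom.app (op ⊤) =
      (Stf y).map ((CohTop.push f).map a) ≫ θ f y i hyi φ' := by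
  refine TopCat.Presheaf.stalk_hom_ext _ fun V hV => ?_
  refine ConcreteCategory.hom_ext _ _ fun s => ?_
  refine (congrArg (b.hom.app (op ⊤)) (θ_germ f y i hyi φ V hV s)).trans (Eq.trans ?_
    (congrArg (θ f y i hyi φ') (TopCat.Presheaf.stalkFunctor_map_germ_apply V y hV
      ((CohTop.push f).map a).hom s)).symm)
  refine Eq.trans ?_ (θ_germ f y i hyi φ' V hV _).symm
  refine (ConcreteCategory.congr_hom (congrArg (fun ψ => ψ.hom.app (op ⊤)) w)
    (uniZ G ((Opens.map f).obj V) (mem_preimage f y i hyi hV) s)).trans ?_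
  exact congrArg (φ'.hom.app (op ⊤)) (uniZ_nat a _ _ s)

variable {F : CohTop.Ab X} (R : Res F) {L : Res ((CohTop.pull i).obj F)}
  (φ : (pullRes (i := i) R).K ⟶ L.K)

/-- The comparison of complexes. -/
noncomputable def θcx :
    ((Stf y).mapHomologicalComplex _).obj (((CohTop.push f).mapHomologicalComplex _).obj R.K) ⟶
      ((Γt Z).mapHomologicalComplex _).obj L.K where
  f n := θ f y i hyi (φ.f n)
  comm' n m _ := θ_nat f y i hyi (φ.f n) (φ.f m) (R.K.d n m) (L.K.d n m) (φ.comm n m)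

theorem θcx_f (n : ℕ) : (θcx f y i hyi R φ).f n = θ f y i hyi (φ.f n) := rfl

variable [PrespectralSpace X] [QuasiSeparatedSpace X] [CompactSpace X] {i}

theorem quasiIso_θcx (ht : Trace i) (hbase : ∀ U : Opens X, (∀ z, i z ∈ U) →
      ∃ V : Opens Y, y ∈ V ∧ (Opens.map f).obj V ≤ U)
    (hR : ∀ n, TopCat.Sheaf.IsFlasque (R.K.X n)) (hL : ∀ n, TopCat.Sheaf.IsFlasque (L.K.X n))
    (hφ : (pullRes (i := i) R).ι ≫ φ = L.ι) : QuasiIso (θcx f y i hyi R φ) := by
  have hnext : ∀ n m (V : Opens Y) (hV : y ∈ V) (s : (R.K.X n).obj.obj (op ((Opens.map f).obj V))),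
      (((Stf y).mapHomologicalComplex _).obj (((CohTop.push f).mapHomologicalComplex _).obj R.K)).d n m
        (TopCat.Presheaf.germ ((CohTop.push f).obj (R.K.X n)).obj V y hV s) =
      TopCat.Presheaf.germ ((CohTop.push f).obj (R.K.X m)).obj V y hV
        ((R.K.d n m).hom.app (op ((Opens.map f).obj V)) s) := fun n m V hV s =>
    TopCat.Presheaf.stalkFunctor_map_germ_apply V y hV ((CohTop.push f).map (R.K.d n m)).hom s
  refine quasiIso_of_elements _ (fun n z hz => ?_) (fun n a w ha hw => ?_)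
  · obtain ⟨U, hU, s, hs0, w, hw⟩ := SpectralNbhd.exists_lift ht R hR hL φ hφ n z hz
    obtain ⟨V, hV, hle⟩ := hbase U hU
    refine ⟨TopCat.Presheaf.germ ((CohTop.push f).obj (R.K.X n)).obj V y hV
      (rs (R.K.X n) hle s), w, ?_, ?_⟩
    · refine (hnext n (n + 1) V hV _).trans ?_
      have h0 : (R.K.d n (n + 1)).hom.app (op ((Opens.map f).obj V)) (rs (R.K.X n) hle s) = 0 :=
        (ConcreteCategory.congr_hom ((R.K.d n (n + 1)).hom.naturality (homOfLE hle).op) s).trans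
          ((congrArg (rs _ hle) hs0).trans (map_zero _))
      exact (congrArg _ h0).trans (map_zero _)
    · refine hw.trans (congrArg (· - z) ?_)
      refine Eq.trans ?_ (θ_germ f y i hyi (φ.f n) V hV _).symm
      exact congrArg ((φ.f n).hom.app (op ⊤)) (uniZ_rs (R.K.X n) hle hU _ s).symm
  · obtain ⟨V, hV, s, rfl⟩ :=
      TopCat.Presheaf.exists_germ_eq ((CohTop.push f).obj (R.K.X n)).obj a
    have ha' := (hnext n (n + 1) V hV s).symm.trans ha
    obtain ⟨V₁, hV₁, i₁, i₂, h₁⟩ := TopCat.Presheaf.germ_eq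
      (F := ((CohTop.push f).obj (R.K.X (n + 1))).obj) y hV hV
      ((R.K.d n (n + 1)).hom.app (op ((Opens.map f).obj V)) s) 0 (ha'.trans (map_zero _).symm)
    have hle₁ : (Opens.map f).obj V₁ ≤ (Opens.map f).obj V := fun _ hx => (leOfHom i₁) hx
    have hs₁ : (R.K.d n (n + 1)).hom.app (op ((Opens.map f).obj V₁)) (rs (R.K.X n) hle₁ s) = 0 :=
      (ConcreteCategory.congr_hom ((R.K.d n (n + 1)).hom.naturality (homOfLE hle₁).op) s).trans
        (h₁.trans (map_zero _))
    have hw' : (L.K.d _ n).hom.app (op ⊤) w =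
        cmpU R φ n ((Opens.map f).obj V₁) (mem_preimage f y i hyi hV₁) (rs (R.K.X n) hle₁ s) :=
      hw.trans ((θ_germ f y i hyi (φ.f n) V hV s).trans
        (congrArg ((φ.f n).hom.app (op ⊤)) (uniZ_rs (R.K.X n) hle₁ _ _ s).symm))
    obtain ⟨U', hle', hU', v, hv⟩ := SpectralNbhd.exists_near ht R hR hL φ hφ n _
      (mem_preimage f y i hyi hV₁) (rs (R.K.X n) hle₁ s) hs₁ w hw'
    obtain ⟨V', hV', hle''⟩ := hbase U' hU'
    refine ⟨TopCat.Presheaf.germ ((CohTop.push f).obj (R.K.X _)).obj V' y hV'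
      (rs (R.K.X _) hle'' v), ?_⟩
    refine (hnext _ n V' hV' _).trans ?_
    have hVV : V' ⊓ V₁ ≤ V' := inf_le_left
    have h2 : (R.K.d ((ComplexShape.up ℕ).prev n) n).hom.app (op ((Opens.map f).obj V'))
        (rs (R.K.X _) hle'' v) = rs (R.K.X n) (hle''.trans (hle'.trans hle₁)) s := by
      refine (ConcreteCategory.congr_hom
        ((R.K.d ((ComplexShape.up ℕ).prev n) n).hom.naturality (homOfLE hle'').op) v).trans ?_
      exact (congrArg (rs (R.K.X n) hle'') hv).trans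
        ((rs_rs _ hle' hle'' _).trans (rs_rs _ hle₁ _ s))
    refine (congrArg _ h2).trans ?_
    have e1 := TopCat.Presheaf.germ_res_apply ((CohTop.push f).obj (R.K.X n)).obj
      (homOfLE (inf_le_left : V' ⊓ V ≤ V')) y ⟨hV', hV⟩
      (rs (R.K.X n) (hle''.trans (hle'.trans hle₁)) s)
    have e2 := TopCat.Presheaf.germ_res_apply ((CohTop.push f).obj (R.K.X n)).obj
      (homOfLE (inf_le_right : V' ⊓ V ≤ V)) y ⟨hV', hV⟩ s
    refine e1.symm.trans (Eq.trans (congrArg _ ?_) e2)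
    exact rs_rs (R.K.X n) (hle''.trans (hle'.trans hle₁))
      ((fun _ hx => hx.1) : (Opens.map f).obj (V' ⊓ V) ≤ (Opens.map f).obj V') s

end Stalk

section StalkIso

variable {X Y Z : TopCat.{u}} (f : X ⟶ Y) (y : Y) {i : Z ⟶ X}
  (hyi : ∀ (z : Z) (V : Opens Y), y ∈ V → f (i z) ∈ V)
  [PrespectralSpace X] [QuasiSeparatedSpace X] [CompactSpace X]

include hyi in
/-- The stalk of a higher direct image. -/
theorem nonempty_stalk_iso (ht : Trace i)
    (hbase : ∀ U : Opens X, (∀ z, i z ∈ U) → ∃ V : Opens Y, y ∈ V ∧ (Opens.map f).obj V ≤ U)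
    (F : CohTop.Ab X) (p : ℕ) : Nonempty (CohTop.stalk ((CohTop.Rpush f p).obj F) y ≅
      AddCommGrpCat.of (CohTop.H ((CohTop.pull i).obj F) p)) := by
  let J := injectiveResolution F
  let J' := injectiveResolution ((CohTop.pull i).obj F)
  let φ := (pullRes (i := i) (ofInj J)).desc (𝟙 _) J'
  have hφ : (pullRes (i := i) (ofInj J)).ι ≫ φ = (ofInj J').ι := by
    refine (Res.ι_desc _ _ _).trans ?_
    rw [CategoryTheory.Functor.map_id, Category.id_comp]
  have := SpectralNbhd.quasiIso_θcx f y hyi (ofInj J) φ (L := ofInj J') ht hbase (isFlasque_ofInj J)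
    (isFlasque_ofInj J') hφ
  let θ₀ := SpectralNbhd.θcx f y i hyi (ofInj J) φ (L := ofInj J')
  have hq : IsIso (HomologicalComplex.homologyMap θ₀ p) :=
    (quasiIsoAt_iff_isIso_homologyMap θ₀ p).1 inferInstance
  obtain ⟨e⟩ := nonempty_homology_iso_H (ofInj J') (isFlasque_ofInj J') p
  let M := ((CohTop.push f).mapHomologicalComplex (ComplexShape.up ℕ)).obj J.cocomplex
  exact ⟨(Stf y).mapIso (J.isoRightDerivedObj (CohTop.push f) p) ≪≫
    ((M.sc p).mapHomologyIso (Stf y)).symm ≪≫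
    @asIso _ _ _ _ (HomologicalComplex.homologyMap θ₀ p) hq ≪≫ e⟩

end StalkIso

end Groth.Agent.CohTop.SpectralNbhd
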