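import Groth.Agent.CohTop.Spectral
import Groth.Agent.S0468

/-!
# Subsheaves given by subgroups of the stalks

* `sub A`: the sections whose germs lie in `A`.
* `stepSES`: for a map `g : P ⟶ F` with `A` generated by `A'` and the image of `g`, the sequences
  `0 → sub A' → sub A → Q → 0` and `0 → sub (A'.comap g) → P → Q → 0`.
* `C.union`: a property closed under filtered colimits passes to directed unions.
-/

set_option autoImplicit false

universe u

open CategoryTheory CategoryTheory.Limits Opposite TopologicalSpace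

namespace Groth.Agent.CohTop.SubStalk

open Groth.Agent.CohTop.Basic Groth.Agent.CohTop.Vanishing
open Groth.Agent.CohTop.Spectral (St gm gm_rs exists_rs_eq_zero exists_compact_nbhd)

variable {X : TopCat.{u}} {F : CohTop.Ab X}

lemma exists_germ (y : X) (t : St F y) : ∃ (V : Opens X) (hy : y ∈ V) (s : F.obj.obj (op V)),
    gm F y hy s = t :=
  TopCat.Presheaf.exists_germ_eq (C := AddCommGrpCat.{u}) (X := X) F.obj t

lemma eq_of_gm {U : Opens X} (y : X) (hy : y ∈ U) (s s' : F.obj.obj (op U))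
    (h : gm F y hy s = gm F y hy s') :
    ∃ (V : Opens X) (hV : V ≤ U), y ∈ V ∧ rs F hV s = rs F hV s' := by
  obtain ⟨V, hV, hyV, e⟩ := exists_rs_eq_zero F y hy (s - s') (by rw [map_sub, h, sub_self])
  exact ⟨V, hV, hyV, sub_eq_zero.1 ((map_sub _ _ _).symm.trans e)⟩

/-- The stalk map of a morphism. -/
noncomputable abbrev stm {P : CohTop.Ab X} (g : P ⟶ F) (y : X) : St P y →+ St F y :=
  ((TopCat.Presheaf.stalkFunctor AddCommGrpCat.{u} y).map g.hom).hom

lemma stm_gm {P : CohTop.Ab X} (g : P ⟶ F) {U : Opens X} (y : X) (hy : y ∈ U) (s : P.obj.obj (op U)) :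
    stm g y (gm P y hy s) = gm F y hy ((g.hom.app (op U)).hom s) :=
  TopCat.Presheaf.stalkFunctor_map_germ_apply U y hy g.hom s

variable (A : ∀ y : X, AddSubgroup (St F y))

/-- Sections with germs in `A`. -/
noncomputable def sec (U : Opens X) : AddSubgroup (F.obj.obj (op U)) where
  carrier := {s | ∀ (y : X) (hy : y ∈ U), gm F y hy s ∈ A y}
  zero_mem' y hy := by rw [map_zero]; exact zero_mem _
  add_mem' {a b} ha hb y hy := by rw [map_add]; exact add_mem (ha y hy) (hb y hy)
  neg_mem' {a} ha y hy := by rw [map_neg]; exact neg_mem (ha y hy)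

lemma rs_mem {U V : Opens X} (h : V ≤ U) {s : F.obj.obj (op U)} (hs : s ∈ sec A U) :
    rs F h s ∈ sec A V := fun y hy => by
  rw [gm_rs]; exact hs y (h hy)

/-- The presheaf. -/
noncomputable def subPre : TopCat.Presheaf AddCommGrpCat.{u} X where
  obj V := AddCommGrpCat.of (sec A V.unop)
  map {U V} i := AddCommGrpCat.ofHom
    (((rs F (leOfHom i.unop)).comp (sec A U.unop).subtype).codRestrict (sec A V.unop)
      fun s => rs_mem A _ s.2)
  map_id U := by
    ext s
    exact rs_refl F s.1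
  map_comp {U V W} i j := by
    ext s
    exact (rs_rs F (leOfHom i.unop) (leOfHom j.unop) s.1).symm

theorem isSheaf_subPre : (subPre A).IsSheaf := by
  rw [TopCat.Presheaf.isSheaf_iff_isSheafUniqueGluing]
  intro κ U sf h
  obtain ⟨t, ht, huniq⟩ := TopCat.Sheaf.existsUnique_gluing F U (fun k => (sf k).1)
    fun i j => congrArg Subtype.val (h i j)
  refine ⟨⟨t, fun y hy => ?_⟩, fun k => Subtype.ext (ht k), fun t' ht' => Subtype.ext
    (huniq t'.1 fun k => congrArg Subtype.val (ht' k))⟩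
  obtain ⟨k, hk⟩ := Opens.mem_iSup.1 hy
  rw [← gm_rs F (le_iSup U k) y hk t]
  exact (congrArg (gm F y hk) (ht k)).symm ▸ (sf k).2 y hk

/-- The subsheaf. -/
noncomputable def sub : CohTop.Ab X := ⟨subPre A, isSheaf_subPre A⟩

/-- The inclusion. -/
noncomputable def subι : sub A ⟶ F :=
  ⟨{ app := fun V => AddCommGrpCat.ofHom (sec A V.unop).subtype
     naturality := fun {U V} i => by ext s; rfl }⟩

variable {A} {A' : ∀ y : X, AddSubgroup (St F y)}

/-- The inclusion of subsheaves. -/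
noncomputable def subLE (h : ∀ y, A' y ≤ A y) : sub A' ⟶ sub A :=
  ⟨{ app := fun V => AddCommGrpCat.ofHom
      (AddMonoidHom.mk' (fun s => (⟨s.1, fun y hy => h y (s.2 y hy)⟩ : sec A V.unop)) fun _ _ => rfl)
     naturality := fun {U V} i => by ext s; rfl }⟩

lemma mono_of_injective {M N : CohTop.Ab X} (φ : M ⟶ N)
    (h : ∀ V : Opens X, Function.Injective (φ.hom.app (op V)).hom) : Mono φ :=
  (sheafToPresheaf _ _).mono_of_mono_map (by
    have : ∀ V, Mono (((sheafToPresheaf _ _).map φ).app V) := fun V =>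
      (AddCommGrpCat.mono_iff_injective _).2 (h V.unop)
    exact NatTrans.mono_of_mono_app _)

lemma epi_of_locally {M N : CohTop.Ab X} (φ : M ⟶ N)
    (h : ∀ (V : Opens X) (t : N.obj.obj (op V)), ∀ x ∈ V, ∃ (W : Opens X) (hW : W ≤ V), x ∈ W ∧
      ∃ s, (φ.hom.app (op W)).hom s = rs N hW t) : Epi φ :=
  (CategoryTheory.Sheaf.isLocallySurjective_iff_epi' AddCommGrpCat.{u} φ).1
    ((TopCat.Presheaf.isLocallySurjective_iff φ.hom).2 fun V t x hx => by
      obtain ⟨W, hW, hxW, s, hs⟩ := h V t x hx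
      exact ⟨W, hW, ⟨s, hs⟩, hxW⟩)

lemma exact_of_sections {S : ShortComplex (CohTop.Ab X)}
    (h : ∀ (V : Opens X) (s : S.X₂.obj.obj (op V)), (S.g.hom.app (op V)).hom s = 0 → ∀ x ∈ V,
      ∃ (W : Opens X) (hW : W ≤ V), x ∈ W ∧ ∃ t, (S.f.hom.app (op W)).hom t = rs S.X₂ hW s) :
    S.Exact := by
  refine (TopCat.Sheaf.exact_iff_stalkFunctor_map_exact (C := AddCommGrpCat.{u}) (X := X) S).2
    fun y => ?_
  rw [ShortComplex.ab_exact_iff]
  intro t ht
  obtain ⟨V, hy, b, rfl⟩ := exists_germ (F := S.X₂) y t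
  obtain ⟨V', hV', hyV', e⟩ := exists_rs_eq_zero S.X₃ y hy ((S.g.hom.app (op V)).hom b)
    ((stm_gm S.g y hy b).symm.trans ht)
  obtain ⟨W, hW, hyW, a, ha⟩ := h V' (rs S.X₂ hV' b) ((rs_app S.g hV' b).trans e) y hyV'
  refine ⟨gm S.X₁ y hyW a, ?_⟩
  refine (stm_gm S.f y hyW a).trans ?_
  rw [ha, gm_rs, gm_rs]

lemma mono_subι : Mono (subι A) := mono_of_injective _ fun V a b h => Subtype.ext h

lemma mono_subLE (h : ∀ y, A' y ≤ A y) : Mono (subLE h) :=
  mono_of_injective _ fun V a b e => Subtype.ext (by have h1 := congrArg Subtype.val e; exact h1)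

/-- `A` is given by sections locally. -/
def IsLocal (A : ∀ y : X, AddSubgroup (St F y)) : Prop :=
  ∀ y, ∀ t ∈ A y, ∃ (V : Opens X) (hy : y ∈ V) (s : F.obj.obj (op V)),
    gm F y hy s = t ∧ s ∈ sec A V

variable (A) (A') {P : CohTop.Ab X} (g : P ⟶ F)

/-- The kernel family. -/
noncomputable abbrev kerFam : ∀ y : X, AddSubgroup (St P y) := fun y => (A' y).comap (stm g y)

variable {A A'}

lemma isLocal_kerFam (hA' : IsLocal A') : IsLocal (kerFam A' g) := fun y t ht => by
  obtain ⟨V, hy, s, rfl⟩ := exists_germ (F := P) y t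
  obtain ⟨V', hy', s', e, hs'⟩ := hA' y _ ht
  rw [stm_gm] at e
  obtain ⟨W, hW, hyW, e'⟩ := eq_of_gm y (show y ∈ V ⊓ V' from ⟨hy, hy'⟩)
    (rs F inf_le_left ((g.hom.app (op V)).hom s)) (rs F inf_le_right s') (by rw [gm_rs, gm_rs, e])
  refine ⟨W, hyW, rs P (hW.trans inf_le_left) s, gm_rs P _ y hyW s, fun z hz => ?_⟩
  show stm g z _ ∈ A' z
  rw [stm_gm, rs_app g, ← rs_rs F (inf_le_left : V ⊓ V' ≤ V) hW, e', rs_rs, gm_rs]
  exact hs' z _

variable (hA' : IsLocal A') (hle : ∀ y, A' y ≤ A y)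
  (hg : ∀ y t, stm g y t ∈ A y)
  (hgen : ∀ y, ∀ t ∈ A y, ∃ a ∈ A' y, ∃ p, t = a + stm g y p)

/-- The map to the subsheaf. -/
noncomputable def lift : P ⟶ sub A :=
  ⟨{ app := fun V => AddCommGrpCat.ofHom (((g.hom.app V).hom).codRestrict (sec A V.unop)
        fun s y hy => by
          have := hg y (gm P y hy s)
          rwa [stm_gm] at this)
     naturality := fun {U V} i => by
      ext s
      exact Subtype.ext (ConcreteCategory.congr_hom (g.hom.naturality i) s) }⟩

/-- The quotient. -/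
noncomputable abbrev Qt : CohTop.Ab X := cokernel (subLE hle)

/-- The first sequence. -/
noncomputable abbrev ses₁ : ShortComplex (CohTop.Ab X) :=
  ShortComplex.mk (subLE hle) (cokernel.π (subLE hle)) (cokernel.condition _)

lemma ses₁_shortExact : (ses₁ hle).ShortExact := by
  have := mono_subLE hle
  exact ShortComplex.ShortExact.mk' (ShortComplex.exact_cokernel _) inferInstance inferInstance

lemma comp_zero' : subι (kerFam A' g) ≫ lift g hg ≫ cokernel.π (subLE hle) = 0 := by
  have e : subι (kerFam A' g) ≫ lift g hg =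
      (⟨{ app := fun V => AddCommGrpCat.ofHom (AddMonoidHom.mk'
            (fun s => (⟨(g.hom.app V).hom s.1, fun y hy => by
              have := s.2 y hy
              rw [AddSubgroup.mem_comap, stm_gm] at this
              exact this⟩ : sec A' V.unop))
            fun a b => Subtype.ext (map_add (g.hom.app V).hom a.1 b.1))
          naturality := fun {U V} i => by
            ext s
            exact Subtype.ext (ConcreteCategory.congr_hom (g.hom.naturality i) s.1) }⟩ :
        sub (kerFam A' g) ⟶ sub A') ≫ subLE hle := by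
    apply CategoryTheory.Sheaf.hom_ext
    ext V s
    rfl
  rw [← Category.assoc, e, Category.assoc, cokernel.condition, comp_zero]

/-- The second sequence. -/
noncomputable abbrev ses₂ : ShortComplex (CohTop.Ab X) :=
  ShortComplex.mk (subι (kerFam A' g)) (lift g hg ≫ cokernel.π (subLE hle)) (comp_zero' g hle hg)

include hA' hgen in
lemma ses₂_shortExact : (ses₂ g hle hg).ShortExact := by
  refine ShortComplex.ShortExact.mk' (exact_of_sections fun V s hs x hx => ?_) (mono_subι)
    (epi_of_locally _ fun V q x hx => ?_)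
  · obtain ⟨t, ht⟩ := sections_exact (ses₁_shortExact hle) V
      (((lift g hg).hom.app (op V)).hom s) hs
    refine ⟨V, le_rfl, hx, ⟨s, fun y hy => ?_⟩, ?_⟩
    · rw [AddSubgroup.mem_comap, stm_gm]
      have e : (g.hom.app (op V)).hom s = t.1 := (congrArg Subtype.val ht).symm
      rw [e]
      exact t.2 y hy
    · exact (rs_refl P s).symm
  · obtain ⟨W, hW, hxW, σ, hσ⟩ := locally_lift (cokernel.π (subLE hle)) q hx
    obtain ⟨a, ha, p, hp⟩ := hgen x _ (σ.2 x hxW)
    obtain ⟨V₁, hx₁, s₁, rfl, hs₁⟩ := hA' x a ha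
    obtain ⟨V₂, hx₂, s₂, rfl⟩ := exists_germ (F := P) x p
    rw [stm_gm] at hp
    obtain ⟨W', hW', hxW', e⟩ := eq_of_gm x
      (show x ∈ W ⊓ (V₁ ⊓ V₂) from ⟨hxW, hx₁, hx₂⟩)
      (rs F inf_le_left σ.1)
      (rs F (inf_le_right.trans inf_le_left) s₁ +
        rs F (inf_le_right.trans inf_le_right) ((g.hom.app (op V₂)).hom s₂))
      (by rw [map_add, gm_rs, gm_rs, gm_rs]; exact hp)
    have h₀ : W' ≤ W := hW'.trans inf_le_left
    have h₁ : W' ≤ V₁ := hW'.trans (inf_le_right.trans inf_le_left)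
    have h₂ : W' ≤ V₂ := hW'.trans (inf_le_right.trans inf_le_right)
    rw [map_add, rs_rs, rs_rs, rs_rs] at e
    refine ⟨W', h₀.trans hW, hxW', rs P h₂ s₂, ?_⟩
    have eσ : ((lift g hg).hom.app (op W')).hom (rs P h₂ s₂) +
        ((subLE hle).hom.app (op W')).hom ⟨rs F h₁ s₁, rs_mem A' h₁ hs₁⟩ = rs (sub A) h₀ σ := by
      refine Subtype.ext ?_
      show (g.hom.app (op W')).hom (rs P h₂ s₂) + rs F h₁ s₁ = rs F h₀ σ.1
      rw [rs_app g, e, add_comm]
    show ((cokernel.π (subLE hle)).hom.app (op W')).hom (((lift g hg).hom.app (op W')).hom (rs P h₂ s₂)) = _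
    refine Eq.trans ?_ (((congrArg ((cokernel.π (subLE hle)).hom.app (op W')).hom eσ).trans
      (rs_app _ h₀ σ)).trans ((congrArg (rs _ h₀) hσ).trans (rs_rs _ _ _ _)))
    rw [map_add]
    refine (add_eq_left.2 ?_).symm
    exact ConcreteCategory.congr_hom
      (congr(($(cokernel.condition (subLE hle))).hom.app (op W'))) _

/-- Vanishing of cohomology above `d`. -/
def C (d : ℕ) (M : CohTop.Ab X) : Prop := ∀ p : ℕ, d < p → Subsingleton (CohTop.HU M p (⊤ : Opens X))

variable {d : ℕ}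

include hA' hgen hg hle in
/-- The step. -/
theorem C.step (h' : C d (sub A')) (hP : C d P) (hK : C d (sub (kerFam A' g))) : C d (sub A) := by
  have hQ : C d (Qt hle) := fun p hp => by
    refine subsingleton_of_forall_eq 0 fun x => ?_
    have := hK (p + 1) (by omega)
    have := hP p hp
    obtain ⟨y, hy⟩ := HU_exact₃ (ses₂_shortExact g hA' hle hg hgen) ⊤ (rfl : p + 1 = p + 1) x
      (@Subsingleton.elim (CohTop.HU (sub (kerFam A' g)) (p + 1) ⊤) (hK (p + 1) (by omega)) _ _)
    exact hy.symm.trans ((congrArg _ (@Subsingleton.elim (CohTop.HU P p ⊤) (hP p hp) y 0)).trans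
      (map_zero _))
  intro p hp
  refine subsingleton_of_forall_eq 0 fun x => ?_
  obtain ⟨y, hy⟩ := HU_exact₂ (ses₁_shortExact hle) ⊤ x
    (@Subsingleton.elim (CohTop.HU (Qt hle) p ⊤) (hQ p hp) _ _)
  exact hy.symm.trans ((congrArg _ (@Subsingleton.elim (CohTop.HU (sub A') p ⊤) (h' p hp) y 0)).trans
    (map_zero _))

omit hA' hle hg hgen in
lemma C.of_subsingleton {M : CohTop.Ab X} (h : ∀ V : Opens X, Subsingleton (M.obj.obj (op V))) :
    C d M := fun p hp => by
  obtain ⟨q, rfl⟩ : ∃ q, p = q + 1 := ⟨p - 1, by omega⟩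
  have : TopCat.Sheaf.IsFlasque M := ⟨fun {U V} i =>
    (AddCommGrpCat.epi_iff_surjective _).2 fun s => ⟨0, @Subsingleton.elim _ (h _) _ _⟩⟩
  exact Flasque.HU_subsingleton M q ⊤

omit hA' hle hg hgen in
/-- Directed unions. -/
theorem C.union [CompactSpace X] [PrespectralSpace X] [QuasiSeparatedSpace X]
    {ι : Type u} [Preorder ι] [IsDirected ι (· ≤ ·)] [Nonempty ι]
    (B : ι → ∀ y : X, AddSubgroup (St F y)) (hmono : ∀ i j, i ≤ j → ∀ y, B i y ≤ B j y)
    (hB : ∀ i y, B i y ≤ A y)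
    (hcov : ∀ (V : Opens X) (s : F.obj.obj (op V)), s ∈ sec A V → ∀ x ∈ V,
      ∃ (i : ι) (W : Opens X) (hW : W ≤ V), x ∈ W ∧ rs F hW s ∈ sec (B i) W)
    (h : ∀ i, C d (sub (B i))) : C d (sub A) := by
  let D : ι ⥤ CohTop.Ab X :=
    { obj := fun i => sub (B i)
      map := fun {i j} f => subLE (hmono i j (leOfHom f))
      map_id := fun i => by ext V s; rfl
      map_comp := fun f g => by ext V s; rfl }
  let co : Cocone D :=
    { pt := sub A
      ι := { app := fun i => subLE (hB i)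
             naturality := fun i j f => by ext V s; rfl } }
  let φ : colimit D ⟶ sub A := colimit.desc D co
  have hφ : ∀ i (V : Opens X) (t : (D.obj i).obj.obj (op V)),
      ((φ.hom.app (op V)).hom (((colimit.ι D i).hom.app (op V)).hom t)).1 = t.1 := fun i V t =>
    congrArg Subtype.val (ConcreteCategory.congr_hom (congr($(colimit.ι_desc co i).hom.app (op V))) t)
  have hrep : ∀ (q : ℕ) (V : Opens X), IsCompact (V : Set X) → ∀ x : CohTop.HU (colimit D) q V,
      ∃ (i : ι) (y : CohTop.HU (D.obj i) q V), CohTop.HUmap (colimit.ι D i) q V y = x := by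
    intro q V hV x
    have := Groth.Agent.S0468.result V hV ι q
    exact Concrete.isColimit_exists_rep _ (isColimitOfPreserves
      ((Sheaf.cohomologyPresheafFunctor (Opens.grothendieckTopology X) q).flip.obj (op V))
      (colimit.isColimit D)) x
  have : Mono φ := mono_of_injective φ fun V => (injective_iff_map_eq_zero _).2 fun a ha => by
    refine eq_zero_of_locally (colimit D) a fun x hx => ?_
    obtain ⟨W, hWc, hxW, hW⟩ := exists_compact_nbhd hx
    refine ⟨W, hW, hxW, ?_⟩
    obtain ⟨i, y, hy⟩ := hrep 0 W hWc ((HU0Equiv _ W).symm (rs (colimit D) hW a))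
    have ht : ((colimit.ι D i).hom.app (op W)).hom (HU0Equiv (D.obj i) W y) = rs (colimit D) hW a :=
      (HU0Equiv_map _ W y).symm.trans ((congrArg (HU0Equiv _ W) hy).trans (AddEquiv.apply_symm_apply _ _))
    have h0 : HU0Equiv (D.obj i) W y = 0 := Subtype.ext ((hφ i W _).symm.trans
      (congrArg Subtype.val ((congrArg (φ.hom.app (op W)).hom ht).trans
        ((rs_app φ hW a).trans ((congrArg (rs (sub A) hW) ha).trans (map_zero _))))))
    exact ht.symm.trans ((congrArg _ h0).trans (map_zero _))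
  have : Epi φ := epi_of_locally φ fun V s x hx => by
    obtain ⟨i, W, hW, hxW, hs⟩ := hcov V s.1 s.2 x hx
    exact ⟨W, hW, hxW, ((colimit.ι D i).hom.app (op W)).hom ⟨rs F hW s.1, hs⟩,
      Subtype.ext (hφ i W _)⟩
  have := isIso_of_mono_of_epi φ
  intro p hp
  refine subsingleton_of_forall_eq 0 fun x => ?_
  obtain ⟨i, y, hy⟩ := hrep p ⊤ isCompact_univ (CohTop.HUmap (inv φ) p ⊤ x)
  rw [@Subsingleton.elim (CohTop.HU (D.obj i) p ⊤) (h i p hp) y 0, map_zero] at hy
  calc x = CohTop.HUmap φ p ⊤ (CohTop.HUmap (inv φ) p ⊤ x) := by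
        rw [← HUmap_comp, IsIso.inv_hom_id, HUmap_id]
    _ = 0 := by rw [← hy, map_zero]

end Groth.Agent.CohTop.SubStalk
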