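import Groth.Agent.LimTower.SheafTower
import Groth.Agent.LimTower.SixTerm
import Groth.Agent.CohAff.Godement

/-!
# The `lim¹` sequence for the cohomology of a limit of a tower of sheaves

The tower is embedded in its Godement tower and degrees are shifted.
-/

universe u

open CategoryTheory CategoryTheory.Limits Opposite TopologicalSpace

set_option synthInstance.maxHeartbeats 200000

namespace Groth.Agent.CohTop.TowerMilnor

open Groth.Agent.CohTop.Basic Groth.Agent.CohTop.Vanishing Groth.Agent.LimTower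
  Groth.Agent.LimTower.SheafTower

variable {X : TopCat.{u}}

instance hasLimitsNat : HasLimitsOfShape ℕᵒᵖ (CohTop.Ab X) :=
  inferInstanceAs (HasLimitsOfShape ℕᵒᵖ (CategoryTheory.Sheaf _ AddCommGrpCat.{u}))

/-- The Godement functor. -/
noncomputable abbrev gdF : CohTop.Ab X ⥤ CohTop.Ab X where
  obj F := CohAff.gd F
  map φ := CohAff.gdMap φ
  map_id F := by
    apply CategoryTheory.Sheaf.hom_ext
    ext V s
    funext p
    exact ConcreteCategory.congr_hom ((TopCat.Presheaf.stalkFunctor AddCommGrpCat.{u} p.1).map_id F.obj) (s p)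
  map_comp {F G K} φ ψ := by
    apply CategoryTheory.Sheaf.hom_ext
    ext V s
    funext p
    exact ConcreteCategory.congr_hom
      ((TopCat.Presheaf.stalkFunctor AddCommGrpCat.{u} p.1).map_comp φ.hom ψ.hom) (s p)

/-- The quotient functor. -/
noncomputable abbrev qtF : CohTop.Ab X ⥤ CohTop.Ab X where
  obj F := CohAff.qt F
  map {F G} φ := cokernel.map _ _ φ (gdF.map φ) (CohAff.η_naturality φ).symm
  map_id F := by
    refine coequalizer.hom_ext ((cokernel.π_desc _ _ _).trans ?_)
    rw [CategoryTheory.Functor.map_id]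
    exact (Category.id_comp _).trans (Category.comp_id _).symm
  map_comp {F G K} φ ψ := by
    refine coequalizer.hom_ext ((cokernel.π_desc _ _ _).trans ?_)
    rw [gdF.map_comp]
    refine Eq.trans ?_ (Category.assoc _ _ _)
    refine Eq.trans ?_ (congrArg (· ≫ _) (cokernel.π_desc _ _ _).symm)
    rw [Category.assoc, Category.assoc]
    exact congrArg (_ ≫ ·) (cokernel.π_desc _ _ _).symm

/-- The embedding, as a natural transformation. -/
noncomputable def ηN : 𝟭 (CohTop.Ab X) ⟶ gdF where
  app F := CohAff.η F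
  naturality _ _ φ := CohAff.η_naturality φ

/-- The projection, as a natural transformation. -/
noncomputable def πN : (gdF : CohTop.Ab X ⥤ _) ⟶ qtF where
  app F := cokernel.π (CohAff.η F)
  naturality _ _ φ := (cokernel.π_desc _ _ _).symm

instance isFlasque_gd (F : CohTop.Ab X) : TopCat.Sheaf.IsFlasque (gdF.obj F) := by
  classical
  exact ⟨fun {U V} i => (AddCommGrpCat.epi_iff_surjective _).2 fun s =>
    ⟨fun p => if h : p.1 ∈ V.unop then s ⟨p.1, h⟩ else 0,
      funext fun p => dif_pos p.2⟩⟩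

variable (F : ℕᵒᵖ ⥤ CohTop.Ab X)

/-- The tower `G` of Godement sheaves. -/
noncomputable abbrev GT : ℕᵒᵖ ⥤ CohTop.Ab X where
  obj n := CohAff.gd (F.obj n)
  map f := CohAff.gdMap (F.map f)
  map_id n := (F ⋙ gdF).map_id n
  map_comp f g := (F ⋙ gdF).map_comp f g

/-- The quotient tower. -/
noncomputable abbrev QT : ℕᵒᵖ ⥤ CohTop.Ab X where
  obj n := CohAff.qt (F.obj n)
  map f := qtF.map (F.map f)
  map_id n := (F ⋙ qtF).map_id n
  map_comp f g := (F ⋙ qtF).map_comp f g

instance (priority := high) hasLimit_GT : HasLimit (GT F) := HasLimitsOfShape.has_limit _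

instance (priority := high) hasLimit_QT : HasLimit (QT F) := HasLimitsOfShape.has_limit _

/-- The sequence at one index. -/
noncomputable abbrev sq (n : ℕᵒᵖ) : ShortComplex (CohTop.Ab X) :=
  ShortComplex.mk (CohAff.η (F.obj n)) (cokernel.π (CohAff.η (F.obj n))) (cokernel.condition _)

lemma sq_shortExact (n : ℕᵒᵖ) : (sq F n).ShortExact := CohAff.gdSeq_shortExact _

/-- The transition maps of the sequences. -/
noncomputable def sqMap {i j : ℕᵒᵖ} (f : i ⟶ j) : sq F i ⟶ sq F j :=
  ShortComplex.homMk (F.map f) ((GT F).map f) ((QT F).map f)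
    (CohAff.η_naturality (F.map f)) (cokernel.π_desc _ _ _).symm

/-- The embedding of towers. -/
noncomputable def ηT : F ⟶ GT F where
  app n := CohAff.η (F.obj n)
  naturality _ _ f := CohAff.η_naturality (F.map f)

/-- The projection of towers. -/
noncomputable def πT : GT F ⟶ QT F where
  app n := cokernel.π (CohAff.η (F.obj n))
  naturality _ _ f := (cokernel.π_desc _ _ _).symm

/-- The limit of the embeddings. -/
noncomputable abbrev limι : (limit F : CohTop.Ab X) ⟶ limit (GT F) :=
  limMap (ηT F)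

/-- The limit of the projections. -/
noncomputable abbrev limπ : (limit (GT F) : CohTop.Ab X) ⟶ limit (QT F) :=
  limMap (πT F)

lemma limι_app (U : Opens X) (z : (limit F : CohTop.Ab X).obj.obj (op U)) (n : ℕᵒᵖ) :
    ((limit.π (GT F) n).hom.app (op U)).hom (((limι F).hom.app (op U)).hom z) =
      ((CohAff.η (F.obj n)).hom.app (op U)).hom (((limit.π F n).hom.app (op U)).hom z) :=
  ConcreteCategory.congr_hom (congrArg (fun φ => φ.hom.app (op U))
    (limMap_π (ηT F) n)) z

lemma limπ_app (U : Opens X) (z : (limit (GT F) : CohTop.Ab X).obj.obj (op U)) (n : ℕᵒᵖ) :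
    ((limit.π (QT F) n).hom.app (op U)).hom (((limπ F).hom.app (op U)).hom z) =
      ((cokernel.π (CohAff.η (F.obj n))).hom.app (op U)).hom (((limit.π (GT F) n).hom.app (op U)).hom z) :=
  ConcreteCategory.congr_hom (congrArg (fun φ => φ.hom.app (op U))
    (limMap_π (πT F) n)) z

/-- The limit sequence. -/
noncomputable def T : ShortComplex (CohTop.Ab X) :=
  ShortComplex.mk (limι F) (limπ F) (limit.hom_ext fun n => by
    rw [Category.assoc, limMap_π, limMap_π_assoc, zero_comp]
    exact (congrArg (limit.π F n ≫ ·) (cokernel.condition (CohAff.η (F.obj n)))).trans comp_zero)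

instance isFlasque_lim_gd : TopCat.Sheaf.IsFlasque (limit (GT F) : CohTop.Ab X) := by
  classical
  refine ⟨fun {U V} i => (AddCommGrpCat.epi_iff_surjective _).2 fun s => ?_⟩
  obtain ⟨z, hz⟩ := exists_section (GT F) U.unop
    (fun n (p : U.unop) => if h : p.1 ∈ V.unop then ((limit.π (GT F) n).hom.app V).hom s ⟨p.1, h⟩ else 0)
    fun a b f => funext fun (p : U.unop) => by
      show ((TopCat.Presheaf.stalkFunctor _ p.1).map (F.map f).hom).hom
        (if h : p.1 ∈ V.unop then _ else 0) = _
      by_cases h : p.1 ∈ V.unop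
      · refine (congrArg _ (dif_pos h)).trans (Eq.trans ?_ (dif_pos h).symm)
        exact congrFun (compat_section (GT F) V.unop s a b f) ⟨p.1, h⟩
      · refine (congrArg _ (dif_neg h)).trans (Eq.trans ?_ (dif_neg h).symm)
        exact map_zero _
  refine ⟨z, ext_section (GT F) V.unop _ _ fun n => ?_⟩
  refine (rs_app (limit.π (GT F) n) (leOfHom i.unop) z).trans ?_
  rw [hz n]
  exact funext fun p => dif_pos p.2

variable (B : Set (Opens X)) (hB : Opens.IsBasis B)
  (hsurj : ∀ V ∈ B, ∀ n : ℕ,
    Function.Surjective ((F.map (homOfLE (Nat.le_succ n)).op).hom.app (op V)).hom)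
  (hvan : ∀ V ∈ B, ∀ (n i : ℕ), 0 < i → Subsingleton (CohTop.HU (F.obj (op n)) i V))

include hvan in
lemma π_surjective (V : Opens X) (hV : V ∈ B) (n : ℕᵒᵖ) :
    Function.Surjective ((cokernel.π (CohAff.η (F.obj n))).hom.app (op V)).hom := fun c => by
  have := hvan V hV n.unop 1 Nat.one_pos
  exact (Push.sectδ_eq_zero_iff (sq_shortExact F n) V c).1
    (@Subsingleton.elim (CohTop.HU (F.obj n) 1 V) this _ _)

include hB hsurj in
lemma gd_surjective (U : Opens X) (n : ℕ) :
    Function.Surjective (((GT F).map (homOfLE (Nat.le_succ n)).op).hom.app (op U)).hom := by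
  have h : ∀ (p : X) (t : TopCat.Presheaf.stalk (C := AddCommGrpCat.{u}) (X := X) (F.obj (op n)).obj p),
      ∃ t', ((TopCat.Presheaf.stalkFunctor _ p).map (F.map (homOfLE (Nat.le_succ n)).op).hom).hom t' = t := by
    intro p t
    obtain ⟨W, hp, s, rfl⟩ := TopCat.Presheaf.exists_germ_eq (C := AddCommGrpCat.{u}) (X := X) _ t
    obtain ⟨V, hV, hpV, hVW⟩ := Opens.isBasis_iff_nbhd.1 hB hp
    obtain ⟨a, ha⟩ := hsurj V hV n (rs _ hVW s)
    refine ⟨(TopCat.Presheaf.germ (C := AddCommGrpCat.{u}) (X := X) _ V p hpV).hom a, ?_⟩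
    refine (TopCat.Presheaf.stalkFunctor_map_germ_apply V p hpV _ a).trans ?_
    exact (congrArg _ ha).trans (TopCat.Presheaf.germ_res_apply _ (homOfLE hVW) p hpV s)
  choose r hr using h
  intro g
  exact ⟨fun p => r p.1 (g p), funext fun p => hr p.1 (g p)⟩

include hB hsurj hvan in
theorem T_shortExact : (T F).ShortExact := by
  have hm : Mono (T F).f := (sheafToPresheaf _ _).mono_of_mono_map (by
    have : ∀ V, Mono (((sheafToPresheaf _ _).map (T F).f).app V) := fun V => by
      refine (AddCommGrpCat.mono_iff_injective _).2 fun a b hab => ext_section F V.unop a b fun n => ?_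
      refine CohAff.η_app_injective (F.obj n) V.unop ?_
      exact (limι_app F V.unop a n).symm.trans ((congrArg _ hab).trans (limι_app F V.unop b n))
    exact NatTrans.mono_of_mono_app _)
  have he : Epi (T F).g := (CategoryTheory.Sheaf.isLocallySurjective_iff_epi' AddCommGrpCat.{u} _).1
    ((TopCat.Presheaf.isLocallySurjective_iff _).2 fun W y x hx => by
      obtain ⟨V, hV, hxV, hVW⟩ := Opens.isBasis_iff_nbhd.1 hB hx
      refine ⟨V, hVW, ?_, hxV⟩
      obtain ⟨b, hb, hby⟩ := LimTower.Basic.exists_lift (A := F ⋙ Ev V) (B := GT F ⋙ Ev V)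
        (C := QT F ⋙ Ev V) ⟨Set.univ, Set.countable_univ, fun i => ⟨i, trivial, le_rfl⟩⟩
        (Functor.whiskerRight (ηT F) (Ev V))
        (Functor.whiskerRight (πT F) (Ev V))
        (fun n b hb => sections_exact (sq_shortExact F n) V b hb)
        (fun n a => ConcreteCategory.congr_hom
          (congr(($(cokernel.condition (CohAff.η (F.obj n)))).hom.app (op V))) a)
        (ml_of_surjective _ fun n => hsurj V hV n)
        (fun n => ((limit.π (QT F) n).hom.app (op V)).hom (rs (limit (QT F)) hVW y))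
        (compat_section (QT F) V _)
        (fun n => π_surjective F B hvan V hV n _)
      obtain ⟨z, hz⟩ := exists_section (GT F) V b hb
      refine ⟨z, ext_section (QT F) V _ _ fun n => ?_⟩
      exact (limπ_app F V z n).trans ((congrArg _ (hz n)).trans (hby n)))
  refine ShortComplex.ShortExact.mk' ?_ hm he
  refine (TopCat.Sheaf.exact_iff_stalkFunctor_map_exact (C := AddCommGrpCat.{u}) (X := X) (T F)).2 fun p => ?_
  rw [ShortComplex.ab_exact_iff]
  intro t ht
  obtain ⟨W, hp, b, rfl⟩ := TopCat.Presheaf.exists_germ_eq (C := AddCommGrpCat.{u}) (X := X)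
    (T F).X₂.obj t
  have h0 : (TopCat.Presheaf.germ (C := AddCommGrpCat.{u}) (X := X) (T F).X₃.obj W p hp).hom
      (((limπ F).hom.app (op W)).hom b) = 0 :=
    (TopCat.Presheaf.stalkFunctor_map_germ_apply W p hp (T F).g.hom b).symm.trans ht
  obtain ⟨V, hpV, i₁, i₂, e⟩ := TopCat.Presheaf.germ_eq (C := AddCommGrpCat.{u}) (X := X)
    (T F).X₃.obj p hp hp _ 0 (h0.trans (map_zero _).symm)
  have hbV : ((limπ F).hom.app (op V)).hom (rs (limit (GT F)) (leOfHom i₁) b) = 0 :=
    (rs_app (limπ F) (leOfHom i₁) b).trans (e.trans (map_zero _))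
  have hn : ∀ n, ∃ a, ((CohAff.η (F.obj n)).hom.app (op V)).hom a =
      ((limit.π (GT F) n).hom.app (op V)).hom (rs (limit (GT F)) (leOfHom i₁) b) := fun n =>
    sections_exact (sq_shortExact F n) V _ ((limπ_app F V _ n).symm.trans
      ((congrArg _ hbV).trans (map_zero _)))
  choose a ha using hn
  obtain ⟨z, hz⟩ := exists_section F V a fun i j f =>
    CohAff.η_app_injective (F.obj j) V (by
      refine Eq.trans ?_ ((compat_section (GT F) V (rs (limit (GT F)) (leOfHom i₁) b) i j f).trans (ha j).symm)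
      refine Eq.trans ?_ (congrArg _ (ha i))
      exact ConcreteCategory.congr_hom
        (congrArg (fun φ => φ.hom.app (op V)) (CohAff.η_naturality (F.map f))) (a i))
  refine ⟨(TopCat.Presheaf.germ (C := AddCommGrpCat.{u}) (X := X) (T F).X₁.obj V p hpV).hom z, ?_⟩
  refine (TopCat.Presheaf.stalkFunctor_map_germ_apply V p hpV (T F).f.hom z).trans ?_
  refine Eq.trans (congrArg _ (ext_section (GT F) V _ (rs (limit (GT F)) (leOfHom i₁) b) fun n =>
    (limι_app F V z n).trans ((congrArg _ (hz n)).trans (ha n)))) ?_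
  exact TopCat.Presheaf.germ_res_apply _ (homOfLE (leOfHom i₁)) p hpV b

/-- Naturality of the connecting map. -/
lemma δ_nat {S S' : ShortComplex (CohTop.Ab X)} (hS : S.ShortExact) (hS' : S'.ShortExact)
    (φ : S ⟶ S') (U : Opens X) {a b : ℕ} (h : a + 1 = b) (x : CohTop.HU S.X₃ a U) :
    CohTop.HUmap φ.τ₁ b U (δ hS U a b h x) = δ hS' U a b h (CohTop.HUmap φ.τ₃ a U x) := by
  refine (Abelian.Ext.comp_assoc_of_third_deg_zero
    (x : Abelian.Ext (CohCx.freeSheaf (Opens.grothendieckTopology X) U) S.X₃ a) hS.extClass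
    (Abelian.Ext.mk₀ φ.τ₁) h).trans ?_
  rw [ShortComplex.ShortExact.extClass_naturality hS hS' φ]
  exact (Abelian.Ext.comp_assoc_of_second_deg_zero _ _ _ _).symm

lemma sectδ_nat {S S' : ShortComplex (CohTop.Ab X)} (hS : S.ShortExact) (hS' : S'.ShortExact)
    (φ : S ⟶ S') (U : Opens X) (x : S.X₃.obj.obj (op U)) :
    CohTop.HUmap φ.τ₁ 1 U (Push.sectδ hS U x) =
      Push.sectδ hS' U ((φ.τ₃.hom.app (op U)).hom x) := by
  refine (δ_nat hS hS' φ U rfl _).trans (congrArg (δ hS' U 0 1 rfl) ?_)
  apply (HU0Equiv S'.X₃ U).injective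
  exact (HU0Equiv_map φ.τ₃ U _).trans ((congrArg (φ.τ₃.hom.app (op U)).hom
    ((HU0Equiv S.X₃ U).apply_symm_apply x)).trans ((HU0Equiv S'.X₃ U).apply_symm_apply _).symm)

/-- The projection of the limit sequence to the `n`th one. -/
noncomputable def toSq (n : ℕᵒᵖ) : T F ⟶ sq F n :=
  ShortComplex.homMk (limit.π F n) (limit.π (GT F) n) (limit.π (QT F) n)
    (limMap_π (ηT F) n).symm
    (limMap_π (πT F) n).symm

/-- The conclusion: surjectivity to the limit, and the kernel is `lim¹`. -/
def Conc (U : Opens X) (j : ℕ) : Prop :=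
  (∀ ξ : ∀ n : ℕ, CohTop.HU (F.obj (op n)) (j + 1) U,
      (∀ n, CohTop.HUmap (F.map (homOfLE (Nat.le_succ n)).op) (j + 1) U (ξ (n + 1)) = ξ n) →
        ∃ η : CohTop.HU (limit F) (j + 1) U, ∀ n, CohTop.HUmap (limit.π F (op n)) (j + 1) U η = ξ n) ∧
    Nonempty ((AddMonoidHom.pi fun n : ℕ => CohTop.HUmap (limit.π F (op n)) (j + 1) U).ker ≃+
      Formal2.limOne (fun n : ℕ => CohTop.HU (F.obj (op n)) j U)
        (fun n : ℕ => CohTop.HUmap (F.map (homOfLE (Nat.le_succ n)).op) j U))

include hB hsurj hvan in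
theorem conc_zero (U : Opens X) : Conc F U 0 := by
  have hT := T_shortExact F B hB hsurj hvan
  let D : LimTower.SixTerm.Data (fun n : ℕ => (F.obj (op n)).obj.obj (op U))
      (fun n : ℕ => ((GT F).obj (op n)).obj.obj (op U)) (fun n : ℕ => ((QT F).obj (op n)).obj.obj (op U))
      (fun n : ℕ => CohTop.HU (F.obj (op n)) 1 U) ((limit (GT F) : CohTop.Ab X).obj.obj (op U))
      ((limit (QT F) : CohTop.Ab X).obj.obj (op U)) (CohTop.HU (limit F) 1 U) :=
    { tA := fun n => ((F.map (homOfLE (Nat.le_succ n)).op).hom.app (op U)).hom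
      tG := fun n => (((GT F).map (homOfLE (Nat.le_succ n)).op).hom.app (op U)).hom
      tQ := fun n => (((QT F).map (homOfLE (Nat.le_succ n)).op).hom.app (op U)).hom
      tH := fun n => CohTop.HUmap (F.map (homOfLE (Nat.le_succ n)).op) 1 U
      i := fun n => ((CohAff.η (F.obj (op n))).hom.app (op U)).hom
      p := fun n => ((cokernel.π (CohAff.η (F.obj (op n)))).hom.app (op U)).hom
      δ := fun n => Push.sectδ (sq_shortExact F (op n)) U
      i_inj := fun n => CohAff.η_app_injective _ U
      ex_G := fun n => sections_exact (sq_shortExact F (op n)) U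
      p_i := fun n a => ConcreteCategory.congr_hom
        (congr(($(cokernel.condition (CohAff.η (F.obj (op n))))).hom.app (op U))) a
      ex_Q := fun n q => Push.sectδ_eq_zero_iff (sq_shortExact F (op n)) U q
      δ_surj := fun n => Push.sectδ_surjective _ U
        (@Flasque.HU_subsingleton _ _ (isFlasque_gd (F.obj (op n))) 0 U)
      c_i := fun n a => ConcreteCategory.congr_hom (congrArg (fun φ => φ.hom.app (op U))
        (CohAff.η_naturality (F.map (homOfLE (Nat.le_succ n)).op))) a
      c_p := fun n g => ConcreteCategory.congr_hom (congrArg (fun φ => φ.hom.app (op U))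
        ((πT F).naturality (homOfLE (Nat.le_succ n)).op)) g
      c_δ := fun n q => (sectδ_nat _ _ (sqMap F _) U q).symm
      tG_surj := fun n => gd_surjective F B hB hsurj U n
      πG := fun n => ((limit.π (GT F) (op n)).hom.app (op U)).hom
      πQ := fun n => ((limit.π (QT F) (op n)).hom.app (op U)).hom
      πH := fun n => CohTop.HUmap (limit.π F (op n)) 1 U
      pL := ((limπ F).hom.app (op U)).hom
      δL := Push.sectδ hT U
      compat_G := fun n a => compat_section (GT F) U a (op (n + 1)) (op n) _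
      compat_Q := fun n a => compat_section (QT F) U a (op (n + 1)) (op n) _
      ext_Q := fun a b h => ext_section (QT F) U a b fun n => h n.unop
      exists_Q := fun a ha => (exists_section (QT F) U (fun i => a i.unop)
        (compat_nat (QT F ⋙ Ev U) a ha)).imp fun z hz n => hz (op n)
      exists_G := fun a ha => (exists_section (GT F) U (fun i => a i.unop)
        (compat_nat (GT F ⋙ Ev U) a ha)).imp fun z hz n => hz (op n)
      c_pL := fun n x => limπ_app F U x (op n)
      c_δL := fun n a => sectδ_nat hT (sq_shortExact F (op n)) (toSq F (op n)) U a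
      ex_LQ := fun a => Push.sectδ_eq_zero_iff hT U a
      δL_surj := Push.sectδ_surjective hT U
        (@Flasque.HU_subsingleton _ (T F).X₂ (isFlasque_lim_gd F) 0 U) }
  refine ⟨D.surj, ?_⟩
  obtain ⟨k⟩ := D.ker
  obtain ⟨c⟩ := LimTower.Equiv.congrLimOne (A := fun n : ℕ => CohTop.HU (F.obj (op n)) 0 U)
    (B := fun n : ℕ => (F.obj (op n)).obj.obj (op U))
    (fun n : ℕ => CohTop.HUmap (F.map (homOfLE (Nat.le_succ n)).op) 0 U)
    (fun n : ℕ => ((F.map (homOfLE (Nat.le_succ n)).op).hom.app (op U)).hom)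
    (fun n => HU0Equiv (F.obj (op n)) U) (fun n x => HU0Equiv_map _ U x)
  exact ⟨k.trans c.symm⟩

include hvan in
lemma van_qt (V : Opens X) (hV : V ∈ B) (n i : ℕ) (hi : 0 < i) :
    Subsingleton (CohTop.HU ((QT F).obj (op n)) i V) := by
  have h₁ := @Flasque.HU_subsingleton _ _ (isFlasque_gd (F.obj (op n)))
  have := hvan V hV n (i + 1) (by omega)
  refine subsingleton_of_forall_eq 0 fun x => ?_
  obtain ⟨y, hy⟩ := HU_exact₃ (sq_shortExact F (op n)) V (rfl : i + 1 = i + 1) x
    (@Subsingleton.elim (CohTop.HU (F.obj (op n)) (i + 1) V) this _ _)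
  obtain ⟨k, rfl⟩ : ∃ k, i = k + 1 := ⟨i - 1, by omega⟩
  have := h₁ k V
  exact hy.symm.trans ((congrArg _ (@Subsingleton.elim _ (h₁ k V) y 0)).trans (map_zero _))

include hB hsurj hvan in
lemma surj_qt (V : Opens X) (hV : V ∈ B) (n : ℕ) :
    Function.Surjective (((QT F).map (homOfLE (Nat.le_succ n)).op).hom.app (op V)).hom := fun c => by
  obtain ⟨g, rfl⟩ := π_surjective F B hvan V hV (op n) c
  obtain ⟨g', rfl⟩ := gd_surjective F B hB hsurj V n g
  exact ⟨((cokernel.π (CohAff.η (F.obj (op (n + 1))))).hom.app (op V)).hom g',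
    (ConcreteCategory.congr_hom (congrArg (fun φ => φ.hom.app (op V))
      (πN.naturality (F.map (homOfLE (Nat.le_succ n)).op))) g').symm⟩

include hB hsurj in
lemma congr_step (U : Opens X) : Nonempty
    (Formal2.limOne (fun n : ℕ => CohTop.HU ((QT F).obj (op n)) 0 U)
        (fun n : ℕ => CohTop.HUmap ((QT F).map (homOfLE (Nat.le_succ n)).op) 0 U) ≃+
      Formal2.limOne (fun n : ℕ => CohTop.HU (F.obj (op n)) 1 U)
        (fun n : ℕ => CohTop.HUmap (F.map (homOfLE (Nat.le_succ n)).op) 1 U)) :=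
  LimTower.Equiv.congrLimOne_of_surjective
    (K := fun n : ℕ => CohTop.HU ((GT F).obj (op n)) 0 U)
    (fun n : ℕ => CohTop.HUmap ((GT F).map (homOfLE (Nat.le_succ n)).op) 0 U) _ _
    (fun n => CohTop.HUmap (sq F (op n)).g 0 U)
    (fun n => δ (sq_shortExact F (op n)) U 0 1 rfl)
    (fun n y => by
      obtain ⟨g, hg⟩ := gd_surjective F B hB hsurj U n (HU0Equiv _ U y)
      refine ⟨(HU0Equiv _ U).symm g, (HU0Equiv _ U).injective ?_⟩
      rw [HU0Equiv_map, AddEquiv.apply_symm_apply, hg])
    (fun n x => by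
      refine (HUmap_comp _ _ 0 U x).symm.trans ((congrArg (fun φ => CohTop.HUmap φ 0 U x) ?_).trans
        (HUmap_comp _ _ 0 U x))
      exact πN.naturality (F.map (homOfLE (Nat.le_succ n)).op))
    (fun n x => (δ_nat _ _ (sqMap F _) U rfl x).symm)
    (fun n z => HU_exact₁ (sq_shortExact F (op n)) U rfl z
      (@Subsingleton.elim _ (@Flasque.HU_subsingleton _ _ (isFlasque_gd (F.obj (op n))) 0 U) _ _))
    (fun n x hx => HU_exact₃ (sq_shortExact F (op n)) U rfl x hx)
    (fun n x => δ_g (sq_shortExact F (op n)) U rfl x)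

end Groth.Agent.CohTop.TowerMilnor

namespace Groth.Agent.CohTop.TowerMilnor

open Groth.Agent.CohTop.Basic Groth.Agent.LimTower

variable {X : TopCat.{u}} (B : Set (Opens X)) (hB : Opens.IsBasis B)

include hB in
theorem conc (U : Opens X) (j : ℕ) : ∀ (F : ℕᵒᵖ ⥤ CohTop.Ab X)
    (_ : ∀ V ∈ B, ∀ n : ℕ,
      Function.Surjective ((F.map (homOfLE (Nat.le_succ n)).op).hom.app (op V)).hom)
    (_ : ∀ V ∈ B, ∀ (n i : ℕ), 0 < i → Subsingleton (CohTop.HU (F.obj (op n)) i V)),
    Conc F U j := by
  induction j with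
  | zero => exact fun F h h' => conc_zero F B hB h h' U
  | succ j ih =>
    intro F hsurj hvan
    obtain ⟨hs, ⟨eq⟩⟩ := ih (QT F) (surj_qt F B hB hsurj hvan) (van_qt F B hvan)
    have hT := T_shortExact F B hB hsurj hvan
    let eL : CohTop.HU (limit (QT F)) (j + 1) U ≃+ CohTop.HU (limit F) (j + 1 + 1) U :=
      AddEquiv.ofBijective (δ hT U (j + 1) (j + 2) rfl) (Push.δ_bijective hT U
        (@Flasque.HU_subsingleton _ (T F).X₂ (isFlasque_lim_gd F) j U)
        (@Flasque.HU_subsingleton _ (T F).X₂ (isFlasque_lim_gd F) (j + 1) U))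
    let en : ∀ n : ℕ, CohTop.HU ((QT F).obj (op n)) (j + 1) U ≃+ CohTop.HU (F.obj (op n)) (j + 1 + 1) U :=
      fun n => AddEquiv.ofBijective (δ (sq_shortExact F (op n)) U (j + 1) (j + 2) rfl)
        (Push.δ_bijective _ U
          (@Flasque.HU_subsingleton _ _ (isFlasque_gd (F.obj (op n))) j U)
          (@Flasque.HU_subsingleton _ _ (isFlasque_gd (F.obj (op n))) (j + 1) U))
    have hL : ∀ (n : ℕ) x, CohTop.HUmap (limit.π F (op n)) (j + 1 + 1) U (eL x) =
        en n (CohTop.HUmap (limit.π (QT F) (op n)) (j + 1) U x) :=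
      fun n x => δ_nat hT (sq_shortExact F (op n)) (toSq F (op n)) U rfl x
    have hN : ∀ (n : ℕ) x, en n (CohTop.HUmap ((QT F).map (homOfLE (Nat.le_succ n)).op) (j + 1) U x) =
        CohTop.HUmap (F.map (homOfLE (Nat.le_succ n)).op) (j + 1 + 1) U (en (n + 1) x) :=
      fun n x => (δ_nat _ _ (sqMap F _) U rfl x).symm
    refine ⟨fun ξ hξ => ?_, ?_⟩
    · obtain ⟨η, hη⟩ := hs (fun n => (en n).symm (ξ n)) fun n => (en n).injective (by
        rw [hN, AddEquiv.apply_symm_apply, AddEquiv.apply_symm_apply, hξ])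
      exact ⟨eL η, fun n => by rw [hL, hη, AddEquiv.apply_symm_apply]⟩
    · let pQ := AddMonoidHom.pi fun n : ℕ => CohTop.HUmap (limit.π (QT F) (op n)) (j + 1) U
      let pF := AddMonoidHom.pi fun n : ℕ => CohTop.HUmap (limit.π F (op n)) (j + 1 + 1) U
      have hk : AddSubgroup.map eL.toAddMonoidHom pQ.ker = pF.ker := by
        ext x
        constructor
        · rintro ⟨y, hy, rfl⟩
          exact funext fun n => (hL n y).trans
            ((congrArg (en n) (congrFun hy n)).trans (map_zero (en n)))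
        · intro hx
          refine ⟨eL.symm x, funext fun n => (en n).injective ?_, eL.apply_symm_apply x⟩
          refine Eq.trans ?_ (map_zero (en n)).symm
          refine (hL n _).symm.trans ?_
          rw [AddEquiv.apply_symm_apply]
          exact congrFun hx n
      let k : pQ.ker ≃+ pF.ker :=
        (eL.addSubgroupMap pQ.ker).trans (AddEquiv.addSubgroupCongr hk)
      cases j with
      | zero =>
        obtain ⟨c⟩ := congr_step F B hB hsurj U
        exact ⟨k.symm.trans (eq.trans c)⟩
      | succ j =>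
        obtain ⟨c⟩ := LimTower.Equiv.congrLimOne
          (fun n : ℕ => CohTop.HUmap ((QT F).map (homOfLE (Nat.le_succ n)).op) (j + 1) U)
          (fun n : ℕ => CohTop.HUmap (F.map (homOfLE (Nat.le_succ n)).op) (j + 1 + 1) U)
          (fun n => AddEquiv.ofBijective (δ (sq_shortExact F (op n)) U (j + 1) (j + 2) rfl)
            (Push.δ_bijective _ U
              (@Flasque.HU_subsingleton _ _ (isFlasque_gd (F.obj (op n))) j U)
              (@Flasque.HU_subsingleton _ _ (isFlasque_gd (F.obj (op n))) (j + 1) U)))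
          (fun n x => (δ_nat _ _ (sqMap F _) U rfl x).symm)
        exact ⟨k.symm.trans (eq.trans c)⟩

end Groth.Agent.CohTop.TowerMilnor
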